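import Cfsg.Agent.Lib.NCover2.Basic
import Cfsg.Agent.Lib.Classical.SympSimple
import Cfsg.Prelude.Def_Classical

/-! In characteristic two every symplectic transformation preserves a quadratic form polarising the
alternating form, and these forms fall into at most two orbits. -/

set_option autoImplicit false

namespace CfsgLib.NCover2.SympEven

open Matrix CfsgLib.Classical

variable {m : ℕ} {F : Type*} [Field F]

local notation "V" => (Fin m ⊕ Fin m → F)
local notation "Sp" => Matrix.symplecticGroup (Fin m) F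

/-- The hyperbolic quadratic form. -/
def q0 (v : V) : F := ∑ i, v (.inl i) * v (.inr i)

/-- The quadratic forms polarising the alternating form, by a vector. -/
def qf (a v : V) : F := q0 v + sbil a v ^ 2

/-- The isometries of a form. -/
def qStab (a : V) : Subgroup Sp where
  carrier := {g | ∀ v, qf a (g.1 *ᵥ v) = qf a v}
  mul_mem' {g h} hg hh := fun v => by rw [sp_mul_mulVec, hg, hh]
  one_mem' := fun v => by rw [sp_one_mulVec]
  inv_mem' {g} hg := fun v => by
    have := hg ((g⁻¹).1 *ᵥ v)
    rw [sp_mulVec_inv] at this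
    exact this.symm

theorem qf_smul (a : V) (c : F) (v : V) : qf a (c • v) = c ^ 2 * qf a v := by
  simp only [qf, q0, sbil_smul_right, mul_add, Finset.mul_sum, Pi.smul_apply, smul_eq_mul]
  congr 1
  · exact Finset.sum_congr rfl fun i _ => by ring
  · ring

variable [CharP F 2]

theorem q0_add (u v : V) : q0 (u + v) = q0 u + q0 v + sbil u v := by
  simp only [q0, sbil_apply, ← Finset.sum_add_distrib, Pi.add_apply]
  exact Finset.sum_congr rfl fun i _ => by rw [CharTwo.sub_eq_add]; ring

theorem qf_add (a u v : V) : qf a (u + v) = qf a u + qf a v + sbil u v := by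
  simp only [qf, q0_add, sbil_add_right, add_sq, CharTwo.two_eq_zero, zero_mul, add_zero]
  ring

theorem qf_stv (a w : V) (c : F) (v : V) :
    qf a ((stv c w).1 *ᵥ v) = qf a v + sbil w v ^ 2 * (c ^ 2 * qf a w + c) := by
  rw [stv_mulVec, qf_add, qf_smul, sbil_smul_right, sbil_swap w v, CharTwo.neg_eq]
  ring

theorem qf_shift (a w v : V) : qf a v + sbil w v ^ 2 = qf (a + w) v := by
  simp only [qf, sbil_add_left, add_sq, CharTwo.two_eq_zero, zero_mul, add_zero]
  ring

variable [Finite F]

/-- A linear functional is the pairing with a vector. -/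
theorem exists_vec (f : V →ₗ[F] F) : ∃ b : V, ∀ v, sbil b v = f v := by
  refine ⟨Sum.elim (fun i => f (Pi.single (.inr i) 1)) (fun i => f (Pi.single (.inl i) 1)), fun v => ?_⟩
  conv_rhs => rw [pi_eq_sum_univ' v, map_sum]
  rw [sbil_apply, Fintype.sum_sum_type, ← Finset.sum_add_distrib]
  refine Finset.sum_congr rfl fun i _ => ?_
  rw [CharTwo.sub_eq_add]
  simp only [Sum.elim_inl, Sum.elim_inr, map_smul, smul_eq_mul]
  ring

theorem exists_fixed_form (g : Sp) : ∃ a : V, g ∈ qStab a := by
  haveI := Fintype.ofFinite F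
  haveI : ExpChar F 2 := ExpChar.prime Nat.prime_two
  haveI : PerfectRing F 2 := inferInstance
  set r : F ≃+* F := (frobeniusEquiv F 2).symm with hr
  have hr2 : ∀ x, r x ^ 2 = x := fun x => by
    rw [hr, ← frobenius_def, ← frobeniusEquiv_apply, RingEquiv.apply_symm_apply]
  have hrsq : ∀ x, r (x ^ 2) = x := fun x => by
    rw [hr, RingEquiv.symm_apply_eq, frobeniusEquiv_apply, frobenius_def]
  set d : V → F := fun v => q0 (g.1 *ᵥ v) + q0 v with hd
  have hq : ∀ v : V, q0 v = qf 0 v := fun v => by simp [qf]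
  let f : V →ₗ[F] F :=
    { toFun := fun v => r (d v)
      map_add' := fun u v => by
        rw [← map_add]
        congr 1
        simp only [hd, mulVec_add, q0_add, sbil_mulVec]
        linear_combination CharTwo.add_self_eq_zero (sbil u v)
      map_smul' := fun c v => by
        rw [RingHom.id_apply, smul_eq_mul]
        conv_rhs => rw [← hrsq c, ← map_mul]
        congr 1
        simp only [hd, mulVec_smul, hq, qf_smul, mul_add] }
  obtain ⟨b, hb⟩ := exists_vec f
  let T : V →ₗ[F] V := Matrix.mulVecLin (g⁻¹).1 + LinearMap.id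
  have hT : ∀ v, T v = (g⁻¹).1 *ᵥ v + v := fun v => rfl
  have hmem : b ∈ LinearMap.range T := by
    by_contra hb'
    obtain ⟨φ, hφb, hφ⟩ := Submodule.exists_le_ker_of_notMem hb'
    obtain ⟨y, hy⟩ := exists_vec φ
    have hfix : g.1 *ᵥ y = y := by
      refine sbil_ext fun x => ?_
      have h1 : sbil y (T x) = 0 := by
        rw [hy]; exact hφ ⟨x, rfl⟩
      rw [hT, sbil_add_right, ← sbil_mulVec g y, sp_mulVec_inv, CharTwo.add_eq_zero] at h1
      exact h1
    apply hφb
    rw [← hy, sbil_swap b y, hb, CharTwo.neg_eq]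
    show r (d y) = 0
    rw [hd]
    show r (q0 (g.1 *ᵥ y) + q0 y) = 0
    rw [hfix, CharTwo.add_self_eq_zero, map_zero]
  obtain ⟨a, ha⟩ := hmem
  refine ⟨a, fun v => ?_⟩
  have h1 : sbil b v ^ 2 = d v := by rw [hb]; exact hr2 _
  have h2 : sbil a (g.1 *ᵥ v) = sbil b v + sbil a v := by
    rw [← ha, hT, sbil_add_left, ← sbil_mulVec g ((g⁻¹).1 *ᵥ a), sp_mulVec_inv, add_assoc,
      CharTwo.add_self_eq_zero, add_zero]
  simp only [qf, h2, add_sq, CharTwo.two_eq_zero, zero_mul, add_zero, h1, hd]
  linear_combination CharTwo.add_self_eq_zero (q0 (g.1 *ᵥ v))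

/-- The values of `y² + y`. -/
def asSub (F : Type*) [Field F] [CharP F 2] : AddSubgroup F :=
  ((frobenius F 2).toAddMonoidHom + AddMonoidHom.id F).range

theorem mem_asSub {x : F} : x ∈ asSub F ↔ ∃ y : F, y ^ 2 + y = x :=
  exists_congr fun _ => by simp [frobenius_def]

theorem asSub_index : (asSub F).index = 2 := by
  set f := (frobenius F 2).toAddMonoidHom + AddMonoidHom.id F with hf
  have hk : Nat.card f.ker = 2 := by
    have e : (f.ker : Set F) = {0, 1} := by
      ext y
      simp only [hf, SetLike.mem_coe, AddMonoidHom.mem_ker, AddMonoidHom.add_apply,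
        RingHom.toAddMonoidHom_eq_coe, AddMonoidHom.coe_coe, frobenius_def, AddMonoidHom.id_apply,
        Set.mem_insert_iff, Set.mem_singleton_iff]
      constructor
      · intro h
        have h' : y * (y + 1) = 0 := by linear_combination h
        rcases mul_eq_zero.1 h' with h'' | h''
        · exact .inl h''
        · exact .inr (CharTwo.add_eq_zero.1 h'')
      · rintro (rfl | rfl)
        · simp
        · rw [one_pow]; exact CharTwo.add_self_eq_zero _
    rw [show Nat.card f.ker = Nat.card ({0, 1} : Set F) from Nat.card_congr (Equiv.setCongr e),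
      Nat.card_coe_set_eq, Set.ncard_pair zero_ne_one]
  have h1 := AddSubgroup.card_mul_index f.ker
  have h2 := AddSubgroup.card_mul_index f.range
  rw [AddSubgroup.index_ker, hk] at h1
  change (f.range).index = 2
  have hpos : 0 < Nat.card f.range := Nat.card_pos
  refine Nat.eq_of_mul_eq_mul_left hpos ?_
  rw [h2, ← h1]
  exact mul_comm _ _

/-- A transvection carries one form to another when the value of the form lies in the subgroup. -/
theorem exists_move {a w : V} (h : qf a w ∈ asSub F) :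
    ∃ x : Sp, ∀ v, qf a (x.1 *ᵥ v) = qf (a + w) v := by
  obtain ⟨c, hc⟩ : ∃ c : F, c ^ 2 * qf a w + c = 1 := by
    obtain ⟨y, hy⟩ := mem_asSub.1 h
    rcases eq_or_ne (qf a w) 0 with h0 | h0
    · exact ⟨1, by simp [h0]⟩
    · refine ⟨y / qf a w, ?_⟩
      field_simp
      linear_combination hy
  exact ⟨stv c w, fun v => by rw [qf_stv, hc, mul_one, qf_shift]⟩

theorem conj_mem {a b : V} {x g : Sp} (hx : ∀ v, qf a (x.1 *ᵥ v) = qf b v) (hg : g ∈ qStab b) :
    x * g * x⁻¹ ∈ qStab a := fun v => by
  rw [sp_mul_mulVec, sp_mul_mulVec, hx, hg, ← hx, sp_mulVec_inv]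

theorem qStab_ne_top (hm : 2 ≤ m) (a : V) : qStab a ≠ ⊤ := by
  intro h
  have hall : ∀ w : V, w ≠ 0 → qf a w = 1 := by
    intro w hw
    obtain ⟨z, hz⟩ := exists_sbil_eq_one hw
    have h1 := (h ▸ Subgroup.mem_top (stv (1 : F) w) : stv (1 : F) w ∈ qStab a) z
    rw [qf_stv, hz] at h1
    simp only [one_pow, one_mul, add_eq_left, CharTwo.add_eq_zero] at h1
    exact h1
  have hsum : ∀ u v : V, u ≠ 0 → v ≠ 0 → u + v ≠ 0 → sbil u v = 1 := fun u v hu hv huv => by
    have := qf_add a u v
    rw [hall u hu, hall v hv, hall _ huv, CharTwo.add_self_eq_zero, zero_add] at this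
    exact this.symm
  have hne : ∀ (i : Fin m), (Pi.single (Sum.inl i) 1 : V) ≠ 0 := fun i h0 => by
    simpa using congrFun h0 (.inl i)
  set e : V := Pi.single (Sum.inl ⟨0, by omega⟩) 1
  set e' : V := Pi.single (Sum.inl ⟨1, by omega⟩) 1
  have h2 := hsum e e' (hne _) (hne _) fun h0 => by
    simpa [e, e', Pi.single_apply, Fin.ext_iff] using congrFun h0 (.inl ⟨0, by omega⟩)
  simp [e, e', sbil_single_inl] at h2

theorem twoCovered (hm : 2 ≤ m) : TwoCovered (Cfsg.PSp m F) := by
  haveI : NeZero m := ⟨by omega⟩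
  have hZ : ∀ a : V, Subgroup.center Sp ≤ qStab a := fun a z hz => by
    rcases sp_eq_one_or_neg_one (fun v => sp_center_apply hz v) with h | h
    · intro v; simp [h]
    · intro v
      have h' : z.1 *ᵥ v = v := by simp [h, CharTwo.neg_eq]
      rw [h']
  by_cases hδ : ∀ w : V, qf 0 w ∈ asSub F
  · refine TwoCovered.quotient _ (hZ 0) (hZ 0) (qStab_ne_top hm 0) (qStab_ne_top hm 0) fun g => ?_
    obtain ⟨a, ha⟩ := exists_fixed_form g
    obtain ⟨x, hx⟩ := exists_move (hδ a)
    rw [zero_add] at hx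
    exact ⟨x, .inl (conj_mem hx ha)⟩
  push Not at hδ
  obtain ⟨a₁, ha₁⟩ := hδ
  refine TwoCovered.quotient _ (hZ 0) (hZ a₁) (qStab_ne_top hm 0) (qStab_ne_top hm a₁) fun g => ?_
  obtain ⟨a, ha⟩ := exists_fixed_form g
  by_cases h0 : qf 0 a ∈ asSub F
  · obtain ⟨x, hx⟩ := exists_move h0
    rw [zero_add] at hx
    exact ⟨x, .inl (conj_mem hx ha)⟩
  · have h1 : qf a₁ (a₁ + a) ∈ asSub F := by
      have e1 : qf a₁ (a₁ + a) = (qf 0 a₁ + qf 0 a) + (sbil a₁ a ^ 2 + sbil a₁ a) := by
        simp only [qf, q0_add, sbil_add_right, sbil_self, sbil_zero_left]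
        ring
      rw [e1]
      exact add_mem ((AddSubgroup.add_mem_iff_of_index_two asSub_index).2 (iff_of_false ha₁ h0))
        (mem_asSub.2 ⟨_, rfl⟩)
    obtain ⟨x, hx⟩ := exists_move h1
    rw [← add_assoc, show a₁ + a₁ = 0 from funext fun i => CharTwo.add_self_eq_zero _, zero_add] at hx
    exact ⟨x, .inr (conj_mem hx ha)⟩

end CfsgLib.NCover2.SympEven
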