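import Cfsg.Agent.Lib.NCover2.Basic
import Cfsg.Agent.Lib.NCover2.SympEven
import Cfsg.Agent.Lib.Involutions.G2SylowTwo

/-! In characteristic two every automorphism of the split octonions stabilises a quadratic etale
subalgebra, and these fall into two orbits. -/

set_option autoImplicit false

namespace CfsgLib.NCover2.G2Even

open Matrix Cfsg.Lie CfsgLib.Involutions.G2Two

variable {F : Type*} [Field F]

local notation "V8" => (Fin 8 → F)

/-- The trace. -/
def tr (x : V8) : F := x 0 + x 7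

/-- The norm. -/
def nrm (x : V8) : F := x 0 * x 7 - dot3 (zA F x) (zB F x)

/-- The identity. -/
def one8 (F : Type*) [Field F] : Fin 8 → F := ![1, 0, 0, 0, 0, 0, 0, 1]

/-- The polar form of the norm. -/
def pb (x y : V8) : F :=
  x 0 * y 7 + x 7 * y 0 - dot3 (zA F x) (zB F y) - dot3 (zA F y) (zB F x)

theorem nrm_add (x y : V8) : nrm (x + y) = nrm x + nrm y + pb x y := by
  simp [nrm, pb, dot3]; ring

theorem tr_add (x y : V8) : tr (x + y) = tr x + tr y := by simp [tr]; ring

theorem tr_smul (c : F) (x : V8) : tr (c • x) = c * tr x := by simp [tr]; ring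

theorem pb_add_left (x y z : V8) : pb (x + y) z = pb x z + pb y z := by simp [pb, dot3]; ring

theorem pb_add_right (x y z : V8) : pb x (y + z) = pb x y + pb x z := by simp [pb, dot3]; ring

theorem pb_smul_left (c : F) (x z : V8) : pb (c • x) z = c * pb x z := by simp [pb, dot3]; ring

theorem pb_smul_right (c : F) (x z : V8) : pb x (c • z) = c * pb x z := by simp [pb, dot3]; ring

theorem pb_sub_left (x y z : V8) : pb (x - y) z = pb x z - pb y z := by simp [pb, dot3]; ring

theorem pb_sub_right (x y z : V8) : pb x (y - z) = pb x y - pb x z := by simp [pb, dot3]; ring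

theorem pb_one_left (x : V8) : pb (one8 F) x = tr x := by simp [pb, dot3, tr, one8]; ring

theorem tr_one8 : tr (one8 F) = 2 := by simp [tr, one8]; ring

theorem nrm_smul_one (c : F) : nrm (c • one8 F) = c ^ 2 := by simp [nrm, dot3, one8]; ring

theorem zorn_self (x : V8) : zornMul x x = tr x • x - nrm x • one8 F := by
  funext i
  fin_cases i <;> simp [zornMul, cross3, tr, nrm, one8, dot3] <;> ring

theorem zorn_one (x : V8) : zornMul x (one8 F) = x := by
  funext i
  fin_cases i <;> simp [zornMul, cross3, one8, dot3]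

theorem one_zorn (x : V8) : zornMul (one8 F) x = x := by
  funext i
  fin_cases i <;> simp [zornMul, cross3, one8, dot3]

theorem ap_sub (g : GL (Fin 8) F) (x y : V8) : ap g (x - y) = ap g x - ap g y :=
  Matrix.mulVec_sub _ _ _

theorem ap_ap_inv (g : GL (Fin 8) F) (x : V8) : ap g (ap g⁻¹ x) = x := by
  rw [← ap_mul, mul_inv_cancel, ap_one]

theorem ap_one8 (g : G2 F) : ap g.1 (one8 F) = one8 F := by
  have h := ap_zorn g (one8 F) (ap (g.1)⁻¹ (one8 F))
  rw [one_zorn, ap_ap_inv, zorn_one] at h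
  exact h.symm

theorem invariants (g : G2 F) (x : V8) : tr (ap g.1 x) = tr x ∧ nrm (ap g.1 x) = nrm x := by
  have h := ap_zorn g x x
  rw [zorn_self, zorn_self, ap_sub, ap_smul, ap_smul, ap_one8] at h
  have h1 : tr (ap g.1 x) = tr x := by
    by_contra hne
    have hx : ap g.1 x = ((nrm (ap g.1 x) - nrm x) / (tr (ap g.1 x) - tr x)) • one8 F := by
      rw [div_eq_inv_mul, mul_smul, eq_inv_smul_iff₀ (sub_ne_zero.2 hne), sub_smul, sub_smul]
      have h' := h.symm
      rw [sub_eq_sub_iff_add_eq_add] at h'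
      rw [sub_eq_sub_iff_add_eq_add]
      linear_combination (norm := module) h'
    have hx' := congrArg (ap (g.1)⁻¹) hx
    rw [ap_inv_ap, ap_smul] at hx'
    have hone : ap (g.1)⁻¹ (one8 F) = one8 F := by
      nth_rw 1 [← ap_one8 g]; rw [ap_inv_ap]
    rw [hone] at hx'
    exact hne (congrArg tr (hx.trans hx'.symm))
  refine ⟨h1, ?_⟩
  rw [h1] at h
  have h' := congrFun (sub_right_injective h) 0
  simpa [one8] using h'.symm

theorem pb_ap (g : G2 F) (x y : V8) : pb (ap g.1 x) (ap g.1 y) = pb x y := by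
  have h1 := nrm_add (ap g.1 x) (ap g.1 y)
  rw [← ap_add, (invariants g _).2, (invariants g _).2, (invariants g _).2, nrm_add] at h1
  linear_combination -h1

theorem exists_vec (φ : V8 →ₗ[F] F) : ∃ y : V8, ∀ x, pb y x = φ x := by
  refine ⟨![φ (Pi.single 7 1), -φ (Pi.single 4 1), -φ (Pi.single 5 1), -φ (Pi.single 6 1),
    -φ (Pi.single 1 1), -φ (Pi.single 2 1), -φ (Pi.single 3 1), φ (Pi.single 0 1)], fun x => ?_⟩
  conv_rhs => rw [pi_eq_sum_univ' x, map_sum, Fin.sum_univ_eight]
  simp only [map_smul, smul_eq_mul]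
  simp [pb, dot3]
  ring

/-- Every automorphism stabilises a coset `e + F` with `e` of trace one. -/
theorem exists_stable [CharP F 2] (g : G2 F) :
    ∃ e : V8, tr e = 1 ∧ ∃ c : F, ap g.1 e = e + c • one8 F := by
  set e0 : V8 := ![1, 0, 0, 0, 0, 0, 0, 0] with he0
  have htr0 : tr e0 = 1 := by simp [tr, e0]
  let T : V8 →ₗ[F] V8 := Matrix.mulVecLin (g.1 : Matrix (Fin 8) (Fin 8) F) - LinearMap.id
  have hT : ∀ v, T v = ap g.1 v - v := fun v => rfl
  let trL : V8 →ₗ[F] F :=
    { toFun := tr, map_add' := tr_add, map_smul' := fun c x => by simp [tr_smul] }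
  have htL : ∀ v, trL v = tr v := fun v => rfl
  by_cases hmem : T e0 ∈ (LinearMap.ker trL).map T ⊔ Submodule.span F {one8 F}
  · obtain ⟨a, ha, b, hb, hab⟩ := Submodule.mem_sup.1 hmem
    obtain ⟨w, hw, rfl⟩ := Submodule.mem_map.1 ha
    obtain ⟨c, rfl⟩ := Submodule.mem_span_singleton.1 hb
    rw [LinearMap.mem_ker, htL] at hw
    refine ⟨e0 - w, ?_, c, ?_⟩
    · simp [tr, e0] at hw ⊢
      linear_combination -hw
    · rw [hT, hT] at hab
      rw [ap_sub]
      linear_combination (norm := module) -hab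
  · exfalso
    obtain ⟨φ, hφ, hker⟩ := Submodule.exists_le_ker_of_notMem hmem
    obtain ⟨y, hy⟩ := exists_vec φ
    have hy1 : tr y = 0 := by
      have h1 : φ (one8 F) = 0 := hker (Submodule.mem_sup_right (Submodule.mem_span_singleton_self _))
      rw [← hy] at h1
      have e : pb y (one8 F) = tr y := by simp [pb, dot3, tr, one8]
      rwa [e] at h1
    set z := ap (g⁻¹ : G2 F).1 y with hz
    have hgz : ap g.1 z = y := by rw [hz]; exact ap_ap_inv _ _
    have hW : ∀ w, tr w = 0 → pb (z - y) w = 0 := by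
      intro w hw
      have h1 : φ (T w) = 0 := hker (Submodule.mem_sup_left ⟨w, hw, rfl⟩)
      rw [← hy, hT, pb_sub_right] at h1
      have h2 := pb_ap g z w
      rw [hgz] at h2
      rw [pb_sub_left]
      linear_combination h1 - h2
    set c := pb (z - y) e0 with hc
    have hzc : z = y + c • one8 F := by
      obtain hall : ∀ x, pb (z - y - c • one8 F) x = 0 := by
        intro x
        have h1 := hW (x - tr x • e0) (by
          rw [sub_eq_add_neg, tr_add, ← neg_smul, tr_smul, htr0]; ring)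
        rw [pb_sub_right, pb_smul_right] at h1
        rw [pb_sub_left _ (c • one8 F), pb_smul_left, pb_one_left, hc]
        linear_combination h1
      set d := z - y - c • one8 F with hd
      have hz0 : d = 0 := by
        funext i
        fin_cases i
        · simpa [pb, dot3] using hall (Pi.single 7 1)
        · simpa [pb, dot3] using hall (Pi.single 4 1)
        · simpa [pb, dot3] using hall (Pi.single 5 1)
        · simpa [pb, dot3] using hall (Pi.single 6 1)
        · simpa [pb, dot3] using hall (Pi.single 1 1)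
        · simpa [pb, dot3] using hall (Pi.single 2 1)
        · simpa [pb, dot3] using hall (Pi.single 3 1)
        · simpa [pb, dot3] using hall (Pi.single 0 1)
      rw [hd, sub_eq_zero, sub_eq_iff_eq_add] at hz0
      rw [hz0, add_comm]
    have hn : nrm z = nrm y := (invariants g⁻¹ y).2
    have hc0 : c = 0 := by
      have e : pb y (c • one8 F) = c * tr y := by simp [pb, dot3, tr, one8]; ring
      rw [hzc, nrm_add, nrm_smul_one, e, hy1, mul_zero, add_zero, add_eq_left] at hn
      simpa using hn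
    rw [hc0, zero_smul, add_zero] at hzc
    apply hφ
    rw [← hy, hT, pb_sub_right]
    have h2 := pb_ap g z e0
    rw [hgz] at h2
    rw [h2, hzc, sub_self]

/-- A unimodular matrix acts on the split octonions. -/
def slLin (A : Matrix (Fin 3) (Fin 3) F) : V8 →ₗ[F] V8 where
  toFun x := ![x 0, (A *ᵥ zA F x) 0, (A *ᵥ zA F x) 1, (A *ᵥ zA F x) 2, ((A.adjugate)ᵀ *ᵥ zB F x) 0,
    ((A.adjugate)ᵀ *ᵥ zB F x) 1, ((A.adjugate)ᵀ *ᵥ zB F x) 2, x 7]
  map_add' x y := by
    funext i
    fin_cases i <;> simp [mulVec, dotProduct, Fin.sum_univ_three] <;> ring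
  map_smul' c x := by
    funext i
    fin_cases i <;> simp [mulVec, dotProduct, Fin.sum_univ_three] <;> ring

theorem slLin_zornMul {A : Matrix (Fin 3) (Fin 3) F} (hA : A.det = 1) (x y : V8) :
    slLin A (zornMul x y) = zornMul (slLin A x) (slLin A y) := by
  rw [det_fin_three] at hA
  funext i
  fin_cases i <;>
    simp [slLin, zornMul, cross3, dot3, mulVec, dotProduct, Fin.sum_univ_three, adjugate_fin_three] <;>
    grind

theorem slLin_injective {A : Matrix (Fin 3) (Fin 3) F} (hA : A.det = 1) :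
    Function.Injective (slLin A) := by
  intro x y h
  have hu : IsUnit A := (isUnit_iff_isUnit_det A).2 (by rw [hA]; exact isUnit_one)
  have hu' : IsUnit (A.adjugate)ᵀ := (isUnit_iff_isUnit_det _).2 (by
    rw [det_transpose, det_adjugate, hA, one_pow]; exact isUnit_one)
  have ha : A *ᵥ zA F x = A *ᵥ zA F y := by
    funext i
    fin_cases i
    · exact congrFun h 1
    · exact congrFun h 2
    · exact congrFun h 3
  have hb : (A.adjugate)ᵀ *ᵥ zB F x = (A.adjugate)ᵀ *ᵥ zB F y := by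
    funext i
    fin_cases i
    · exact congrFun h 4
    · exact congrFun h 5
    · exact congrFun h 6
  have ha' := mulVec_injective_iff_isUnit.2 hu ha
  have hb' := mulVec_injective_iff_isUnit.2 hu' hb
  funext i
  fin_cases i
  · exact congrFun h 0
  · exact congrFun ha' 0
  · exact congrFun ha' 1
  · exact congrFun ha' 2
  · exact congrFun hb' 0
  · exact congrFun hb' 1
  · exact congrFun hb' 2
  · exact congrFun h 7

/-- Two elements are in one orbit. -/
def Moves (x y : V8) : Prop := ∃ g : G2 F, ap g.1 x = y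

theorem Moves.trans {x y z : V8} (h : Moves x y) (h' : Moves y z) : Moves x z := by
  obtain ⟨g, rfl⟩ := h
  obtain ⟨g', rfl⟩ := h'
  exact ⟨g' * g, ap_mul _ _ _⟩

theorem moves_sl [Finite F] {A : Matrix (Fin 3) (Fin 3) F} (hA : A.det = 1) (x : V8) :
    Moves x (slLin A x) := by
  have hu : IsUnit (LinearMap.toMatrix' (slLin A)) := mulVec_injective_iff_isUnit.1 fun u v h => by
    simp only [LinearMap.toMatrix'_mulVec] at h
    exact slLin_injective hA h
  refine ⟨⟨hu.unit, fun u v => ?_⟩, LinearMap.toMatrix'_mulVec _ _⟩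
  show LinearMap.toMatrix' _ *ᵥ _ = zornMul (LinearMap.toMatrix' _ *ᵥ _) (LinearMap.toMatrix' _ *ᵥ _)
  simp only [LinearMap.toMatrix'_mulVec]
  exact slLin_zornMul hA u v

theorem moves_phi {c p : GL (Fin 2) F} (h : c.1.det = p.1.det) (x : V8) :
    Moves x (asm (c.1 * Mp x * (c⁻¹).1) (p.1 * Yp x * (c⁻¹).1)) :=
  ⟨⟨phiGL F (c, p), phiGL_mem h⟩, ap_phiGL c p x⟩

/-- The representative of trace one and given norm. -/
def std (n : F) : V8 := ![0, 1, 0, 0, -n, 0, 0, 1]

theorem gl2_inv (c : GL (Fin 2) F) (m : Matrix (Fin 2) (Fin 2) F) (h : c.1 * m = 1) : (c⁻¹).1 = m := by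
  calc (c⁻¹).1 = (c⁻¹).1 * (c.1 * m) := by rw [h, mul_one]
    _ = m := by rw [← mul_assoc, Units.inv_mul, one_mul]

/-- A lower triangular unipotent matrix. -/
def lowU (t : F) : GL (Fin 2) F where
  val := !![1, 0; t, 1]
  inv := !![1, 0; -t, 1]
  val_inv := by
    ext i j
    fin_cases i <;> fin_cases j <;> simp [Matrix.mul_apply, Fin.sum_univ_two]
  inv_val := by
    ext i j
    fin_cases i <;> fin_cases j <;> simp [Matrix.mul_apply, Fin.sum_univ_two]

/-- An upper triangular unipotent matrix. -/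
def upU (t : F) : GL (Fin 2) F where
  val := !![1, t; 0, 1]
  inv := !![1, -t; 0, 1]
  val_inv := by
    ext i j
    fin_cases i <;> fin_cases j <;> simp [Matrix.mul_apply, Fin.sum_univ_two]
  inv_val := by
    ext i j
    fin_cases i <;> fin_cases j <;> simp [Matrix.mul_apply, Fin.sum_univ_two]

/-- The exchange of the two coordinates. -/
def swapU (F : Type*) [Field F] : GL (Fin 2) F where
  val := !![0, 1; 1, 0]
  inv := !![0, 1; 1, 0]
  val_inv := by
    ext i j
    fin_cases i <;> fin_cases j <;> simp [Matrix.mul_apply, Fin.sum_univ_two]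
  inv_val := by
    ext i j
    fin_cases i <;> fin_cases j <;> simp [Matrix.mul_apply, Fin.sum_univ_two]

variable [Finite F] [CharP F 2]

theorem moves_quat_one {x : V8} (hx : tr x = 1) (h1 : x 1 = 1)
    (h0 : x 2 = 0 ∧ x 3 = 0 ∧ x 5 = 0 ∧ x 6 = 0) : Moves x (std (nrm x)) := by
  have h7 : x 7 = 1 - x 0 := by rw [← hx, tr]; ring
  obtain ⟨h2, h3, h5, h6⟩ := h0
  have hM := moves_phi (c := lowU (x 0)) (p := lowU (x 0)) rfl x
  convert hM using 1
  funext i
  fin_cases i <;>
    simp [asm, Mp, Yp, std, nrm, dot3, lowU, Matrix.mul_apply, Fin.sum_univ_two, h1, h2, h3, h5, h6, h7,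
      Units.inv_mk] <;> ring

theorem exists_sl_first {a : Fin 3 → F} (ha : a ≠ 0) :
    ∃ P : Matrix (Fin 3) (Fin 3) F, P.det = 1 ∧ P *ᵥ ![1, 0, 0] = a := by
  by_cases h0 : a 0 ≠ 0
  · refine ⟨!![a 0, 0, 0; a 1, (a 0)⁻¹, 0; a 2, 0, 1], by simp [det_fin_three, h0], ?_⟩
    funext i; fin_cases i <;> simp [mulVec, dotProduct, Fin.sum_univ_three]
  push Not at h0
  by_cases h1 : a 1 ≠ 0
  · refine ⟨!![0, 0, (a 1)⁻¹; a 1, 0, 0; a 2, 1, 0], by simp [det_fin_three, h1], ?_⟩
    funext i; fin_cases i <;> simp [mulVec, dotProduct, Fin.sum_univ_three, h0]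
  push Not at h1
  have h2 : a 2 ≠ 0 := fun h2 => ha (funext fun i => by fin_cases i <;> simp [h0, h1, h2])
  refine ⟨!![0, (a 2)⁻¹, 0; 0, 0, 1; a 2, 0, 0], by simp [det_fin_three, h2], ?_⟩
  funext i; fin_cases i <;> simp [mulVec, dotProduct, Fin.sum_univ_three, h0, h1]

theorem moves_first {x : V8} (ha : zA F x ≠ 0) :
    ∃ y, Moves x y ∧ y 0 = x 0 ∧ y 7 = x 7 ∧ y 1 = 1 ∧ y 2 = 0 ∧ y 3 = 0 ∧
      (zB F x = 0 → zB F y = 0) := by
  obtain ⟨P, hP, hPa⟩ := exists_sl_first ha
  have hd : (P.adjugate).det = 1 := by rw [det_adjugate, hP, one_pow]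
  have e : P.adjugate *ᵥ zA F x = ![1, 0, 0] := by
    rw [← hPa, mulVec_mulVec, adjugate_mul, hP, one_smul, one_mulVec]
  refine ⟨slLin P.adjugate x, moves_sl hd x, rfl, rfl, congrFun e 0, congrFun e 1, congrFun e 2,
    fun hb => ?_⟩
  funext i
  fin_cases i <;> simp [slLin, hb, mulVec_zero]

theorem moves_nondeg {x : V8} (hx : tr x = 1) (ha : zA F x ≠ 0) (hab : dot3 (zA F x) (zB F x) ≠ 0) :
    Moves x (std (nrm x)) := by
  obtain ⟨y, hm, hy0, hy7, hy1, hy2, hy3, -⟩ := moves_first ha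
  have hn : nrm y = nrm x := by obtain ⟨g, rfl⟩ := hm; exact (invariants g x).2
  have hty : tr y = 1 := by rw [tr, hy0, hy7]; exact hx
  have hy4 : y 4 ≠ 0 := by
    intro h4
    apply hab
    have h := hn
    simp only [nrm, hy0, hy7] at h
    have e : dot3 (zA F y) (zB F y) = 0 := by simp [dot3, hy1, hy2, hy3, h4]
    rw [e] at h
    linear_combination h
  set r₁ := y 5 / y 4
  set r₂ := y 6 / y 4
  have hd : (!![1, r₁, r₂; 0, 1, 0; 0, 0, 1] : Matrix (Fin 3) (Fin 3) F).det = 1 := by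
    simp [det_fin_three]
  refine (hm.trans (moves_sl hd y)).trans ?_
  have h' := moves_quat_one (x := slLin !![1, r₁, r₂; 0, 1, 0; 0, 0, 1] y) hty
    (by simp [slLin, mulVec, dotProduct, Fin.sum_univ_three, hy1, hy2, hy3])
    (by
      refine ⟨?_, ?_, ?_, ?_⟩ <;>
        simp [slLin, mulVec, dotProduct, Fin.sum_univ_three, hy2, hy3, adjugate_fin_three, r₁, r₂] <;>
        field_simp <;> ring)
  obtain ⟨g, hg⟩ := moves_sl hd y
  rw [← hn, ← (invariants g y).2, hg]
  exact h'

theorem moves_std (hq : ∃ t : F, t ≠ 0 ∧ t ≠ 1) {x : V8} (hx : tr x = 1) :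
    Moves x (std (nrm x)) := by
  have key : ∀ z : V8, tr z = 1 → zA F z ≠ 0 → Moves z (std (nrm z)) := by
    intro z hz ha
    by_cases hab : dot3 (zA F z) (zB F z) ≠ 0
    · exact moves_nondeg hz ha hab
    obtain ⟨y, hm, hy0, hy7, hy1, hy2, hy3, hyb⟩ := moves_first ha
    have hn : nrm y = nrm z := by obtain ⟨g, rfl⟩ := hm; exact (invariants g z).2
    have hty : tr y = 1 := by rw [tr, hy0, hy7]; exact hz
    push Not at hab
    have hny : nrm y = y 0 * y 7 := by rw [hn, nrm, hab, sub_zero, hy0, hy7]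
    by_cases hb : zB F y = 0
    · have h4 := congrFun hb 0; have h5 := congrFun hb 1; have h6 := congrFun hb 2
      simp at h4 h5 h6
      rw [← hn]
      exact hm.trans (moves_quat_one hty hy1 ⟨hy2, hy3, h5, h6⟩)
    obtain ⟨t, ht0, ht1⟩ := hq
    refine hm.trans ((moves_phi (c := lowU t) (p := lowU t) rfl y).trans ?_)
    set y' := asm ((lowU t).1 * Mp y * ((lowU t)⁻¹).1) ((lowU t).1 * Yp y * ((lowU t)⁻¹).1) with hy'
    obtain ⟨g, hg⟩ := moves_phi (c := lowU t) (p := lowU t) rfl y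
    rw [← hy'] at hg
    have hinv := invariants g y
    rw [hg] at hinv
    have e0 : y' 0 = y 0 - t := by
      simp [hy', asm, Mp, Yp, lowU, Matrix.mul_apply, Fin.sum_univ_two, hy1, Units.inv_mk]; ring
    have e7 : y' 7 = y 7 + t := by
      simp [hy', asm, Mp, Yp, lowU, Matrix.mul_apply, Fin.sum_univ_two, hy1, Units.inv_mk]; ring
    have e1 : y' 1 = 1 := by
      simp [hy', asm, Mp, Yp, lowU, Matrix.mul_apply, Fin.sum_univ_two, hy1, Units.inv_mk]
    rw [← hn, ← hinv.2]
    refine moves_nondeg (hinv.1.trans hty) (fun h => ?_) fun h => ?_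
    · simpa [e1] using congrFun h 0
    · have h2 := hinv.2
      rw [nrm, h, sub_zero, e0, e7, hny] at h2
      have h3 : t * (1 - t) = 0 := by
        rw [← hty, tr]
        linear_combination h2 + t * y 7 * CharTwo.two_eq_zero (R := F)
      rcases mul_eq_zero.1 h3 with h4 | h4
      · exact ht0 h4
      · exact ht1 (sub_eq_zero.1 h4).symm
  by_cases ha : zA F x ≠ 0
  · exact key x hx ha
  push Not at ha
  have h1 := congrFun ha 0; have h2 := congrFun ha 1; have h3 := congrFun ha 2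
  simp at h1 h2 h3
  by_cases hb : zB F x = 0
  · have h4 := congrFun hb 0; have h5 := congrFun hb 1; have h6 := congrFun hb 2
    simp at h4 h5 h6
    obtain ⟨g, hg⟩ := moves_phi (c := upU 1) (p := upU 1) rfl x
    have hi := invariants g x
    rw [hg] at hi
    have := key _ (hi.1.trans hx) fun h => by
      have h' := congrFun h 0
      simp [asm, Mp, Yp, upU, Matrix.mul_apply, Fin.sum_univ_two, h1, h4, Units.inv_mk] at h'
      apply one_ne_zero (α := F)
      rw [← hx, tr]
      linear_combination h' + x 0 * CharTwo.two_eq_zero (R := F)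
    rw [hi.2] at this
    exact (Moves.trans ⟨g, hg⟩ this)
  obtain ⟨P, hP, hPa⟩ := exists_sl_first hb
  have hd : (Pᵀ).det = 1 := by rw [det_transpose, hP]
  have e : (Pᵀ.adjugate)ᵀ *ᵥ zB F x = ![1, 0, 0] := by
    rw [← hPa, adjugate_transpose, transpose_transpose, mulVec_mulVec, adjugate_mul, hP, one_smul,
      one_mulVec]
  obtain ⟨g, hg⟩ := moves_sl hd x
  set z := slLin Pᵀ x with hz
  have hz4 : z 4 = 1 := congrFun e 0
  have hz1 : z 1 = 0 := by simp [hz, slLin, ha]
  obtain ⟨g', hg'⟩ := moves_phi (c := swapU F) (p := swapU F) rfl z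
  have hi := invariants g x
  rw [hg] at hi
  have hi' := invariants g' z
  rw [hg'] at hi'
  have := key _ (hi'.1.trans (hi.1.trans hx)) fun h => by
    have h' := congrFun h 0
    simp [asm, Mp, Yp, swapU, Matrix.mul_apply, Fin.sum_univ_two, hz4, hz1, Units.inv_mk] at h'
  rw [hi'.2, hi.2] at this
  exact (Moves.trans ⟨g, hg⟩ (Moves.trans ⟨g', hg'⟩ this))

/-- The stabiliser of a coset of the scalars. -/
def cosetStab (e : V8) : Subgroup (G2 F) where
  carrier := {g | ∃ c : F, ap g.1 e = e + c • one8 F}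
  mul_mem' {g h} := by
    rintro ⟨c, hc⟩ ⟨d, hd⟩
    refine ⟨c + d, ?_⟩
    show ap (g.1 * h.1) e = _
    rw [ap_mul, hd, ap_add, ap_smul, ap_one8, hc, add_smul]
    abel
  one_mem' := ⟨0, by show ap 1 e = _; rw [ap_one, zero_smul, add_zero]⟩
  inv_mem' {g} := by
    rintro ⟨c, hc⟩
    refine ⟨-c, ?_⟩
    have h := congrArg (ap (g⁻¹ : G2 F).1) hc
    rw [ap_add, ap_smul, ap_one8] at h
    change ap (g.1)⁻¹ (ap g.1 e) = ap (g⁻¹ : G2 F).1 e + _ at h
    rw [ap_inv_ap] at h
    rw [neg_smul, ← sub_eq_add_neg, eq_sub_iff_add_eq]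
    exact h.symm

theorem conj_mem {e e' : V8} {g x : G2 F} (hx : ap x.1 e = e') (hg : g ∈ cosetStab e) :
    x * g * x⁻¹ ∈ cosetStab e' := by
  obtain ⟨c, hc⟩ := hg
  refine ⟨c, ?_⟩
  show ap (x.1 * g.1 * (x.1)⁻¹) e' = _
  rw [← hx, ap_mul, ap_mul, ap_inv_ap, hc, ap_add, ap_smul, ap_one8]

theorem cosetStab_shift (e : V8) (c : F) : cosetStab (e + c • one8 F) = cosetStab e := by
  ext g
  show (∃ d, _) ↔ ∃ d, _
  simp only [ap_add, ap_smul, ap_one8]
  exact exists_congr fun d =>
    ⟨fun h => by linear_combination (norm := module) h, fun h => by rw [h]; module⟩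

theorem cosetStab_ne_top (hq : ∃ t : F, t ≠ 0 ∧ t ≠ 1) (n : F) : cosetStab (std n) ≠ ⊤ := by
  intro h
  obtain ⟨t, ht, htn⟩ : ∃ t : F, t ≠ 0 ∧ 1 + t * n ≠ 0 := by
    rcases eq_or_ne n 1 with rfl | hn
    · obtain ⟨t, ht0, ht1⟩ := hq
      exact ⟨t, ht0, by rw [mul_one, ne_eq, CharTwo.add_eq_zero]; exact Ne.symm ht1⟩
    · exact ⟨1, one_ne_zero, by rw [one_mul, ne_eq, CharTwo.add_eq_zero]; exact Ne.symm hn⟩
  obtain ⟨g, hg⟩ := moves_phi (c := upU t) (p := upU t) rfl (std n)
  obtain ⟨c, hc⟩ := (h ▸ Subgroup.mem_top g : g ∈ cosetStab (std n))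
  rw [hg] at hc
  have h1 := congrFun hc 1
  simp [asm, Mp, Yp, upU, std, one8, Matrix.mul_apply, Fin.sum_univ_two, Units.inv_mk] at h1
  refine mul_ne_zero ht htn ?_
  linear_combination h1

theorem twoCovered (hq : ∃ t : F, t ≠ 0 ∧ t ≠ 1) : TwoCovered (G2 F) := by
  haveI := Fintype.ofFinite F
  have hne : SympEven.asSub F ≠ ⊤ := fun h => by simpa [h] using SympEven.asSub_index (F := F)
  obtain ⟨δ, hδ⟩ : ∃ δ, δ ∉ SympEven.asSub F := by
    by_contra hc
    push Not at hc
    exact hne (eq_top_iff.2 fun x _ => hc x)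
  refine ⟨cosetStab (std 0), cosetStab (std δ), cosetStab_ne_top hq 0, cosetStab_ne_top hq δ,
    fun g => ?_⟩
  obtain ⟨e, he, hst⟩ := exists_stable g
  have hshift : ∀ c : F, tr (e + c • one8 F) = 1 ∧ nrm (e + c • one8 F) = nrm e + (c ^ 2 + c) := by
    intro c
    have e1 : pb e (c • one8 F) = c * tr e := by simp [pb, dot3, tr, one8]; ring
    rw [tr_add, tr_smul, tr_one8, nrm_add, nrm_smul_one, e1, he, CharTwo.two_eq_zero, mul_zero,
      add_zero, mul_one, add_assoc]
    exact ⟨rfl, rfl⟩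
  have key : ∀ n, nrm e + n ∈ SympEven.asSub F → ∃ x : G2 F, x * g * x⁻¹ ∈ cosetStab (std n) := by
    intro n hn
    obtain ⟨c, hc⟩ := SympEven.mem_asSub.1 hn
    obtain ⟨h1, h2⟩ := hshift c
    obtain ⟨x, hx⟩ := moves_std hq h1
    rw [h2, hc, ← add_assoc, CharTwo.add_self_eq_zero, zero_add] at hx
    exact ⟨x, conj_mem hx (by rw [cosetStab_shift]; exact hst)⟩
  by_cases h0 : nrm e ∈ SympEven.asSub F
  · obtain ⟨x, hx⟩ := key 0 (by rwa [add_zero])
    exact ⟨x, .inl hx⟩
  · obtain ⟨x, hx⟩ := key δ ((AddSubgroup.add_mem_iff_of_index_two SympEven.asSub_index).2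
      (iff_of_false h0 hδ))
    exact ⟨x, .inr hx⟩

end CfsgLib.NCover2.G2Even
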