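import Mathlib

/-! Groups covered by the conjugates of two proper subgroups: passage to quotients. -/

set_option autoImplicit false

namespace CfsgLib.NCover2

/-- The conjugates of two proper subgroups cover the group. -/
def TwoCovered (G : Type*) [Group G] : Prop :=
  ∃ H K : Subgroup G, H ≠ ⊤ ∧ K ≠ ⊤ ∧ ∀ g : G, ∃ x : G, x * g * x⁻¹ ∈ H ∨ x * g * x⁻¹ ∈ K

variable {G : Type*} [Group G]

theorem map_ne_top (N : Subgroup G) [N.Normal] {H : Subgroup G} (hN : N ≤ H) (hH : H ≠ ⊤) :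
    H.map (QuotientGroup.mk' N) ≠ ⊤ := by
  intro h
  refine hH ?_
  have h' := congrArg (Subgroup.comap (QuotientGroup.mk' N)) h
  rw [Subgroup.comap_map_eq, QuotientGroup.ker_mk', sup_eq_left.2 hN, Subgroup.comap_top] at h'
  exact h'

theorem TwoCovered.quotient (N : Subgroup G) [N.Normal] {H K : Subgroup G} (hNH : N ≤ H) (hNK : N ≤ K)
    (hH : H ≠ ⊤) (hK : K ≠ ⊤) (h : ∀ g : G, ∃ x : G, x * g * x⁻¹ ∈ H ∨ x * g * x⁻¹ ∈ K) :
    TwoCovered (G ⧸ N) := by
  refine ⟨H.map (QuotientGroup.mk' N), K.map (QuotientGroup.mk' N), map_ne_top N hNH hH,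
    map_ne_top N hNK hK, fun g => ?_⟩
  obtain ⟨g, rfl⟩ := QuotientGroup.mk'_surjective N g
  obtain ⟨x, hx⟩ := h g
  refine ⟨QuotientGroup.mk' N x, ?_⟩
  rw [← map_inv, ← map_mul, ← map_mul]
  exact hx.imp (fun hh => Subgroup.mem_map_of_mem _ hh) fun hh => Subgroup.mem_map_of_mem _ hh

end CfsgLib.NCover2
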