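import Mathlib

/-! Polynomial roots inside commutative algebras generated by one element, over finite fields. -/

set_option autoImplicit false

namespace CfsgLib.NCover2

open Polynomial

variable {F : Type*} [Field F] [Finite F]

theorem exists_irreducible_of_degree (d : ℕ) (hd : 0 < d) :
    ∃ p : F[X], Irreducible p ∧ p.Monic ∧ p.natDegree = d := by
  obtain ⟨q, hq⟩ := CharP.exists F
  haveI : Fact q.Prime := ⟨(CharP.char_is_prime_or_zero F q).resolve_right (CharP.char_ne_zero_of_finite F q)⟩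
  haveI : NeZero d := ⟨hd.ne'⟩
  obtain ⟨α, hα⟩ := Field.exists_primitive_element F (FiniteField.Extension F q d)
  have hint : IsIntegral F α := .of_finite F α
  refine ⟨minpoly F α, minpoly.irreducible hint, minpoly.monic hint, ?_⟩
  rw [← IntermediateField.adjoin.finrank hint, hα, IntermediateField.finrank_top',
    FiniteField.finrank_extension]

theorem exists_root_mod {f p : F[X]} (hf : Irreducible f) (hp : Irreducible p)
    (h : p.natDegree ∣ f.natDegree) : ∃ a : F[X], f ∣ p.comp a := by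
  haveI : Fact (Irreducible f) := ⟨hf⟩
  haveI : Fact (Irreducible p) := ⟨hp⟩
  haveI : Module.Finite F (AdjoinRoot f) := (AdjoinRoot.powerBasis hf.ne_zero).finite
  haveI : Module.Finite F (AdjoinRoot p) := (AdjoinRoot.powerBasis hp.ne_zero).finite
  haveI : Finite (AdjoinRoot f) := Module.finite_of_finite F
  haveI : Finite (AdjoinRoot p) := Module.finite_of_finite F
  obtain ⟨φ⟩ := FiniteField.nonempty_algHom_of_finrank_dvd (F := F) (K := AdjoinRoot p) (L := AdjoinRoot f)
    (by rw [(AdjoinRoot.powerBasis hp.ne_zero).finrank, (AdjoinRoot.powerBasis hf.ne_zero).finrank]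
        simpa using h)
  obtain ⟨a, ha⟩ := AdjoinRoot.mk_surjective (φ (AdjoinRoot.root p))
  refine ⟨a, AdjoinRoot.mk_eq_zero.1 ?_⟩
  rw [← AdjoinRoot.aeval_eq, aeval_comp, AdjoinRoot.aeval_eq, ha, aeval_algHom_apply,
    AdjoinRoot.aeval_eq, AdjoinRoot.mk_self, map_zero]

theorem comp_sub_dvd {f a b : F[X]} (p : F[X]) (h : f ∣ a - b) : f ∣ p.comp a - p.comp b := by
  simp only [comp, ← eval_map]
  exact h.trans (sub_dvd_eval_sub _ _ _)

/-- A root of `p` modulo some power of every divisor with large enough irreducible factors. -/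
theorem exists_root_mod_pow {p : F[X]} (hp : Irreducible p) (m : F[X]) (hm : m ≠ 0)
    (h : ∀ f : F[X], Irreducible f → f ∣ m → p.natDegree ∣ f.natDegree) :
    ∃ (a : F[X]) (N : ℕ), m ∣ (p.comp a) ^ N := by
  revert hm h
  induction m using UniqueFactorizationMonoid.induction_on_coprime with
  | h0 => exact fun h => absurd rfl h
  | h1 hu => exact fun _ _ => ⟨0, 0, by rw [pow_zero]; exact isUnit_iff_dvd_one.1 hu⟩
  | @hpr f i hf =>
    intro _ h
    rcases Nat.eq_zero_or_pos i with rfl | hi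
    · exact ⟨0, 0, by simp⟩
    obtain ⟨a, ha⟩ := exists_root_mod hf.irreducible hp
      (h f hf.irreducible (dvd_pow_self f hi.ne'))
    exact ⟨a, i, pow_dvd_pow_of_dvd ha i⟩
  | @hcp x y hxy ihx ihy =>
    intro hne h
    obtain ⟨a₁, N₁, h₁⟩ := ihx (left_ne_zero_of_mul hne) fun f hf hd => h f hf (hd.mul_right y)
    obtain ⟨a₂, N₂, h₂⟩ := ihy (right_ne_zero_of_mul hne) fun f hf hd => h f hf (hd.mul_left x)
    have hcop : IsCoprime x y := hxy.isCoprime
    obtain ⟨u, v, huv⟩ := hcop
    refine ⟨a₁ * (v * y) + a₂ * (u * x), N₁ + N₂, IsCoprime.mul_dvd hxy.isCoprime ?_ ?_⟩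
    · have e : x ∣ a₁ * (v * y) + a₂ * (u * x) - a₁ := ⟨(a₂ - a₁) * u, by linear_combination a₁ * huv⟩
      have h' := (comp_sub_dvd p e).trans (sub_dvd_pow_sub_pow _ _ (N₁ + N₂))
      exact (dvd_sub_left (h₁.trans (pow_dvd_pow _ (Nat.le_add_right _ _)))).1 h'
    · have e : y ∣ a₁ * (v * y) + a₂ * (u * x) - a₂ := ⟨(a₁ - a₂) * v, by linear_combination a₂ * huv⟩
      have h' := (comp_sub_dvd p e).trans (sub_dvd_pow_sub_pow _ _ (N₁ + N₂))
      exact (dvd_sub_left (h₂.trans (pow_dvd_pow _ (Nat.le_add_left _ _)))).1 h'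

theorem comp_pow_card [Fintype F] (p a : F[X]) (k : ℕ) :
    (p.comp a) ^ Fintype.card F ^ k = p.comp (a ^ Fintype.card F ^ k) := by
  induction k with
  | zero => simp
  | succ k ih =>
    rw [pow_succ, pow_mul, ih, pow_mul, ← pow_comp, ← FiniteField.expand_card,
      expand_eq_comp_X_pow, comp_assoc, pow_comp, X_comp]

/-- A root of `p` among the polynomials in an element. -/
theorem exists_aeval_root {A : Type*} [Ring A] [Algebra F A] (g : A) (hg : IsIntegral F g) {p : F[X]}
    (hp : Irreducible p) (h : ∀ f : F[X], Irreducible f → f ∣ minpoly F g → p.natDegree ∣ f.natDegree) :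
    ∃ r : F[X], aeval (aeval g r) p = 0 := by
  haveI := Fintype.ofFinite F
  obtain ⟨a, N, hN⟩ := exists_root_mod_pow hp _ (minpoly.ne_zero hg) h
  refine ⟨a ^ Fintype.card F ^ N, ?_⟩
  rw [← aeval_comp, ← comp_pow_card]
  exact aeval_eq_zero_of_dvd_aeval_eq_zero
    (hN.trans (pow_dvd_pow _ (Nat.lt_pow_self Fintype.one_lt_card).le)) (minpoly.aeval F g)

end CfsgLib.NCover2
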