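import Cfsg.Agent.Lib.NCover2.Basic
import Cfsg.Agent.Lib.NCover2.Poly

/-! In dimensions two, three and four a unimodular transformation fixes a line or commutes with a
field extension of prime degree. -/

set_option autoImplicit false

namespace CfsgLib.NCover2.Linear

open Polynomial Matrix

variable {F : Type*} [Field F] [Finite F] {n : ℕ}

local notation "V" => (Fin n → F)

/-- A root of an irreducible polynomial makes the space a vector space over the extension. -/
theorem model_equiv {p : F[X]} [Fact (Irreducible p)] {r : ℕ} (hn : p.natDegree * r = n)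
    (J : Matrix (Fin n) (Fin n) F) (hJ : aeval J p = 0) :
    ∃ E : (Fin r → AdjoinRoot p) ≃ₗ[F] V,
      ∀ x, E (AdjoinRoot.root p • x) = J *ᵥ E x := by
  have hp : Irreducible p := Fact.out
  let φ : AdjoinRoot p →ₐ[F] Module.End F V :=
    Ideal.Quotient.liftₐ (Ideal.span {p})
      ((Matrix.toLinAlgEquiv' : Matrix (Fin n) (Fin n) F ≃ₐ[F] Module.End F V).toAlgHom.comp (aeval J)) (by
        intro a ha
        obtain ⟨b, rfl⟩ := Ideal.mem_span_singleton.1 ha
        simp [hJ])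
  have hφroot : φ (AdjoinRoot.root p) = Matrix.toLinAlgEquiv' J := by
    show Matrix.toLinAlgEquiv' (aeval J (Polynomial.X : F[X])) = _
    rw [aeval_X]
  letI : Module (AdjoinRoot p) V := Module.compHom V φ.toRingHom
  have hsmul : ∀ (k : AdjoinRoot p) (v : V), k • v = φ k v := fun k v => rfl
  haveI : IsScalarTower F (AdjoinRoot p) V := ⟨fun c k v => by
    rw [hsmul, hsmul, map_smul, LinearMap.smul_apply]⟩
  haveI : Module.Finite F (AdjoinRoot p) := (AdjoinRoot.powerBasis hp.ne_zero).finite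
  haveI : Module.Finite (AdjoinRoot p) V := Module.Finite.of_restrictScalars_finite F _ _
  have hr : Module.finrank (AdjoinRoot p) V = r := by
    have h1 := Module.finrank_mul_finrank F (AdjoinRoot p) V
    rw [(AdjoinRoot.powerBasis hp.ne_zero).finrank, Module.finrank_fin_fun,
      AdjoinRoot.powerBasis_dim] at h1
    exact Nat.eq_of_mul_eq_mul_left hp.natDegree_pos (h1.trans hn.symm)
  let b := Module.finBasisOfFinrankEq (AdjoinRoot p) V hr
  refine ⟨b.equivFun.symm.restrictScalars F, fun x => ?_⟩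
  show b.equivFun.symm (AdjoinRoot.root p • x) = _
  rw [map_smul, hsmul]
  show φ (AdjoinRoot.root p) _ = _
  rw [hφroot, Matrix.toLinAlgEquiv'_apply]
  rfl

/-- Elements of prescribed determinant commuting with the extension. -/
theorem exists_det_comm {p : F[X]} [Fact (Irreducible p)] {r : ℕ} (hr : 0 < r)
    (J : Matrix (Fin n) (Fin n) F) (E : (Fin r → AdjoinRoot p) ≃ₗ[F] V)
    (hE : ∀ x, E (AdjoinRoot.root p • x) = J *ᵥ E x) {k : F} :
    ∃ C : Matrix (Fin n) (Fin n) F, C * J = J * C ∧ C.det = k := by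
  have hp : Irreducible p := Fact.out
  haveI : Module.Finite F (AdjoinRoot p) := (AdjoinRoot.powerBasis hp.ne_zero).finite
  haveI : Finite (AdjoinRoot p) := Module.finite_of_finite F
  obtain ⟨κ, hκ⟩ := FiniteField.norm_surjective F (AdjoinRoot p) k
  let D : (Fin r → AdjoinRoot p) →ₗ[AdjoinRoot p] (Fin r → AdjoinRoot p) :=
    Matrix.toLin' (Matrix.diagonal fun i : Fin r => if i = ⟨0, hr⟩ then κ else 1)
  let T : V →ₗ[F] V := (E : _ →ₗ[F] V) ∘ₗ (D.restrictScalars F) ∘ₗ (E.symm : V →ₗ[F] _)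
  refine ⟨LinearMap.toMatrix' T, ?_, ?_⟩
  · refine Matrix.ext_iff_mulVec.2 fun v => ?_
    rw [← mulVec_mulVec, ← mulVec_mulVec, LinearMap.toMatrix'_mulVec, LinearMap.toMatrix'_mulVec]
    obtain ⟨x, rfl⟩ := E.surjective v
    rw [← hE]
    show E (D (E.symm (E _))) = J *ᵥ E (D (E.symm (E x)))
    rw [E.symm_apply_apply, E.symm_apply_apply, map_smul, hE]
  · rw [LinearMap.det_toMatrix', LinearMap.det_conj, LinearMap.det_restrictScalars,
      LinearMap.det_toLin', Matrix.det_diagonal, Finset.prod_ite_eq']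
    simp [hκ]

/-- Matrices with the same irreducible annihilator are conjugate by a unimodular matrix. -/
theorem exists_sl_conj {p : F[X]} [Fact (Irreducible p)] {r : ℕ} (hr : 0 < r) (hn : p.natDegree * r = n)
    (J J' : Matrix (Fin n) (Fin n) F) (hJ : aeval J p = 0) (hJ' : aeval J' p = 0) :
    ∃ P : Matrix.SpecialLinearGroup (Fin n) F, P.1 * J' = J * P.1 := by
  obtain ⟨E, hE⟩ := model_equiv hn J hJ
  obtain ⟨E', hE'⟩ := model_equiv hn J' hJ'
  set L : V ≃ₗ[F] V := E'.symm.trans E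
  set A : Matrix (Fin n) (Fin n) F := LinearMap.toMatrix' (L : V →ₗ[F] V) with hA
  have hcomm : A * J' = J * A := by
    refine Matrix.ext_iff_mulVec.2 fun v => ?_
    rw [← mulVec_mulVec, ← mulVec_mulVec, LinearMap.toMatrix'_mulVec, LinearMap.toMatrix'_mulVec]
    obtain ⟨x, rfl⟩ := E'.surjective v
    rw [← hE']
    show E (E'.symm (E' _)) = J *ᵥ E (E'.symm (E' x))
    rw [E'.symm_apply_apply, E'.symm_apply_apply, hE]
  have hdet : A.det ≠ 0 := by
    rw [hA, LinearMap.det_toMatrix']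
    exact L.isUnit_det'.ne_zero
  obtain ⟨C, hC, hCdet⟩ := exists_det_comm hr J E hE (k := A.det⁻¹)
  refine ⟨⟨C * A, by rw [det_mul, hCdet, inv_mul_cancel₀ hdet]⟩, ?_⟩
  show C * A * J' = J * (C * A)
  rw [mul_assoc, hcomm, ← mul_assoc, hC, mul_assoc]

theorem exists_matrix_root {p : F[X]} [Fact (Irreducible p)] {r : ℕ} (hn : p.natDegree * r = n) :
    ∃ J : Matrix (Fin n) (Fin n) F, aeval J p = 0 := by
  have hp : Irreducible p := Fact.out
  haveI : Module.Finite F (AdjoinRoot p) := (AdjoinRoot.powerBasis hp.ne_zero).finite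
  have hfin : Module.finrank F (Fin r → AdjoinRoot p) = n := by
    rw [Module.finrank_pi_fintype, Finset.sum_const, Finset.card_univ, Fintype.card_fin, smul_eq_mul,
      (AdjoinRoot.powerBasis hp.ne_zero).finrank, AdjoinRoot.powerBasis_dim, mul_comm, hn]
  let E : (Fin r → AdjoinRoot p) ≃ₗ[F] V := (Module.finBasisOfFinrankEq F _ hfin).equivFun
  let φ : AdjoinRoot p →ₐ[F] Matrix (Fin n) (Fin n) F :=
    (LinearMap.toMatrixAlgEquiv' : Module.End F V ≃ₐ[F] _).toAlgHom.comp
      ((E.conjAlgEquiv F).toAlgHom.comp (Algebra.lsmul F F (Fin r → AdjoinRoot p)))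
  exact ⟨φ (AdjoinRoot.root p), by
    rw [aeval_algHom_apply, AdjoinRoot.aeval_eq, AdjoinRoot.mk_self, map_zero]⟩

theorem sl_mul {m : ℕ} {R : Type*} [CommRing R] (g h : Matrix.SpecialLinearGroup (Fin m) R) :
    (g * h).1 = g.1 * h.1 := rfl

theorem sl_one {m : ℕ} {R : Type*} [CommRing R] :
    (1 : Matrix.SpecialLinearGroup (Fin m) R).1 = 1 := rfl

theorem sl_mulVec_mul (g h : Matrix.SpecialLinearGroup (Fin n) F) (v : V) :
    (g * h).1 *ᵥ v = g.1 *ᵥ (h.1 *ᵥ v) := by
  rw [sl_mul, mulVec_mulVec]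

/-- The stabiliser of the first axis. -/
def lineStab (F : Type*) [Field F] (n : ℕ) (i : Fin n) :
    Subgroup (Matrix.SpecialLinearGroup (Fin n) F) where
  carrier := {g | ∃ c : F, g.1 *ᵥ Pi.single i 1 = c • Pi.single i 1}
  mul_mem' {g h} := by
    rintro ⟨c, hc⟩ ⟨d, hd⟩
    exact ⟨d * c, by rw [sl_mul, ← mulVec_mulVec, hd, mulVec_smul, hc, smul_smul]⟩
  one_mem' := ⟨1, by rw [sl_one, one_mulVec, one_smul]⟩
  inv_mem' {g} := by
    rintro ⟨c, hc⟩
    have h1 : (g⁻¹).1 *ᵥ (g.1 *ᵥ Pi.single i 1) = (Pi.single i 1 : Fin n → F) := by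
      rw [mulVec_mulVec, ← sl_mul, inv_mul_cancel, sl_one,
        one_mulVec]
    have hc0 : c ≠ 0 := by
      intro h0
      rw [hc, h0, zero_smul, mulVec_zero] at h1
      simpa using congrFun h1 i
    refine ⟨c⁻¹, ?_⟩
    rw [hc, mulVec_smul] at h1
    exact (eq_inv_smul_iff₀ hc0).2 h1

/-- The centraliser of a matrix. -/
def centStab (J : Matrix (Fin n) (Fin n) F) : Subgroup (Matrix.SpecialLinearGroup (Fin n) F) where
  carrier := {g | g.1 * J = J * g.1}
  mul_mem' {g h} hg hh := by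
    show g.1 * h.1 * J = J * (g.1 * h.1)
    rw [mul_assoc, show h.1 * J = J * h.1 from hh, ← mul_assoc, show g.1 * J = J * g.1 from hg, mul_assoc]
  one_mem' := by
    show (1 : Matrix (Fin n) (Fin n) F) * J = J * 1
    rw [one_mul, mul_one]
  inv_mem' {g} hg := by
    show (g⁻¹).1 * J = J * (g⁻¹).1
    have e : (g⁻¹).1 * g.1 = 1 := by rw [← sl_mul, inv_mul_cancel, sl_one]
    have e' : g.1 * (g⁻¹).1 = 1 := by rw [← sl_mul, mul_inv_cancel, sl_one]
    calc (g⁻¹).1 * J = (g⁻¹).1 * (J * (g.1 * (g⁻¹).1)) := by rw [e', mul_one]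
      _ = (g⁻¹).1 * (g.1 * J) * (g⁻¹).1 := by
          rw [show g.1 * J = J * g.1 from hg]; simp only [mul_assoc]
      _ = J * (g⁻¹).1 := by rw [← mul_assoc (g⁻¹).1, e, one_mul]

theorem lineStab_ne_top {i j : Fin n} (hij : j ≠ i) : lineStab F n i ≠ ⊤ := by
  intro h
  let t : Matrix.SpecialLinearGroup (Fin n) F :=
    ⟨Matrix.transvection j i 1, det_transvection_of_ne j i hij 1⟩
  obtain ⟨c, hc⟩ := (h ▸ Subgroup.mem_top t : t ∈ lineStab F n i)
  have := congrFun hc j
  simp [t, Matrix.transvection, add_mulVec, hij, one_apply_ne] at this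

theorem centStab_ne_top {p : F[X]} (hp : Irreducible p) (hd : 1 < p.natDegree) [NeZero n]
    {J : Matrix (Fin n) (Fin n) F} (hJ : aeval J p = 0) : centStab J ≠ ⊤ := by
  intro h
  have hmem : J ∈ Set.range (Matrix.scalar (Fin n) : F → _) := by
    refine mem_range_scalar_of_commute_transvectionStruct fun t => ?_
    let g : Matrix.SpecialLinearGroup (Fin n) F := ⟨t.toMatrix, t.det⟩
    exact (h ▸ Subgroup.mem_top g : g ∈ centStab J)
  obtain ⟨c, hc⟩ := hmem
  have hroot : p.eval c = 0 := by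
    rw [← hc] at hJ
    have e : Matrix.scalar (Fin n) c = algebraMap F _ c := rfl
    rw [e, aeval_algebraMap_apply_eq_algebraMap_eval, map_eq_zero] at hJ
    exact hJ
  exact hd.ne' (natDegree_eq_of_degree_eq_some (degree_eq_one_of_irreducible_of_root hp hroot))

/-- Some unimodular matrix carries a given line to an axis. -/
theorem exists_sl_axis (hn : 2 ≤ n) (i : Fin n) {v : V} (hv : v ≠ 0) :
    ∃ (P : Matrix.SpecialLinearGroup (Fin n) F) (c : F), P.1 *ᵥ v = c • Pi.single i 1 ∧ c ≠ 0 := by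
  classical
  have li : LinearIndepOn F id ({v} : Set V) := LinearIndepOn.singleton hv
  let b := Module.Basis.extend li
  have hvm : v ∈ LinearIndepOn.extend li (Set.subset_univ _) := li.subset_extend _ rfl
  have hcard : Nat.card (LinearIndepOn.extend li (Set.subset_univ _)) = n := by
    rw [← Module.finrank_eq_nat_card_basis b, Module.finrank_fin_fun]
  haveI : Finite (LinearIndepOn.extend li (Set.subset_univ _)) := Set.toFinite _
  let e₀ := (Finite.equivFinOfCardEq hcard)
  let e := e₀.trans (Equiv.swap (e₀ ⟨v, hvm⟩) i)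
  let E : V ≃ₗ[F] V := (b.reindex e).equivFun
  have hEv : E v = Pi.single i 1 := by
    have hb : (b.reindex e) i = v := by
      rw [Module.Basis.reindex_apply]
      have : e.symm i = ⟨v, hvm⟩ := by rw [Equiv.symm_apply_eq]; simp [e]
      rw [this, Module.Basis.extend_apply_self]
    rw [← hb]
    funext k
    simp [E, Pi.single_apply, Finsupp.single_apply, eq_comm]
  set A : Matrix (Fin n) (Fin n) F := LinearMap.toMatrix' (E : V →ₗ[F] V) with hA
  have hdet : A.det ≠ 0 := by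
    rw [hA, LinearMap.det_toMatrix']
    exact E.isUnit_det'.ne_zero
  haveI : Nontrivial (Fin n) := Fin.nontrivial_iff_two_le.2 hn
  obtain ⟨j, hj⟩ := exists_ne i
  let D : Matrix (Fin n) (Fin n) F := diagonal fun k => if k = j then A.det⁻¹ else 1
  refine ⟨⟨D * A, ?_⟩, 1, ?_, one_ne_zero⟩
  · rw [det_mul, det_diagonal, Finset.prod_ite_eq']
    simp [hdet]
  · show (D * A) *ᵥ v = _
    rw [← mulVec_mulVec, hA, LinearMap.toMatrix'_mulVec, LinearEquiv.coe_coe, hEv, one_smul]
    funext k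
    rw [mulVec_diagonal]
    rcases eq_or_ne k i with rfl | hk
    · simp [hj.symm]
    · simp [hk]

theorem eigen_of_root {g : Matrix (Fin n) (Fin n) F} {f : F[X]} (hf : f ∣ g.charpoly) {c : F}
    (hc : f.eval c = 0) : ∃ v ≠ 0, g *ᵥ v = c • v := by
  have h0 : g.charpoly.eval c = 0 := eval_eq_zero_of_dvd_of_eval_eq_zero hf hc
  rw [Matrix.eval_charpoly, ← exists_mulVec_eq_zero_iff] at h0
  obtain ⟨v, hv, h⟩ := h0
  refine ⟨v, hv, ?_⟩
  rw [sub_mulVec, sub_eq_zero] at h
  rw [← h]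
  simp [Matrix.scalar_apply, mulVec_diagonal, funext_iff]

theorem twoCovered (hn : 2 ≤ n) (hn' : n ≤ 4) :
    TwoCovered (Matrix.ProjectiveSpecialLinearGroup (Fin n) F) := by
  haveI : NeZero n := ⟨by omega⟩
  set d := if n = 4 then 2 else n with hd
  have hd2 : 1 < d := by rw [hd]; split <;> omega
  obtain ⟨r, hr, hr0⟩ : ∃ r, d * r = n ∧ 0 < r := by
    rw [hd]; split
    · exact ⟨2, by omega, by omega⟩
    · exact ⟨1, by omega, by omega⟩
  obtain ⟨p, hp, -, hpd⟩ := exists_irreducible_of_degree (F := F) d (by omega)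
  haveI : Fact (Irreducible p) := ⟨hp⟩
  rw [← hpd] at hr
  obtain ⟨J, hJ⟩ := exists_matrix_root (F := F) hr
  let i₀ : Fin n := ⟨0, by omega⟩
  have hZc : ∀ z ∈ Subgroup.center (Matrix.SpecialLinearGroup (Fin n) F),
      ∃ c : F, Matrix.scalar (Fin n) c = z.1 := fun z hz => by
    obtain ⟨c, -, hc⟩ := Matrix.SpecialLinearGroup.mem_center_iff.1 hz
    exact ⟨c, hc⟩
  refine TwoCovered.quotient _ (H := lineStab F n i₀) (K := centStab J) ?_ ?_
    (lineStab_ne_top (j := ⟨1, by omega⟩) (by simp [i₀, Fin.ext_iff]))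
    (centStab_ne_top hp (by omega) hJ) fun g => ?_
  · intro z hz
    obtain ⟨c, hc⟩ := hZc z hz
    refine ⟨c, ?_⟩
    rw [← hc]
    funext k
    simp [Matrix.scalar_apply, Pi.single_apply]
  · intro z hz
    obtain ⟨c, hc⟩ := hZc z hz
    show z.1 * J = J * z.1
    rw [← hc]
    exact (Matrix.scalar_commute c (fun _ => Commute.all _ _) J).eq
  by_cases he : ∃ (c : F) (v : V), v ≠ 0 ∧ g.1 *ᵥ v = c • v
  · obtain ⟨c, v, hv, hgv⟩ := he
    obtain ⟨P, e, hP, he0⟩ := exists_sl_axis hn i₀ hv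
    refine ⟨P, .inl ⟨c, ?_⟩⟩
    have h1 : (P⁻¹).1 *ᵥ (Pi.single i₀ 1 : V) = e⁻¹ • v := by
      rw [eq_inv_smul_iff₀ he0, ← mulVec_smul, ← hP, ← sl_mulVec_mul, inv_mul_cancel,
        sl_one, one_mulVec]
    rw [sl_mulVec_mul, sl_mulVec_mul, h1, mulVec_smul, hgv, mulVec_smul, mulVec_smul, hP, smul_comm c e,
      inv_smul_smul₀ he0]
  · push Not at he
    have hdiv : ∀ f : F[X], Irreducible f → f ∣ minpoly F g.1 → p.natDegree ∣ f.natDegree := by
      intro f hf hfd
      have hfc := hfd.trans (Matrix.minpoly_dvd_charpoly g.1)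
      have hcard : g.1.charpoly.natDegree = n := by rw [charpoly_natDegree_eq_dim, Fintype.card_fin]
      have hcne : g.1.charpoly ≠ 0 := (charpoly_monic _).ne_zero
      have hnoroot : ∀ h : F[X], h ∣ g.1.charpoly → h.natDegree ≠ 1 := by
        intro h hh hdeg
        obtain ⟨c, hc⟩ := Polynomial.exists_root_of_degree_eq_one (degree_eq_iff_natDegree_eq_of_pos one_pos |>.2 hdeg)
        obtain ⟨v, hv, hgv⟩ := eigen_of_root hh hc
        exact he c v hv hgv
      obtain ⟨k, hk⟩ := hfc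
      have hkne : k ≠ 0 := right_ne_zero_of_mul (hk ▸ hcne)
      have hsum : f.natDegree + k.natDegree = n := by
        rw [← natDegree_mul hf.ne_zero hkne, ← hk, hcard]
      have h1 := hnoroot f ⟨k, hk⟩
      have h2 := hnoroot k ⟨f, by rw [hk, mul_comm]⟩
      have h3 := hf.natDegree_pos
      rw [hpd, hd]
      split
      · rcases (show f.natDegree = 2 ∨ f.natDegree = 4 by omega) with h | h <;> rw [h] <;> omega
      · rw [show f.natDegree = n by omega]
    obtain ⟨a, ha⟩ := exists_aeval_root g.1 (Matrix.isIntegral g.1) hp hdiv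
    obtain ⟨P, hP⟩ := exists_sl_conj hr0 hr J (aeval g.1 a) hJ ha
    refine ⟨P, .inr ?_⟩
    show (P * g * P⁻¹).1 * J = J * (P * g * P⁻¹).1
    have e : (P⁻¹).1 * J = aeval g.1 a * (P⁻¹).1 := by
      have e1 : (P⁻¹).1 * P.1 = 1 := by rw [← sl_mul, inv_mul_cancel, sl_one]
      have e2 : P.1 * (P⁻¹).1 = 1 := by rw [← sl_mul, mul_inv_cancel, sl_one]
      calc (P⁻¹).1 * J = (P⁻¹).1 * (J * (P.1 * (P⁻¹).1)) := by rw [e2, mul_one]
        _ = (P⁻¹).1 * (P.1 * aeval g.1 a) * (P⁻¹).1 := by rw [hP]; simp only [mul_assoc]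
        _ = _ := by rw [← mul_assoc (P⁻¹).1, e1, one_mul]
    have hga : g.1 * aeval g.1 a = aeval g.1 a * g.1 := by
      calc g.1 * aeval g.1 a = aeval g.1 (Polynomial.X * a) := by rw [map_mul, aeval_X]
        _ = _ := by rw [mul_comm, map_mul, aeval_X]
    rw [sl_mul, sl_mul]
    calc P.1 * g.1 * (P⁻¹).1 * J = P.1 * (g.1 * aeval g.1 a) * (P⁻¹).1 := by
          rw [mul_assoc (P.1 * g.1), e]; simp only [mul_assoc]
      _ = P.1 * aeval g.1 a * (g.1 * (P⁻¹).1) := by rw [hga]; simp only [mul_assoc]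
      _ = J * (P.1 * g.1 * (P⁻¹).1) := by rw [hP]; simp only [mul_assoc]

end CfsgLib.NCover2.Linear
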