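import Cfsg.Agent.Lib.NCover2.UnitaryAdjoint

/-! A Singer cycle and a regular unipotent element normalising it in dimension three over a field of
characteristic three. -/

set_option autoImplicit false

namespace CfsgLib.NCover2.PSU3

open Polynomial Matrix CfsgLib.Classical CfsgLib.Classical.Unitary CfsgLib.Geometry
open CfsgLib.NCover2.Unitary

variable {F : Type*} [Field F] [Finite F] {σ : F →+* F} {q : ℕ}

local notation "M3" => Matrix (Fin 3) (Fin 3) F
local notation "h" => uh σ

theorem exists_model (hF : Nat.card F = q ^ 2) (hu : UFrob σ q) [CharP F 3] :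
    ∃ (f : F[X]) (J R : M3), Irreducible f ∧ f.Monic ∧ f.natDegree = 3 ∧ f.map σ = f ∧
      aeval J f = 0 ∧ J ^ q ^ 3 = J ∧ adj σ J = J ∧ (∀ x y, h (R *ᵥ x) (R *ᵥ y) = h x y) ∧
      (∃ a : F[X], R * J = aeval J a * R) ∧ (R - 1) ^ 3 = 0 ∧ (R - 1) ^ 2 ≠ 0 := by
  haveI : Fact (Nat.Prime 3) := ⟨Nat.prime_three⟩
  haveI := Fintype.ofFinite F
  set K := FiniteField.Extension F 3 3
  haveI : Finite K := Module.finite_of_finite F
  haveI := Fintype.ofFinite K
  have hdim : Module.finrank F K = 3 := FiniteField.finrank_extension F 3 3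
  haveI : CharP K 3 := charP_of_injective_algebraMap (algebraMap F K).injective 3
  set i := algebraMap F K with hi
  obtain ⟨φ, hφ, hφa⟩ := exists_qHom hF hu K
  set τ : K →+* K := φ.comp (φ.comp φ) with hτ
  have hτx : ∀ x, τ x = x ^ q ^ 3 := fun x => by
    simp only [hτ, RingHom.comp_apply, hφ, ← pow_mul]
    congr 1; ring
  have hτa : ∀ a, τ (i a) = i (σ a) := fun a => by
    simp only [hτ, RingHom.comp_apply, hi, hφa, hu.invol]
  have hQ3 : ∀ x : K, x ^ Nat.card F ^ 3 = x := fun x => by
    have := FiniteField.pow_card x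
    rwa [← Nat.card_eq_fintype_card, Module.natCard_eq_pow_finrank (K := F), hdim] at this
  have hτ2 : ∀ x, τ (τ x) = x := fun x => by
    rw [hτx, hτx, ← pow_mul, ← pow_add, show q ^ (3 + 3) = Nat.card F ^ 3 by rw [hF, ← pow_mul]]
    exact hQ3 x
  have htr : ∀ x, i (Algebra.trace F K x) = x + x ^ Nat.card F + x ^ Nat.card F ^ 2 := fun x => by
    rw [hi, FiniteField.algebraMap_trace_eq_sum_pow, hdim]
    simp [Finset.sum_range_succ]
  have htrτ : ∀ x, σ (Algebra.trace F K x) = Algebra.trace F K (τ x) := fun x => by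
    refine i.injective ?_
    rw [← hτa, htr, htr, map_add, map_add, map_pow, map_pow]
  -- the Frobenius automorphism
  let ρ : K ≃ₐ[F] K := FiniteField.frobeniusAlgEquivOfAlgebraic F K
  have hρ : ∀ x, ρ x = x ^ Nat.card F := fun x => by
    rw [Nat.card_eq_fintype_card]; rfl
  -- the form
  let B : K →ₛₗ[σ] K →ₗ[F] F := LinearMap.mk₂'ₛₗ σ (RingHom.id F)
    (fun x y => Algebra.trace F K (y * τ x))
    (fun x x' y => by rw [map_add, mul_add, map_add])
    (fun c x y => by rw [Algebra.smul_def, map_mul τ, ← hi, hτa, mul_left_comm, hi, ← Algebra.smul_def, map_smul])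
    (fun x y y' => by rw [add_mul, map_add])
    (fun c x y => by rw [smul_mul_assoc, map_smul]; rfl)
  have hBdef : ∀ x y, B x y = Algebra.trace F K (y * τ x) := fun x y => rfl
  have hS : B.IsSymm := ⟨fun x y => by
    rw [hBdef, hBdef, htrτ, map_mul, hτ2, mul_comm]⟩
  have hnd : B.Nondegenerate := by
    refine ⟨fun x hx => ?_, fun y hy => ?_⟩
    · have h0 : τ x = 0 := (traceForm_nondegenerate F K).1 (τ x) fun y => by
        rw [Algebra.traceForm_apply, mul_comm]; exact hx y
      simpa using h0
    · refine (traceForm_nondegenerate F K).1 y fun z => ?_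
      have := hy (τ z)
      rw [hBdef, hτ2] at this
      exact this
  obtain ⟨b, hb⟩ := exists_orthonormal hu.ne hu.invol hS hnd
  let b' : Module.Basis (Fin 3) F K := b.reindex (finCongr hdim)
  have hb' : ∀ k l, B (b' k) (b' l) = if k = l then 1 else 0 := fun k l => by
    rw [Module.Basis.reindex_apply, Module.Basis.reindex_apply, hb]
    simp
  let E : K ≃ₗ[F] (Fin 3 → F) := b'.equivFun
  have hE : ∀ x y, h (E y) (E x) = B x y := by
    intro x y
    conv_rhs => rw [← b'.sum_repr x, ← b'.sum_repr y]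
    simp only [map_sum, LinearMap.map_smulₛₗ, LinearMap.sum_apply, LinearMap.smul_apply, map_smul,
      smul_eq_mul, hb', RingHom.id_apply]
    simp [uh, dotProduct, E, mul_comm]
  -- an element fixed by `τ` generating the extension
  obtain ⟨θ, hθτ, hθ⟩ : ∃ θ : K, τ θ = θ ∧ θ ∉ Set.range i := by
    by_contra hcon
    push Not at hcon
    have hall : ∀ x : K, x + τ x ∈ Set.range i := fun x => hcon _ (by rw [map_add, hτ2, add_comm])
    obtain ⟨w, hw⟩ : ∃ w : F, σ w ≠ w := by
      by_contra h'; push Not at h'; exact hu.ne (RingHom.ext h')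
    have hsur : ∀ y : K, y ∈ Set.range i := by
      intro y
      obtain ⟨a, ha⟩ := hall y
      obtain ⟨b, hb⟩ := hall (i w * y)
      rw [map_mul, hτa] at hb
      refine ⟨(b - σ w * a) / (w - σ w), ?_⟩
      have hne : i (w - σ w) ≠ 0 := by
        rw [ne_eq, map_eq_zero, sub_eq_zero]; exact Ne.symm hw
      rw [map_div₀, div_eq_iff hne, map_sub, map_sub, map_mul]
      linear_combination hb - i (σ w) * ha
    have h1 : Nat.card K ≤ Nat.card F := Nat.card_le_card_of_surjective i hsur
    rw [Module.natCard_eq_pow_finrank (K := F), hdim] at h1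
    have h2 : 1 < Nat.card F := Finite.one_lt_card
    have h3 : Nat.card F ^ 1 < Nat.card F ^ 3 := Nat.pow_lt_pow_right h2 (by norm_num)
    rw [pow_one] at h3
    omega
  set f := minpoly F θ with hf
  have hint : IsIntegral F θ := .of_finite F θ
  have hfdeg : f.natDegree = 3 := by
    have hd : f.natDegree ∣ 3 := hdim ▸ minpoly.degree_dvd hint
    rcases (Nat.dvd_prime Nat.prime_three).1 hd with h1 | h1
    · exact absurd (minpoly.natDegree_eq_one_iff.1 h1) hθ
    · exact h1
  have hfσ : f.map σ = f := by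
    have h1 : aeval θ (f.map σ) = 0 := by
      have h0 := congrArg τ (minpoly.aeval F θ)
      rw [map_zero, aeval_def, hom_eval₂, hθτ] at h0
      rw [aeval_def, eval₂_map]
      have e : τ.comp (algebraMap F K) = (algebraMap F K).comp σ := RingHom.ext hτa
      rwa [e] at h0
    refine (minpoly.unique F θ ((minpoly.monic hint).map σ) h1 fun g hg hgθ => ?_).trans hf.symm
    rw [Polynomial.degree_map]
    exact minpoly.min F θ hg hgθ
  let toM : Module.End F K →ₐ[F] M3 :=
    (LinearMap.toMatrixAlgEquiv' : Module.End F (Fin 3 → F) ≃ₐ[F] _).toAlgHom.comp (E.conjAlgEquiv F).toAlgHom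
  have htoM : ∀ (T : Module.End F K) (x : K), toM T *ᵥ E x = E (T x) := fun T x => by
    show LinearMap.toMatrix' ((E.conjAlgEquiv F) T) *ᵥ E x = _
    rw [LinearMap.toMatrix'_mulVec]
    show E (T (E.symm (E x))) = _
    rw [E.symm_apply_apply]
  have hiso : ∀ T : Module.End F K, (∀ x y, B (T x) (T y) = B x y) →
      ∀ u v, h (toM T *ᵥ u) (toM T *ᵥ v) = h u v := fun T hT u v => by
    obtain ⟨x, rfl⟩ := E.surjective u
    obtain ⟨y, rfl⟩ := E.surjective v
    rw [htoM, htoM, hE, hE, hT]
  set L : K →ₐ[F] Module.End F K := Algebra.lmul F K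
  have hLapp : ∀ a x, L a x = a * x := fun a x => rfl
  refine ⟨f, toM (L θ), toM ρ.toLinearMap, minpoly.irreducible hint, minpoly.monic hint, hfdeg, hfσ,
    ?_, ?_, ?_, hiso _ ?_, ?_, ?_, ?_⟩
  · rw [aeval_algHom_apply, aeval_algHom_apply, hf, minpoly.aeval, map_zero, map_zero]
  · rw [← map_pow, ← map_pow, ← hτx, hθτ]
  · refine adj_eq_of_uh hu fun u v => ?_
    obtain ⟨x, rfl⟩ := E.surjective u
    obtain ⟨y, rfl⟩ := E.surjective v
    rw [htoM, htoM, hE, hE, hBdef, hBdef, hLapp, hLapp, map_mul τ, hθτ]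
    congr 1; ring
  · intro x y
    show B (ρ x) (ρ y) = B x y
    rw [hBdef, hBdef, ← Algebra.trace_eq_of_algEquiv ρ (y * τ x)]
    congr 1
    rw [map_mul ρ, hρ, hρ, hρ, map_pow τ]
  · refine ⟨X ^ Nat.card F, ?_⟩
    rw [map_pow, aeval_X, ← map_pow, ← map_mul, ← map_mul, ← map_pow]
    congr 1
    refine LinearMap.ext fun x => ?_
    show ρ (θ * x) = θ ^ Nat.card F * ρ x
    rw [map_mul, hρ θ]
  · have e : (ρ.toLinearMap - 1 : Module.End F K) ^ 3 = 0 := by
      refine LinearMap.ext fun x => ?_
      have h3 : (3 : K) = 0 := by exact_mod_cast CharP.cast_eq_zero K 3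
      simp only [pow_succ, pow_zero, one_mul, Module.End.mul_apply, LinearMap.sub_apply, Module.End.one_apply,
        AlgEquiv.toLinearMap_apply, map_sub, LinearMap.zero_apply]
      simp only [hρ, ← pow_mul]
      rw [show Nat.card F * Nat.card F * Nat.card F = Nat.card F ^ 3 by ring, hQ3]
      linear_combination (x ^ Nat.card F - x ^ (Nat.card F * Nat.card F)) * h3
    rw [← map_one toM, ← map_sub, ← map_pow, e, map_zero]
  · intro h0
    have e : ∀ x : K, x ^ (Nat.card F * Nat.card F) - 2 * x ^ Nat.card F + x = 0 := by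
      intro x
      rw [← map_one toM, ← map_sub, ← map_pow] at h0
      have h1 := htoM ((ρ.toLinearMap - 1) ^ 2) x
      rw [h0, zero_mulVec, eq_comm, LinearEquiv.map_eq_zero_iff] at h1
      simp only [sq, Module.End.mul_apply, LinearMap.sub_apply, Module.End.one_apply,
        AlgEquiv.toLinearMap_apply, map_sub] at h1
      simp only [hρ, ← pow_mul] at h1
      linear_combination h1
    have hQ : 1 < Nat.card F := Finite.one_lt_card
    set P : K[X] := X ^ (Nat.card F * Nat.card F) - C 2 * X ^ Nat.card F + X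
    have hQQ : Nat.card F < Nat.card F * Nat.card F := lt_mul_of_one_lt_right (by omega) hQ
    have hPc : P.coeff (Nat.card F * Nat.card F) = 1 := by
      simp only [P, coeff_add, coeff_sub, coeff_C_mul, coeff_X_pow, coeff_X]
      rw [if_neg (show ¬ Nat.card F * Nat.card F = Nat.card F by omega),
        if_neg (show ¬ 1 = Nat.card F * Nat.card F by omega)]
      simp
    have hP : P ≠ 0 := fun h' => by simp [h'] at hPc
    have hroots := Polynomial.card_le_degree_of_subset_roots (p := P) (Z := Finset.univ) (fun x _ => by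
      rw [mem_roots hP]
      simp [P, IsRoot, e, Nat.card_eq_fintype_card]
      simpa [Nat.card_eq_fintype_card] using e x)
    have hdeg : P.natDegree ≤ Nat.card F * Nat.card F := by
      refine (natDegree_add_le _ _).trans (max_le ((natDegree_sub_le _ _).trans (max_le ?_ ?_)) ?_)
      · simp
      · exact (natDegree_C_mul_le _ _).trans (by rw [natDegree_X_pow]; omega)
      · rw [natDegree_X]; omega
    rw [Finset.card_univ, ← Nat.card_eq_fintype_card, Module.natCard_eq_pow_finrank (K := F), hdim] at hroots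
    have h3 : Nat.card F * Nat.card F * 1 < Nat.card F * Nat.card F * Nat.card F :=
      Nat.mul_lt_mul_of_pos_left hQ (by positivity)
    have h4 : Nat.card F ^ 3 = Nat.card F * Nat.card F * Nat.card F := by ring
    omega

end CfsgLib.NCover2.PSU3
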