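import Cfsg.Agent.Lib.NCover2.UnitaryAdjoint

/-! Regular unipotent isometries in dimension three are conjugate in the unitary group. -/

set_option autoImplicit false

namespace CfsgLib.NCover2.PSU3

open Matrix CfsgLib.Classical CfsgLib.Classical.Unitary CfsgLib.NCover2.Unitary

variable {F : Type*} [Field F] {σ : F →+* F} {q : ℕ}

local notation "M3" => Matrix (Fin 3) (Fin 3) F
local notation "h" => uh σ

/-- A skew-adjoint regular nilpotent map has a basis with a fixed Gram matrix. -/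
theorem exists_gram [Finite F] (hu : UFrob σ q) (h2 : (2 : F) ≠ 0) {D : M3} (hD : adj σ D = -D)
    (hD3 : D ^ 3 = 0) (hD2 : D ^ 2 ≠ 0) :
    ∃ v : Fin 3 → F, h v v = 0 ∧ h (D *ᵥ v) v = 0 ∧ h (D ^ 2 *ᵥ v) v = 1 := by
  have hskew : ∀ x y, h (D *ᵥ x) y = -h x (D *ᵥ y) := fun x y => by
    rw [uh_adj hu, hD, neg_mulVec, uh_neg_right]
  have hD2' : ∀ x, D ^ 2 *ᵥ x = D *ᵥ (D *ᵥ x) := fun x => by rw [sq, mulVec_mulVec]
  have hself : ∀ x y, h (D ^ 2 *ᵥ x) y = h x (D ^ 2 *ᵥ y) := fun x y => by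
    rw [hD2', hD2', hskew, hskew, neg_neg]
  have hz3 : ∀ x, D *ᵥ (D *ᵥ (D *ᵥ x)) = 0 := fun x => by
    rw [mulVec_mulVec, mulVec_mulVec, show D * D * D = D ^ 3 by rw [pow_succ, sq], hD3, zero_mulVec]
  obtain ⟨x, hx⟩ : ∃ x, h (D ^ 2 *ᵥ x) x ≠ 0 := by
    by_contra hc
    push Not at hc
    obtain ⟨w, hw⟩ : ∃ w : F, σ w ≠ w := by
      by_contra h'; push Not at h'; exact hu.ne (RingHom.ext h')
    apply hD2
    refine Matrix.ext_iff_mulVec.2 fun y => uh_ext hu fun x => ?_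
    rw [zero_mulVec, uh_zero_right]
    have e : ∀ t : F, σ t * h (D ^ 2 *ᵥ x) y + t * h (D ^ 2 *ᵥ y) x = 0 := fun t => by
      have h1 := hc (x + t • y)
      simp only [mulVec_add, mulVec_smul, uh_add_left, uh_add_right, uh_smul_left, uh_smul_right,
        hc x, hc y, mul_zero, zero_add, add_zero] at h1
      linear_combination h1
    have e1 := e 1
    have e2 := e w
    rw [map_one, one_mul, one_mul] at e1
    have h' : (σ w - w) * h (D ^ 2 *ᵥ x) y = 0 := by linear_combination e2 - w * e1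
    rw [← hself]
    exact (mul_eq_zero.1 h').resolve_left (sub_ne_zero.2 hw)
  obtain ⟨t, ht⟩ := CfsgLib.Geometry.exists_norm_eq hu.ne hu.invol (c := (h (D ^ 2 *ᵥ x) x)⁻¹) (by
    rw [map_inv₀, hu.symm, ← hself])
  obtain ⟨v, hc⟩ : ∃ v, h (D ^ 2 *ᵥ v) v = 1 :=
    ⟨t • x, by rw [mulVec_smul, uh_smul_left, uh_smul_right, ← mul_assoc, ht, inv_mul_cancel₀ hx]⟩
  set b := h (D *ᵥ v) v with hb
  have hbσ : σ b = -b := by
    rw [hb, hu.symm, hskew v v, neg_neg]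
  have hvD : h v (D *ᵥ v) = -b := by rw [hb, hskew, neg_neg]
  have hDD : h (D *ᵥ v) (D *ᵥ v) = -1 := by
    have := hskew (D *ᵥ v) v
    rw [← hD2', hc] at this
    linear_combination this
  have hvD2 : h v (D ^ 2 *ᵥ v) = 1 := by rw [← hself, hc]
  set s : F := -b / 2 with hs
  have hσs : σ s = -s := by rw [hs, map_div₀, map_neg, hbσ, map_ofNat]; ring
  set v₁ := v + s • (D *ᵥ v) with hv₁
  have hDv₁ : D *ᵥ v₁ = D *ᵥ v + s • (D ^ 2 *ᵥ v) := by rw [hv₁, mulVec_add, mulVec_smul, hD2']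
  have hD2v₁ : D ^ 2 *ᵥ v₁ = D ^ 2 *ᵥ v := by
    rw [hD2', hDv₁, mulVec_add, mulVec_smul, hD2', hz3, smul_zero, add_zero]
  have h0 : h (D *ᵥ (D *ᵥ v)) (D *ᵥ v) = 0 := by
    have := hskew (D *ᵥ (D *ᵥ v)) v
    rw [hz3, uh_zero_left] at this
    linear_combination this
  have hb₁ : h (D *ᵥ v₁) v₁ = 0 := by
    rw [hDv₁, hv₁, hD2']
    rw [hD2'] at hc
    simp only [uh_add_left, uh_add_right, uh_smul_left, uh_smul_right, hDD, hc, h0, hσs, ← hb]
    rw [hs]; field_simp; ring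
  have hc₁ : h (D ^ 2 *ᵥ v₁) v₁ = 1 := by
    rw [hD2v₁, hv₁, uh_add_right, uh_smul_right, hc, hD2', h0, mul_zero, add_zero]
  set a := h v₁ v₁ with ha
  have haσ : σ a = a := by rw [ha, hu.symm]
  refine ⟨v₁ + (-a / 2) • (D ^ 2 *ᵥ v₁), ?_, ?_, ?_⟩
  · have e1 : h v₁ (D ^ 2 *ᵥ v₁) = 1 := by rw [← hself, hc₁]
    have e2 : h (D ^ 2 *ᵥ v₁) (D ^ 2 *ᵥ v₁) = 0 := by
      rw [hself]; simp only [hD2', hz3, uh_zero_right, mulVec_zero]
    simp only [uh_add_left, uh_add_right, uh_smul_left, uh_smul_right, hc₁, e1, e2, ← ha, map_div₀, map_neg,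
      haσ, map_ofNat]
    field_simp; ring
  · have e1 : D *ᵥ (D ^ 2 *ᵥ v₁) = 0 := by rw [hD2', hz3]
    have e2 : h (D *ᵥ v₁) (D ^ 2 *ᵥ v₁) = 0 := by
      rw [hskew, e1, uh_zero_right, neg_zero]
    rw [mulVec_add, mulVec_smul, e1, smul_zero, add_zero, uh_add_right, uh_smul_right, hb₁, e2,
      mul_zero, add_zero]
  · have e1 : D ^ 2 *ᵥ (D ^ 2 *ᵥ v₁) = 0 := by simp only [hD2', hz3, mulVec_zero]
    rw [mulVec_add, mulVec_smul, e1, smul_zero, add_zero, uh_add_right, uh_smul_right, hc₁, hself, e1,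
      uh_zero_right, mul_zero, add_zero]

/-- The columns `v`, `Dv`, `D²v`. -/
def frame (D : M3) (v : Fin 3 → F) : M3 := Matrix.of fun i j => (D ^ (j : ℕ) *ᵥ v) i

theorem frame_col (D : M3) (v : Fin 3 → F) (j : Fin 3) :
    frame D v *ᵥ Pi.single j 1 = D ^ (j : ℕ) *ᵥ v := by
  rw [mulVec_single_one]; rfl

/-- Two such maps are conjugate by an isometry. -/
theorem exists_conj_skew [Finite F] (hu : UFrob σ q) (h2 : (2 : F) ≠ 0) {D D' : M3}
    (hD : adj σ D = -D) (hD3 : D ^ 3 = 0) (hD2 : D ^ 2 ≠ 0)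
    (hD' : adj σ D' = -D') (hD'3 : D' ^ 3 = 0) (hD'2 : D' ^ 2 ≠ 0) :
    ∃ P : M3, (∀ x y, h (P *ᵥ x) (P *ᵥ y) = h x y) ∧ P * D = D' * P := by
  set G : M3 := !![0, 0, 1; 0, -1, 0; 1, 0, 0] with hG
  have key : ∀ {T : M3}, adj σ T = -T → T ^ 3 = 0 → T ^ 2 ≠ 0 →
      ∃ v, adj σ (frame T v) * frame T v = G ∧
        T * frame T v = frame T v * !![0, 0, 0; 1, 0, 0; 0, 1, 0] := by
    intro T hT hT3 hT2
    obtain ⟨v, ha, hb, hc⟩ := exists_gram hu h2 hT hT3 hT2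
    refine ⟨v, ?_, ?_⟩
    · have hgram : ∀ i j : Fin 3, h (T ^ (i : ℕ) *ᵥ v) (T ^ (j : ℕ) *ᵥ v) = G i j := by
        have hskew : ∀ x y, h (T *ᵥ x) y = -h x (T *ᵥ y) := fun x y => by
          rw [uh_adj hu, hT, neg_mulVec, uh_neg_right]
        have hvb : h v (T *ᵥ v) = 0 := by rw [← neg_eq_zero, ← hskew, hb]
        have hvc : h v (T ^ 2 *ᵥ v) = 1 := by
          have := hu.symm (T ^ 2 *ᵥ v) v
          rw [hc, map_one] at this
          exact this.symm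
        have e11 : h (T *ᵥ v) (T *ᵥ v) = -1 := by
          rw [hskew, mulVec_mulVec, ← sq, hvc]
        have e21 : h (T ^ 2 *ᵥ v) (T *ᵥ v) = 0 := by
          have := hskew (T ^ 2 *ᵥ v) v
          rw [mulVec_mulVec, ← pow_succ', hT3, zero_mulVec, uh_zero_left] at this
          linear_combination this
        have e12 : h (T *ᵥ v) (T ^ 2 *ᵥ v) = 0 := by rw [← hu.symm, e21, map_zero]
        have e22 : h (T ^ 2 *ᵥ v) (T ^ 2 *ᵥ v) = 0 := by
          rw [sq, ← mulVec_mulVec, hskew]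
          simp only [mulVec_mulVec]
          rw [show T * (T * T) = T ^ 3 by rw [← sq, ← pow_succ'], hT3, zero_mulVec, uh_zero_right, neg_zero]
        intro i j
        fin_cases i <;> fin_cases j <;> simp [G, ha, hb, hc, hvb, hvc, e11, e12, e21, e22]
      ext i j
      have h1 := uh_single_left (σ := σ) i (1 : F) ((adj σ (frame T v) * frame T v) *ᵥ Pi.single j 1)
      have h0 : h (Pi.single i 1) ((adj σ (frame T v) * frame T v) *ᵥ Pi.single j 1) = G i j := by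
        rw [← mulVec_mulVec, ← uh_adj hu, frame_col, frame_col, hgram]
      rw [h0, one_mul, mulVec_single_one] at h1
      have h2 := congrArg σ h1
      rw [hu.invol] at h2
      have e : σ (G i j) = G i j := by
        fin_cases i <;> fin_cases j <;> simp [G]
      rw [e] at h2
      exact h2.symm
    · ext i j
      have e : (T * frame T v) i j = (T *ᵥ (T ^ (j : ℕ) *ᵥ v)) i := rfl
      rw [e, mulVec_mulVec, ← pow_succ']
      fin_cases j <;> simp [Matrix.mul_apply, Fin.sum_univ_three, frame, hT3]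
  obtain ⟨v, hv, hDv⟩ := key hD hD3 hD2
  obtain ⟨w, hw, hDw⟩ := key hD' hD'3 hD'2
  have hGdet : G.det ≠ 0 := by simp [G, det_fin_three]
  have hAdet : (frame D v).det ≠ 0 := fun h0 => hGdet (by rw [← hv, det_mul, h0, mul_zero])
  have hA : IsUnit (frame D v).det := isUnit_iff_ne_zero.2 hAdet
  refine ⟨frame D' w * (frame D v)⁻¹, (isometry_iff hu).2 ?_, ?_⟩
  · rw [adj_mul]
    calc adj σ (frame D v)⁻¹ * adj σ (frame D' w) * (frame D' w * (frame D v)⁻¹)
        = adj σ (frame D v)⁻¹ * (adj σ (frame D' w) * frame D' w) * (frame D v)⁻¹ := by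
          simp only [mul_assoc]
      _ = (adj σ (frame D v)⁻¹ * adj σ (frame D v)) * (frame D v * (frame D v)⁻¹) := by
          rw [hw, ← hv]; simp only [mul_assoc]
      _ = 1 := by rw [← adj_mul, Matrix.mul_nonsing_inv _ hA, adj_one, mul_one]
  · have e : (frame D v)⁻¹ * D = !![0, 0, 0; 1, 0, 0; 0, 1, 0] * (frame D v)⁻¹ := by
      calc (frame D v)⁻¹ * D = (frame D v)⁻¹ * (D * frame D v) * (frame D v)⁻¹ := by
            rw [mul_assoc, mul_assoc D, Matrix.mul_nonsing_inv _ hA, mul_one]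
        _ = _ := by rw [hDv, Matrix.nonsing_inv_mul_cancel_left _ _ hA]
    rw [mul_assoc, e, ← mul_assoc, ← hDw, mul_assoc]

/-- Two regular unipotent isometries are conjugate by an isometry. -/
theorem exists_conj_unip [Finite F] (hu : UFrob σ q) (h2 : (2 : F) ≠ 0) {g g' : M3}
    (hg : ∀ x y, h (g *ᵥ x) (g *ᵥ y) = h x y) (hg3 : (g - 1) ^ 3 = 0) (hg2 : (g - 1) ^ 2 ≠ 0)
    (hg' : ∀ x y, h (g' *ᵥ x) (g' *ᵥ y) = h x y) (hg'3 : (g' - 1) ^ 3 = 0) (hg'2 : (g' - 1) ^ 2 ≠ 0) :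
    ∃ P : M3, (∀ x y, h (P *ᵥ x) (P *ᵥ y) = h x y) ∧ P * g = g' * P := by
  have h4 : (4 : F) ≠ 0 := by
    rw [show (4 : F) = 2 * 2 by norm_num]; exact mul_ne_zero h2 h2
  have key : ∀ {g : M3}, (∀ x y, h (g *ᵥ x) (g *ᵥ y) = h x y) → (g - 1) ^ 3 = 0 → (g - 1) ^ 2 ≠ 0 →
      ∃ D : M3, adj σ D = -D ∧ D ^ 3 = 0 ∧ D ^ 2 ≠ 0 ∧
        g = 1 + (2 : F)⁻¹ • D + (8 : F)⁻¹ • D ^ 2 := by
    intro g hg hg3 hg2
    set N := g - 1 with hN
    have hgN : g = 1 + N := by rw [hN]; abel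
    have hg1 : adj σ g * g = 1 := (isometry_iff hu).1 hg
    have hinv : g * (1 - N + N * N) = 1 := by
      rw [hgN]
      have : N * N * N = 0 := by rw [← hg3, pow_succ, sq]
      simp only [mul_add, mul_sub, add_mul, one_mul, mul_one, ← mul_assoc, this]
      abel
    have hadj : adj σ g = 1 - N + N * N := left_inv_eq_right_inv hg1 hinv
    refine ⟨g - adj σ g, by rw [adj_sub, adj_adj hu]; abel, ?_, ?_, ?_⟩
    all_goals rw [hadj, hgN]
    all_goals rw [show (1 + N - (1 - N + N * N)) = (2 : F) • N - N * N by rw [two_smul]; abel]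
    · have e3 : N * N * N = 0 := by rw [← hg3, pow_succ, sq]
      simp only [pow_succ, pow_zero, one_mul, sub_mul, mul_sub, smul_mul_assoc, mul_smul_comm, ← mul_assoc,
        e3, zero_mul, smul_zero, sub_self]
    · have e3 : N * N * N = 0 := by rw [← hg3, pow_succ, sq]
      intro h0
      simp only [sq, sub_mul, mul_sub, smul_mul_assoc, mul_smul_comm, ← mul_assoc, e3, zero_mul,
        smul_zero, sub_self, sub_zero, smul_smul] at h0
      refine hg2 ?_
      rw [sq]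
      exact (smul_eq_zero.1 h0).resolve_left (mul_ne_zero h2 h2)
    · have e3 : N * N * N = 0 := by rw [← hg3, pow_succ, sq]
      simp only [sq, sub_mul, mul_sub, smul_mul_assoc, mul_smul_comm, ← mul_assoc, e3, zero_mul,
        smul_zero, sub_self, sub_zero, smul_sub, smul_smul]
      have h8 : (8 : F) = 2 * 2 * 2 := by norm_num
      rw [h8]; match_scalars <;> (field_simp; try ring)
  obtain ⟨D, hD, hD3, hD2, hgD⟩ := key hg hg3 hg2
  obtain ⟨D', hD', hD'3, hD'2, hgD'⟩ := key hg' hg'3 hg'2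
  obtain ⟨P, hP, hPD⟩ := exists_conj_skew hu h2 hD hD3 hD2 hD' hD'3 hD'2
  refine ⟨P, hP, ?_⟩
  have hPD2 : P * D ^ 2 = D' ^ 2 * P := by
    rw [sq, sq, ← mul_assoc, hPD, mul_assoc, hPD, ← mul_assoc]
  rw [hgD, hgD']
  simp only [mul_add, add_mul, mul_smul_comm, smul_mul_assoc, hPD, hPD2, mul_one, one_mul]

end CfsgLib.NCover2.PSU3
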