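import Cfsg.Agent.Lib.NCover2.Poly
import Cfsg.Agent.Lib.Classical.UnitaryFrame
import Cfsg.Agent.Lib.Geometry.UnitaryStab

/-! Shared facts about unitary transformations over a finite field. -/

set_option autoImplicit false

namespace CfsgLib.NCover2.Unitary

open Polynomial Matrix CfsgLib.Classical CfsgLib.Classical.Unitary

variable {F : Type*} [Field F] {σ : F →+* F} {q n : ℕ}

local notation "h" => uh σ

theorem uh_neg_right (x y : Fin n → F) : uh σ x (-y) = -uh σ x y := by
  rw [← neg_one_smul F y, uh_smul_right, map_neg, map_one, neg_one_mul]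

variable [Finite F]

/-- The `q`-power map of an extension restricts to `σ`. -/
theorem exists_qHom (hF : Nat.card F = q ^ 2) (hu : UFrob σ q) (K : Type*) [Field K] [Algebra F K] :
    ∃ φ : K →+* K, (∀ x, φ x = x ^ q) ∧ ∀ a : F, φ (algebraMap F K a) = algebraMap F K (σ a) := by
  haveI := Fintype.ofFinite F
  obtain ⟨p, hp⟩ := CharP.exists F
  haveI : Fact p.Prime := ⟨(CharP.char_is_prime_or_zero F p).resolve_right (CharP.char_ne_zero_of_finite F p)⟩
  obtain ⟨e, -, he⟩ := FiniteField.card F p
  rw [← Nat.card_eq_fintype_card, hF] at he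
  have hd : q ∣ p ^ (e : ℕ) := he ▸ dvd_pow_self q two_ne_zero
  obtain ⟨k, -, hk⟩ := (Nat.dvd_prime_pow Fact.out).1 hd
  haveI : CharP K p := charP_of_injective_algebraMap (algebraMap F K).injective p
  haveI : ExpChar K p := ExpChar.prime Fact.out
  refine ⟨iterateFrobenius K p k, fun x => ?_, fun a => ?_⟩
  · rw [iterateFrobenius_def, hk]
  · rw [iterateFrobenius_def, ← hk, hu.pow, map_pow]

/-- An element fixed by the power map of the order of the base field lies in it. -/
theorem mem_range_of_pow_card {K : Type*} [Field K] [Algebra F K] {x : K} (hx : x ^ Nat.card F = x) :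
    x ∈ Set.range (algebraMap F K) := by
  haveI := Fintype.ofFinite F
  rw [Nat.card_eq_fintype_card] at hx
  have hm : (X ^ Fintype.card F - X : K[X]).eval x = 0 := by simp [hx]
  have hne : (X ^ Fintype.card F - X : K[X]) ≠ 0 := FiniteField.X_pow_card_sub_X_ne_zero K Fintype.one_lt_card
  have hroots : ((X ^ Fintype.card F - X : F[X]).map (algebraMap F K)).roots =
      (X ^ Fintype.card F - X : F[X]).roots.map (algebraMap F K) :=
    (Polynomial.roots_map_of_injective_of_card_eq_natDegree (algebraMap F K).injective (by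
      rw [FiniteField.roots_X_pow_card_sub_X, FiniteField.X_pow_card_sub_X_natDegree_eq F Fintype.one_lt_card]
      rfl)).symm
  have hx' : x ∈ ((X ^ Fintype.card F - X : F[X]).map (algebraMap F K)).roots := by
    rw [mem_roots (by simpa using hne)]
    simp [hx]
  rw [hroots, Multiset.mem_map] at hx'
  obtain ⟨a, -, ha⟩ := hx'
  exact ⟨a, ha⟩

/-- In dimension two a transformation with the adjugate relations has an eigenvalue. -/
theorem exists_root_two (hF : Nat.card F = q ^ 2) (hu : UFrob σ q) {t δ : F} (hδ : δ * σ δ = 1)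
    (ht : σ t * δ = t) : ∃ c : F, c ^ 2 - t * c + δ = 0 := by
  by_contra hc
  push Not at hc
  set f : F[X] := X ^ 2 - C t * X + C δ with hf
  have hfm : f.Monic := by rw [hf]; monicity!
  have hfd : f.natDegree = 2 := by rw [hf]; compute_degree!
  have hirr : Irreducible f := by
    rw [hfm.irreducible_iff_roots_eq_zero_of_degree_le_three (by omega) (by omega)]
    refine Multiset.eq_zero_of_forall_notMem fun c hcm => hc c ?_
    have := isRoot_of_mem_roots hcm
    simpa [hf, IsRoot] using this
  haveI : Fact (Irreducible f) := ⟨hirr⟩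
  obtain ⟨φ, hφ, hφa⟩ := exists_qHom hF hu (AdjoinRoot f)
  set a : AdjoinRoot f := AdjoinRoot.root f
  set i := algebraMap F (AdjoinRoot f) with hi
  have ha : a ^ 2 - i t * a + i δ = 0 := by
    have := AdjoinRoot.eval₂_root f
    simpa [hf, i, a, AdjoinRoot.algebraMap_eq] using this
  set b := φ a with hb
  have h2 : b ^ 2 - i (σ t) * b + i (σ δ) = 0 := by
    have := congrArg φ ha
    rw [map_add, map_sub, map_pow, map_mul, hφa, hφa, map_zero] at this
    exact this
  have e1 : i δ * i (σ δ) = 1 := by rw [← map_mul, hδ, map_one]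
  have e2 : i (σ t) * i δ = i t := by rw [← map_mul, ht]
  have h3 : i δ * b ^ 2 - i t * b + 1 = 0 := by linear_combination i δ * h2 + b * e2 - e1
  have h4 : (a * b - 1) * (a - i δ * b) = 0 := by linear_combination (b) * ha - a * h3
  have hrange : a ∈ Set.range i := by
    refine mem_range_of_pow_card ?_
    rw [hF, sq, pow_mul, ← hφ, ← hφ a, ← hb]
    have hinv : φ (i δ) * i δ = 1 := by rw [hφa, mul_comm, e1]
    rcases mul_eq_zero.1 h4 with h5 | h5
    · have e : φ a * φ b = 1 := by
        rw [← map_mul, sub_eq_zero.1 h5, map_one]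
      rw [← hb] at e
      calc φ b = φ b * (a * b) := by rw [sub_eq_zero.1 h5, mul_one]
        _ = a * (b * φ b) := by ring
        _ = a := by rw [e, mul_one]
    · have e : b = φ (i δ) * φ b := by
        rw [← map_mul, ← sub_eq_zero.1 h5]
      calc φ b = i δ * (φ (i δ) * φ b) := by linear_combination (-φ b) * hinv
        _ = a := by rw [← e]; exact (sub_eq_zero.1 h5).symm
  obtain ⟨c, hc'⟩ := hrange
  apply hc c
  apply i.injective
  rw [map_add, map_sub, map_pow, map_mul, map_zero]
  rw [hc']
  exact ha

/-- An isometry of a two dimensional non-degenerate invariant subspace has an eigenvector there. -/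
theorem exists_eigen_two (hF : Nat.card F = q ^ 2) (hu : UFrob σ q) (W : Submodule F (Fin n → F))
    (hW : Module.finrank F W = 2) (hnd : ∀ x ∈ W, (∀ y ∈ W, h y x = 0) → x = 0) (T : W →ₗ[F] W)
    (hT : ∀ x y : W, h (T x : Fin n → F) (T y : Fin n → F) = h (x : Fin n → F) y) :
    ∃ (c : F) (x : W), x ≠ 0 ∧ T x = c • x := by
  let b := Module.finBasisOfFinrankEq F W hW
  set A := LinearMap.toMatrix b b T with hA
  set G : Matrix (Fin 2) (Fin 2) F := Matrix.of fun i j => h (b i : Fin n → F) (b j) with hG
  have hTb : ∀ i, T (b i) = A 0 i • b 0 + A 1 i • b 1 := fun i => by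
    conv_lhs => rw [← b.sum_repr (T (b i)), Fin.sum_univ_two]
    simp only [A, LinearMap.toMatrix_apply]
  have hGA : Aᵀ * G * A.map σ = G := by
    ext i j
    have := hT (b i) (b j)
    rw [hTb, hTb] at this
    simp only [Submodule.coe_add, Submodule.coe_smul, uh_add_left, uh_add_right, uh_smul_left,
      uh_smul_right] at this
    simp only [Matrix.mul_apply, Matrix.transpose_apply, Matrix.map_apply, Fin.sum_univ_two, hG,
      Matrix.of_apply]
    linear_combination this
  have hGdet : G.det ≠ 0 := by
    intro h0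
    obtain ⟨w, hw, hGw⟩ := exists_mulVec_eq_zero_iff.2 h0
    obtain ⟨c0, rfl⟩ : ∃ c0, σ ∘ c0 = w := ⟨σ ∘ w, funext fun i => hu.invol (w i)⟩
    have hx := hnd ((c0 0 • b 0 + c0 1 • b 1 : W) : Fin n → F) (SetLike.coe_mem _) fun y hy => by
      have h0' := congrFun hGw 0
      have h1' := congrFun hGw 1
      simp only [mulVec, dotProduct, Fin.sum_univ_two, hG, Matrix.of_apply, Function.comp_apply,
        Pi.zero_apply] at h0' h1'
      have hy' := congrArg (fun z : W => (z : Fin n → F)) (b.sum_repr ⟨y, hy⟩)
      simp only [Fin.sum_univ_two, Submodule.coe_add, Submodule.coe_smul] at hy'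
      rw [← hy']
      simp only [Submodule.coe_add, Submodule.coe_smul, uh_add_left, uh_add_right, uh_smul_left,
        uh_smul_right]
      linear_combination b.repr ⟨y, hy⟩ 0 * h0' + b.repr ⟨y, hy⟩ 1 * h1'
    have hx' : (c0 0 • b 0 + c0 1 • b 1 : W) = 0 := Subtype.ext hx
    have hz := congrArg b.repr hx'
    have z0 := congrArg (fun z => z 0) hz
    have z1 := congrArg (fun z => z 1) hz
    simp at z0 z1
    apply hw
    funext i
    fin_cases i <;> simp [z0, z1]
  have hd := congrArg Matrix.det hGA
  rw [det_mul, det_mul, det_transpose, ← RingHom.mapMatrix_apply, ← RingHom.map_det] at hd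
  have hδ : A.det * σ A.det = 1 := mul_left_cancel₀ hGdet (by linear_combination hd)
  have htr : σ A.trace * A.det = A.trace := by
    have hGu : IsUnit G.det := isUnit_iff_ne_zero.2 hGdet
    have e : (A.adjugate)ᵀ * Aᵀ = A.det • 1 := by
      rw [← transpose_mul, mul_adjugate, transpose_smul, transpose_one]
    have e' : A.det • (G * A.map σ) = (A.adjugate)ᵀ * G := by
      calc A.det • (G * A.map σ) = ((A.adjugate)ᵀ * Aᵀ) * (G * A.map σ) := by
            rw [e, Matrix.smul_mul, one_mul]
        _ = (A.adjugate)ᵀ * G := by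
            conv_rhs => rw [← hGA]
            simp only [Matrix.mul_assoc]
    have hs' : A.det • (A.map σ) = G⁻¹ * ((A.adjugate)ᵀ * G) := by
      rw [← e', Matrix.mul_smul, Matrix.nonsing_inv_mul_cancel_left _ _ hGu]
    have h2 := congrArg Matrix.trace hs'
    rw [trace_smul, Matrix.trace_mul_comm, Matrix.mul_nonsing_inv_cancel_right _ _ hGu, trace_transpose,
      smul_eq_mul, trace_fin_two, trace_fin_two, Matrix.map_apply, Matrix.map_apply, adjugate_fin_two] at h2
    rw [trace_fin_two, map_add]
    simp at h2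
    linear_combination h2
  obtain ⟨c, hc⟩ := exists_root_two hF hu hδ htr
  have h0 : (A - c • 1).det = 0 := by
    rw [det_fin_two] at hc ⊢
    rw [trace_fin_two] at hc
    simp [Matrix.sub_apply]
    linear_combination hc
  obtain ⟨w, hw, hAw⟩ := exists_mulVec_eq_zero_iff.2 h0
  refine ⟨c, b.equivFun.symm w, fun he => hw (by rw [← b.equivFun.apply_symm_apply w, he, map_zero]), ?_⟩
  apply b.equivFun.injective
  rw [map_smul, LinearEquiv.apply_symm_apply]
  have e : b.equivFun (T (b.equivFun.symm w)) = A *ᵥ w := by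
    have h1 := LinearMap.toMatrix_mulVec_repr b b T (b.equivFun.symm w)
    rw [Module.Basis.equivFun_apply, ← h1, ← Module.Basis.equivFun_apply, LinearEquiv.apply_symm_apply]
  rw [e]
  rw [sub_mulVec, smul_mulVec, one_mulVec, sub_eq_zero] at hAw
  exact hAw

/-- A combination of two orthogonal vectors is isotropic. -/
theorem exists_isotropic_pair (hu : UFrob σ q) {u w : Fin n → F} (hort : h u w = 0) :
    ∃ a b : F, (a ≠ 0 ∨ b ≠ 0) ∧ h (a • u + b • w) (a • u + b • w) = 0 := by
  rcases eq_or_ne (h u u) 0 with h0 | h0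
  · exact ⟨1, 0, .inl one_ne_zero, by simp [uh_zero_right, uh_zero_left, h0]⟩
  obtain ⟨c, hc⟩ := CfsgLib.Geometry.exists_norm_eq hu.ne hu.invol (c := -(h w w / h u u))
    (by rw [map_neg, map_div₀, hu.symm, hu.symm])
  refine ⟨c, 1, .inr one_ne_zero, ?_⟩
  simp only [one_smul, uh_add_left, uh_add_right, uh_smul_left, uh_smul_right, hort,
    hu.swap_zero hort]
  field_simp at hc
  linear_combination hc

end CfsgLib.NCover2.Unitary
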