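import Cfsg.Agent.Lib.NCover2.Basic
import Cfsg.Agent.Lib.NCover2.UnitaryCommon

/-! Transitivity of the special unitary group on non-isotropic points, and stabilisers. -/

set_option autoImplicit false

namespace CfsgLib.NCover2.Unitary

open Matrix CfsgLib.Classical CfsgLib.Classical.Unitary CfsgLib.Geometry

variable {F : Type*} [Field F] {σ : F →+* F} {q n : ℕ}

local notation "h" => uh σ

/-- A determinant one element of `GU` as an element of `SU`. -/
def guToSU (g : GL (Fin n) F) (hg : g ∈ Cfsg.GU n F q) (hd : g.1.det = 1) : Cfsg.SU n F q :=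
  ⟨⟨g.1, hd⟩, hg⟩

theorem guToSU_val (g : GL (Fin n) F) (hg : g ∈ Cfsg.GU n F q) (hd : g.1.det = 1) :
    (guToSU g hg hd).1.1 = g.1 := rfl

theorem su_mulVec_inv' (g : Cfsg.SU n F q) (x : Fin n → F) :
    g.1.1 *ᵥ ((g⁻¹).1.1 *ᵥ x) = x := by
  rw [← su_mul_mulVec, mul_inv_cancel, su_one_mulVec]

/-- The stabiliser of the line of a vector. -/
def pointStab (F : Type*) [Field F] (n q : ℕ) (e : Fin n → F) : Subgroup (Cfsg.SU n F q) where
  carrier := {g | ∃ c : F, c ≠ 0 ∧ g.1.1 *ᵥ e = c • e}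
  mul_mem' {a b} := by
    rintro ⟨c, hc0, hc⟩ ⟨d, hd0, hd⟩
    exact ⟨d * c, mul_ne_zero hd0 hc0, by rw [su_mul_mulVec, hd, mulVec_smul, hc, smul_smul]⟩
  one_mem' := ⟨1, one_ne_zero, by rw [su_one_mulVec, one_smul]⟩
  inv_mem' {a} := by
    rintro ⟨c, hc0, hc⟩
    refine ⟨c⁻¹, inv_ne_zero hc0, ?_⟩
    have h1 := congrArg (fun x => (a⁻¹).1.1 *ᵥ x) hc
    simp only [su_inv_mulVec, mulVec_smul] at h1
    exact (eq_inv_smul_iff₀ hc0).2 h1.symm

/-- The stabiliser of a subspace. -/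
def subStab (q : ℕ) (W : Submodule F (Fin n → F)) : Subgroup (Cfsg.SU n F q) where
  carrier := {g | ∀ x, x ∈ W ↔ g.1.1 *ᵥ x ∈ W}
  mul_mem' {a b} ha hb := fun x => by rw [su_mul_mulVec]; exact (hb x).trans (ha _)
  one_mem' := fun x => by rw [su_one_mulVec]
  inv_mem' {a} ha := fun x => by
    have := ha ((a⁻¹).1.1 *ᵥ x)
    rw [su_mulVec_inv'] at this
    exact this.symm

variable [Finite F]

theorem exists_normalise (hu : UFrob σ q) {v : Fin n → F} (hv : h v v ≠ 0) :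
    ∃ t : F, t ≠ 0 ∧ h (t • v) (t • v) = 1 := by
  obtain ⟨t, ht⟩ := exists_norm_eq hu.ne hu.invol (c := (h v v)⁻¹) (by rw [map_inv₀, hu.symm])
  have ht0 : t ≠ 0 := by rintro rfl; simp at ht; exact hv ht.symm
  refine ⟨t, ht0, ?_⟩
  rw [uh_smul_left, uh_smul_right, ← mul_assoc, ht, inv_mul_cancel₀ hv]

/-- `SU` is transitive on non-isotropic points. -/
theorem exists_su_point (hu : UFrob σ q) {i j : Fin n} (hij : j ≠ i) {v : Fin n → F} (hv : h v v ≠ 0) :
    ∃ (x : Cfsg.SU n F q) (c : F), c ≠ 0 ∧ x.1.1 *ᵥ v = c • Pi.single i 1 := by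
  obtain ⟨t, ht0, ht⟩ := exists_normalise hu hv
  have hne : t • v ≠ 0 := fun h0 => by rw [h0, uh_zero_left] at ht; exact zero_ne_one ht
  obtain ⟨g, hg, hgv⟩ := exists_gu_map_one hu (w := (Pi.single i 1 : Fin n → F)) hne (by simp)
    (by rw [ht, uh_single_left, Pi.single_eq_same, map_one, one_mul])
  set δ := g.1.det with hδ
  have hδ0 : δ ≠ 0 := g.isUnit.map Matrix.detMonoidHom |>.ne_zero
  have hnorm : δ * σ δ = 1 := by
    have hgu : g.1ᵀ * g.1.map σ = 1 := by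
      ext a b
      have hab := mem_GU_iff.1 hg (Pi.single a 1) (Pi.single b 1)
      rw [hu.hermForm_eq, hu.hermForm_eq, mulVec_single_one, mulVec_single_one, uh_single_left, one_mul] at hab
      simp only [Matrix.mul_apply, Matrix.transpose_apply, Matrix.map_apply, Matrix.one_apply]
      simpa [uh, dotProduct, Pi.single_apply, apply_ite σ, eq_comm] using hab
    have := congrArg Matrix.det hgu
    rwa [det_mul, det_transpose, ← RingHom.mapMatrix_apply, ← RingHom.map_det, det_one] at this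
  let d : Fin n → F := fun k => if k = j then δ⁻¹ else 1
  let D : Matrix (Fin n) (Fin n) F := diagonal d
  have hdet : (D * g.1).det = 1 := by
    rw [det_mul, det_diagonal, Finset.prod_ite_eq']
    simp [← hδ, inv_mul_cancel₀ hδ0]
  have hmem : ∀ u w, Cfsg.hermForm n F q ((D * g.1) *ᵥ u) ((D * g.1) *ᵥ w) = Cfsg.hermForm n F q u w := by
    intro u w
    rw [← mulVec_mulVec, ← mulVec_mulVec]
    refine Eq.trans ?_ (mem_GU_iff.1 hg u w)
    rw [diag_mulVec_herm]
    refine Finset.sum_congr rfl fun k _ => ?_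
    have : d k ^ (q + 1) = 1 := by
      simp only [d]
      split
      · rw [pow_succ, ← hu.pow, map_inv₀, ← mul_inv, mul_comm, hnorm, inv_one]
      · exact one_pow _
    rw [this, one_mul]
  refine ⟨⟨⟨D * g.1, hdet⟩, hmem⟩, t⁻¹, inv_ne_zero ht0, ?_⟩
  show (D * g.1) *ᵥ v = _
  rw [eq_inv_smul_iff₀ ht0, ← mulVec_smul, ← mulVec_mulVec, hgv]
  funext k
  rw [mulVec_diagonal]
  rcases eq_or_ne k i with rfl | hk
  · simp [d, hij.symm]
  · simp [hk]

theorem conj_pointStab {x g : Cfsg.SU n F q} {v e : Fin n → F} {c d : F} (hc : c ≠ 0)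
    (hx : x.1.1 *ᵥ v = c • e) (hd : d ≠ 0) (hg : g.1.1 *ᵥ v = d • v) :
    x * g * x⁻¹ ∈ pointStab F n q e := by
  refine ⟨d, hd, ?_⟩
  have h1 : (x⁻¹).1.1 *ᵥ e = c⁻¹ • v := by
    rw [eq_inv_smul_iff₀ hc, ← mulVec_smul, ← hx, su_inv_mulVec]
  rw [su_mul_mulVec, su_mul_mulVec, h1, mulVec_smul, hg, mulVec_smul, mulVec_smul, hx, smul_comm d c,
    inv_smul_smul₀ hc]

omit [Finite F] in
theorem pointStab_center (hF : Nat.card F = q ^ 2) [Finite F] (hn : 2 ≤ n) (e : Fin n → F) :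
    Subgroup.center (Cfsg.SU n F q) ≤ pointStab F n q e := fun z hz => by
  obtain ⟨c, hc, -, hz'⟩ := SU_center_scalar hF hn hz
  have hc0 : c ≠ 0 := by rintro rfl; simp at hc
  refine ⟨c, hc0, ?_⟩
  rw [hz']
  funext k
  simp [mulVec_diagonal]

theorem pointStab_ne_top (hF : Nat.card F = q ^ 2) {i j : Fin n} (hij : i ≠ j) :
    pointStab F n q (Pi.single i 1 : Fin n → F) ≠ ⊤ := by
  intro ht
  let s : Cfsg.SU n F q := ⟨⟨signSwap F i j, signSwap_det hij⟩, signSwap_mem_SU hF hij⟩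
  obtain ⟨c, -, hc⟩ := (ht ▸ Subgroup.mem_top s : s ∈ pointStab F n q (Pi.single i 1 : Fin n → F))
  have h1 := congrFun hc j
  change (signSwap F i j *ᵥ (Pi.single i 1 : Fin n → F)) j = _ at h1
  rw [signSwap_mulVec] at h1
  simp [hij.symm] at h1

end CfsgLib.NCover2.Unitary
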