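import Cfsg.Agent.Lib.NCover2.Linear
import Cfsg.Agent.Lib.NCover2.PSU3Model
import Cfsg.Agent.Lib.NCover2.PSU3Unip
import Cfsg.Agent.Lib.NCover2.UnitaryPoints

/-! In characteristic three a special unitary transformation in dimension three fixes a non-isotropic
point or is conjugate into the normaliser of a Singer cycle. -/

set_option autoImplicit false

namespace CfsgLib.NCover2.PSU3

open Polynomial Matrix CfsgLib.Classical CfsgLib.Classical.Unitary CfsgLib.Geometry
open CfsgLib.NCover2.Unitary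

variable {F : Type*} [Field F] {σ : F →+* F} {q : ℕ}

local notation "V" => (Fin 3 → F)
local notation "M3" => Matrix (Fin 3) (Fin 3) F
local notation "h" => uh σ

/-- A root of a polynomial gives a map from the quotient. -/
noncomputable def fieldHom (f : F[X]) (M : M3) (hM : aeval M f = 0) : AdjoinRoot f →ₐ[F] M3 :=
  Ideal.Quotient.liftₐ (Ideal.span {f}) (aeval M) (by
    intro a ha
    obtain ⟨b, rfl⟩ := Ideal.mem_span_singleton.1 ha
    simp [hM])

theorem fieldHom_mk (f : F[X]) (M : M3) (hM : aeval M f = 0) (p : F[X]) :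
    fieldHom f M hM (AdjoinRoot.mk f p) = aeval M p := rfl

theorem fieldHom_injective {f : F[X]} [Fact (Irreducible f)] {M : M3} (hM : aeval M f = 0) :
    Function.Injective (fieldHom f M hM) := (fieldHom f M hM).toRingHom.injective

/-- The centraliser of a cubic extension. -/
theorem exists_of_commute {f : F[X]} [Fact (Irreducible f)] (hf : f.natDegree = 3) {M : M3}
    (hM : aeval M f = 0) {X' : M3} (hX : X' * M = M * X') :
    ∃ k, fieldHom f M hM k = X' := by
  have hirr : Irreducible f := Fact.out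
  haveI : Module.Finite F (AdjoinRoot f) := (AdjoinRoot.powerBasis hirr.ne_zero).finite
  set ψ := fieldHom f M hM
  let v : V := Pi.single 0 1
  let L : AdjoinRoot f →ₗ[F] V :=
    { toFun := fun k => ψ k *ᵥ v
      map_add' := fun a b => by rw [map_add, add_mulVec]
      map_smul' := fun c a => by rw [map_smul, smul_mulVec, RingHom.id_apply] }
  have hinj : Function.Injective L := by
    refine (injective_iff_map_eq_zero L).2 fun k hk => ?_
    by_contra hk0
    have h1 : ψ k⁻¹ *ᵥ (ψ k *ᵥ v) = v := by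
      rw [mulVec_mulVec, ← map_mul, inv_mul_cancel₀ hk0, map_one, one_mulVec]
    rw [show ψ k *ᵥ v = 0 from hk, mulVec_zero] at h1
    simpa [v] using congrFun h1.symm 0
  have hsur : Function.Surjective L := (LinearMap.injective_iff_surjective_of_finrank_eq_finrank (by
    rw [(AdjoinRoot.powerBasis hirr.ne_zero).finrank, AdjoinRoot.powerBasis_dim, hf,
      Module.finrank_fin_fun])).1 hinj
  obtain ⟨a, ha⟩ := hsur (X' *ᵥ v)
  refine ⟨a, Matrix.ext_iff_mulVec.2 fun y => ?_⟩
  obtain ⟨k, rfl⟩ := hsur y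
  have hc : Commute X' (ψ k) := by
    obtain ⟨p, rfl⟩ := AdjoinRoot.mk_surjective k
    rw [fieldHom_mk]
    induction p using Polynomial.induction_on with
    | C r => rw [aeval_C]; exact (Algebra.commutes r X').symm
    | add p p' hp hp' => rw [map_add]; exact hp.add_right hp'
    | monomial n r hind =>
      rw [pow_succ, ← mul_assoc, map_mul, aeval_X]
      exact hind.mul_right hX
  show ψ a *ᵥ (ψ k *ᵥ v) = X' *ᵥ (ψ k *ᵥ v)
  rw [mulVec_mulVec v X', hc.eq, ← mulVec_mulVec, ← (show ψ a *ᵥ v = X' *ᵥ v from ha), mulVec_mulVec,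
    mulVec_mulVec, ← map_mul, ← map_mul, mul_comm]

/-- A semilinear automorphism of an extension with a fixed generator. -/
theorem exists_semilinear {f : F[X]} [Fact (Irreducible f)] (hfσ : f.map σ = f) (hu : UFrob σ q) :
    ∃ τ : AdjoinRoot f →+* AdjoinRoot f, (∀ p, τ (AdjoinRoot.mk f p) = AdjoinRoot.mk f (p.map σ)) ∧
      (∀ x, τ (τ x) = x) ∧ τ ≠ RingHom.id _ := by
  have hroot : f.eval₂ ((AdjoinRoot.of f).comp σ) (AdjoinRoot.root f) = 0 := by
    rw [← eval₂_map, hfσ, AdjoinRoot.eval₂_root]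
  let τ := AdjoinRoot.lift ((AdjoinRoot.of f).comp σ) (AdjoinRoot.root f) hroot
  have hmk : ∀ p, τ (AdjoinRoot.mk f p) = AdjoinRoot.mk f (p.map σ) := fun p => by
    rw [AdjoinRoot.lift_mk, ← eval₂_map, ← AdjoinRoot.aeval_eq]
    rfl
  refine ⟨τ, hmk, fun x => ?_, fun hid => ?_⟩
  · obtain ⟨p, rfl⟩ := AdjoinRoot.mk_surjective x
    rw [hmk, hmk, Polynomial.map_map, show σ.comp σ = RingHom.id F from RingHom.ext hu.invol,
      Polynomial.map_id]
  · refine hu.ne (RingHom.ext fun a => (AdjoinRoot.of f).injective ?_)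
    have h1 := RingHom.congr_fun hid (AdjoinRoot.of f a)
    rwa [← AdjoinRoot.mk_C, hmk, Polynomial.map_C, AdjoinRoot.mk_C] at h1

variable [Finite F]

/-- Conjugation by an isometry can be done inside the special unitary group. -/
theorem exists_su_of_isometry [CharP F 3] (hF : Nat.card F = q ^ 2) (hu : UFrob σ q) {P : M3}
    (hP : ∀ x y, h (P *ᵥ x) (P *ᵥ y) = h x y) :
    ∃ x : Cfsg.SU 3 F q, ∀ M N : M3, P * M = N * P → x.1.1 * M = N * x.1.1 := by
  set δ := P.det with hδ
  have hn : δ * σ δ = 1 := det_mul_conj hu hP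
  have hq3 : 3 ∣ q := by
    haveI := Fintype.ofFinite F
    obtain ⟨k, -, hk⟩ := FiniteField.card F 3
    rw [← Nat.card_eq_fintype_card, hF] at hk
    have h3 : 3 ∣ q ^ 2 := hk ▸ dvd_pow_self 3 k.ne_zero
    exact Nat.Prime.dvd_of_dvd_pow Nat.prime_three h3
  obtain ⟨k, hk⟩ := hq3
  set c := δ ^ k with hc
  have hcn : c * σ c = 1 := by rw [hc, map_pow, ← mul_pow, hn, one_pow]
  have hdet : (c • P).det = 1 := by
    rw [det_smul, Fintype.card_fin, hc, ← pow_mul, mul_comm k, ← hk, ← hδ, ← hu.pow, mul_comm, hn]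
  refine ⟨⟨⟨c • P, hdet⟩, fun x y => ?_⟩, fun M N hMN => ?_⟩
  · show Cfsg.hermForm 3 F q ((c • P) *ᵥ x) ((c • P) *ᵥ y) = _
    rw [hu.hermForm_eq, hu.hermForm_eq, smul_mulVec, smul_mulVec, uh_smul_left, uh_smul_right, hP,
      ← mul_assoc, hcn, one_mul]
  · show (c • P) * M = N * (c • P)
    rw [smul_mul_assoc, mul_smul_comm, hMN]

theorem su_conj_val {x g : Cfsg.SU 3 F q} {N : M3} (hx : x.1.1 * g.1.1 = N * x.1.1) :
    (x * g * x⁻¹).1.1 = N := by
  show x.1.1 * g.1.1 * (x⁻¹).1.1 = N
  rw [hx, mul_assoc, show x.1.1 * (x⁻¹).1.1 = (x * x⁻¹).1.1 from rfl, mul_inv_cancel]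
  exact mul_one N

omit [Finite F] in
theorem mul_normalise (A B J : M3) (a b : F[X]) (ha : A * J = aeval J a * A)
    (hb : B * J = aeval J b * B) : A * B * J = aeval J (b.comp a) * (A * B) := by
  have hs : ∀ p : F[X], A * aeval J p = aeval J (p.comp a) * A := by
    intro p
    induction p using Polynomial.induction_on with
    | C r => rw [C_comp, aeval_C, Algebra.commutes]
    | add p p' hp hp' => rw [map_add, mul_add, hp, hp', add_comp, map_add, add_mul]
    | monomial n r hind =>
      rw [pow_succ, ← mul_assoc (C r), mul_comp, X_comp]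
      generalize C r * X ^ n = u at hind ⊢
      rw [map_mul, map_mul, aeval_X, ← mul_assoc, hind, mul_assoc, ha, ← mul_assoc]
  rw [mul_assoc, hb, ← mul_assoc, hs, mul_assoc]

/-- The isometries normalising the extension generated by `J`. -/
def singerNorm (q : ℕ) (J : M3) : Subgroup (Cfsg.SU 3 F q) :=
  let S : Submonoid (Cfsg.SU 3 F q) :=
    { carrier := {g | ∃ a : F[X], g.1.1 * J = aeval J a * g.1.1}
      mul_mem' := by
        rintro g k ⟨a, ha⟩ ⟨b, hb⟩
        exact ⟨b.comp a, mul_normalise g.1.1 k.1.1 J a b ha hb⟩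
      one_mem' := ⟨X, by rw [aeval_X]; show (1 : M3) * J = J * (1 : M3); rw [one_mul, mul_one]⟩ }
  { S with
    inv_mem' := fun {g} hg => by
      have e : g⁻¹ = g ^ (orderOf g - 1) := by
        rw [inv_eq_iff_mul_eq_one, ← pow_succ', Nat.sub_add_cancel (orderOf_pos g), pow_orderOf_eq_one]
      show g⁻¹ ∈ S
      rw [e]
      exact pow_mem (show g ∈ S from hg) _ }

theorem mem_singerNorm {J : M3} {g : Cfsg.SU 3 F q} :
    g ∈ singerNorm q J ↔ ∃ a : F[X], g.1.1 * J = aeval J a * g.1.1 := Iff.rfl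

theorem singerNorm_ne_top [CharP F 3] (hF : Nat.card F = q ^ 2) {f : F[X]} [Fact (Irreducible f)]
    (hfd : f.natDegree = 3) {J : M3} (hJ : aeval J f = 0) : singerNorm q J ≠ ⊤ := by
  intro ht
  have hirr : Irreducible f := Fact.out
  haveI : Module.Finite F (AdjoinRoot f) := (AdjoinRoot.powerBasis hirr.ne_zero).finite
  haveI : Finite (AdjoinRoot f) := Module.finite_of_finite F
  have h2 : (2 : F) ≠ 0 := by
    intro h2
    have h3 : (3 : F) = 0 := by exact_mod_cast CharP.cast_eq_zero F 3
    exact one_ne_zero (show (1 : F) = 0 by linear_combination h3 - h2)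
  let d : Fin 3 → F := ![-1, -1, 1]
  have hd : (diagonal d).det = 1 := by simp [d, det_diagonal, Fin.prod_univ_three]
  have hd1 : ∀ i, d i ^ (q + 1) = 1 := by
    have hodd : ((-1 : F)) ^ (q + 1) = 1 := by
      have hq : Odd q := by
        haveI := Fintype.ofFinite F
        obtain ⟨k, -, hk⟩ := FiniteField.card F 3
        rw [← Nat.card_eq_fintype_card, hF] at hk
        have : Odd (q ^ 2) := hk ▸ (by decide : Odd 3).pow
        rwa [Nat.odd_pow_iff two_ne_zero] at this
      exact Even.neg_one_pow (Nat.even_add_one.2 (Nat.not_even_iff_odd.2 hq))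
    intro i
    fin_cases i <;> simp [d, hodd]
  let s : Cfsg.SU 3 F q := ⟨⟨diagonal d, hd⟩, diagonal_mem_SU hd1 hd⟩
  obtain ⟨p, hp⟩ := mem_singerNorm.1 (ht ▸ Subgroup.mem_top s : s ∈ singerNorm q J)
  change diagonal d * J = aeval J p * diagonal d at hp
  set S : M3 := diagonal d with hS
  have hSS : S * S = 1 := by
    rw [hS, diagonal_mul_diagonal, ← diagonal_one]
    congr 1; funext i; fin_cases i <;> simp [d]
  set ψ := fieldHom f J hJ
  have hψp : ψ (AdjoinRoot.mk f p) = S * J * S := by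
    rw [fieldHom_mk, hp, mul_assoc, hSS, mul_one]
  let c : M3 →ₐ[F] M3 :=
    { toFun := fun M => S * M * S
      map_one' := by rw [mul_one, hSS]
      map_mul' := fun A B => by
        calc S * (A * B) * S = S * A * (S * S) * B * S := by rw [hSS, mul_one]; simp only [mul_assoc]
          _ = _ := by simp only [mul_assoc]
      map_zero' := by rw [mul_zero, zero_mul]
      map_add' := fun A B => by rw [mul_add, add_mul]
      commutes' := fun r => by
        rw [← Algebra.commutes r S, mul_assoc, hSS, mul_one] }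
  have hroot : aeval (AdjoinRoot.mk f p) f = 0 := by
    refine fieldHom_injective hJ ?_
    rw [← aeval_algHom_apply, hψp, map_zero]
    show aeval (c J) f = 0
    rw [aeval_algHom_apply, hJ, map_zero]
  let α : AdjoinRoot f →ₐ[F] AdjoinRoot f :=
    AdjoinRoot.liftAlgHom f (Algebra.ofId F _) (AdjoinRoot.mk f p) hroot
  have hα : ∀ x, ψ (α x) = c (ψ x) := by
    intro x
    have e : ψ.comp α = c.comp ψ := AdjoinRoot.algHom_ext (by
      show ψ (α (AdjoinRoot.root f)) = c (ψ (AdjoinRoot.root f))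
      rw [show α (AdjoinRoot.root f) = AdjoinRoot.mk f p from AdjoinRoot.liftAlgHom_root _ _ _ _, hψp,
        ← AdjoinRoot.mk_X, fieldHom_mk, aeval_X]
      rfl)
    exact AlgHom.congr_fun e x
  let α' := AlgEquiv.ofBijective α (Finite.injective_iff_bijective.1 α.toRingHom.injective)
  have hα2 : α' ^ 2 = 1 := by
    refine AlgEquiv.ext fun x => fieldHom_injective hJ ?_
    rw [sq]
    show ψ (α (α x)) = ψ x
    rw [hα, hα]
    show S * (S * ψ x * S) * S = ψ x
    calc S * (S * ψ x * S) * S = (S * S) * ψ x * (S * S) := by simp only [mul_assoc]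
      _ = ψ x := by rw [hSS, one_mul, mul_one]
  have hcard : Nat.card (AdjoinRoot f ≃ₐ[F] AdjoinRoot f) = 3 := by
    rw [IsGalois.card_aut_eq_finrank, (AdjoinRoot.powerBasis hirr.ne_zero).finrank,
      AdjoinRoot.powerBasis_dim, hfd]
  have hα1 : α' = 1 := by
    have h3 : α' ^ 3 = 1 := by rw [← hcard]; exact pow_card_eq_one'
    calc α' = α' ^ 3 * (α' ^ 2)⁻¹ := by group
      _ = 1 := by rw [h3, hα2, inv_one, mul_one]
  have hcomm : S * J = J * S := by
    have h1 := hα (AdjoinRoot.root f)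
    rw [show α (AdjoinRoot.root f) = AdjoinRoot.root f from by
        show α' (AdjoinRoot.root f) = _
        rw [hα1]; rfl,
      ← AdjoinRoot.mk_X, fieldHom_mk, aeval_X] at h1
    calc S * J = (S * J * S) * S := by rw [mul_assoc _ S S, hSS, mul_one]
      _ = J * S := by rw [show S * J * S = J from h1.symm]
  obtain ⟨k, hk⟩ := exists_of_commute hfd hJ hcomm
  have hk2 : k * k = 1 := fieldHom_injective hJ (by rw [map_mul, hk, map_one, hSS])
  have h0 := congrFun (congrFun hk 0) 0
  have h1 := congrFun (congrFun hk 2) 2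
  rcases mul_self_eq_one_iff.1 hk2 with rfl | rfl
  · simp [S, d] at h0
    exact h2 (by linear_combination h0)
  · simp [S, d] at h1
    exact h2 (by linear_combination -h1)

/-- Without an eigenvalue the transformation commutes with a conjugate of the Singer cycle. -/
theorem conj_of_irreducible (hF : Nat.card F = q ^ 2) (hu : UFrob σ q) {f : F[X]}
    [Fact (Irreducible f)] (hfd : f.natDegree = 3) (hfσ : f.map σ = f) {J : M3} (hJ : aeval J f = 0)
    (hJq : J ^ q ^ 3 = J) (hJadj : adj σ J = J) {g : M3}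
    (hg : ∀ x y, h (g *ᵥ x) (g *ᵥ y) = h x y) (hnev : ∀ (c : F) (v : V), g *ᵥ v = c • v → v = 0) :
    ∃ P : M3, (∀ x y, h (P *ᵥ x) (P *ᵥ y) = h x y) ∧ ∃ N : M3, P * g = N * P ∧ N * J = J * N := by
  have hirr : Irreducible f := Fact.out
  have hχ : Irreducible g.charpoly := by
    have hd : g.charpoly.natDegree = 3 := by rw [charpoly_natDegree_eq_dim, Fintype.card_fin]
    rw [(charpoly_monic g).irreducible_iff_roots_eq_zero_of_degree_le_three (by omega) (by omega)]
    refine Multiset.eq_zero_of_forall_notMem fun c hc => ?_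
    have h0 : g.charpoly.eval c = 0 := isRoot_of_mem_roots hc
    obtain ⟨v, hv, hgv⟩ := Linear.eigen_of_root (dvd_refl _) h0
    exact hv (hnev c v hgv)
  haveI : Fact (Irreducible g.charpoly) := ⟨hχ⟩
  set K := AdjoinRoot g.charpoly
  haveI : Module.Finite F K := (AdjoinRoot.powerBasis hχ.ne_zero).finite
  haveI : Finite K := Module.finite_of_finite F
  haveI := Fintype.ofFinite K
  set φ := fieldHom g.charpoly g (aeval_self_charpoly g)
  have hφg : φ (AdjoinRoot.root g.charpoly) = g := by
    rw [← AdjoinRoot.mk_X, fieldHom_mk, aeval_X]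
  obtain ⟨r, hr⟩ := exists_aeval_root g (Matrix.isIntegral g) hirr fun f' hf' hd => by
    rw [hfd, natDegree_eq_of_degree_eq (degree_eq_degree_of_associated
      (hf'.associated_of_dvd hχ (hd.trans (Matrix.minpoly_dvd_charpoly g)))),
      charpoly_natDegree_eq_dim, Fintype.card_fin]
  -- the inverse of `g` is its adjoint and lies in the extension
  have hroot0 : AdjoinRoot.root g.charpoly ≠ 0 := by
    intro h0
    have h' := (isometry_iff hu).1 hg
    rw [← hφg, h0, map_zero, mul_zero] at h'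
    exact zero_ne_one h'
  have hadjg : adj σ g = φ (AdjoinRoot.root g.charpoly)⁻¹ := by
    refine left_inv_eq_right_inv ((isometry_iff hu).1 hg) ?_
    nth_rw 1 [← hφg]
    rw [← map_mul, mul_inv_cancel₀ hroot0, map_one]
  have hadjmem : ∀ k : K, ∃ k', φ k' = adj σ (φ k) := by
    intro k
    obtain ⟨p, rfl⟩ := AdjoinRoot.mk_surjective k
    refine ⟨aeval (AdjoinRoot.root g.charpoly)⁻¹ (p.map σ), ?_⟩
    rw [fieldHom_mk, adj_aeval, hadjg, ← aeval_algHom_apply]
  choose t ht using hadjmem
  have hinj := fieldHom_injective (aeval_self_charpoly g)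
  let τ : K →+* K :=
    { toFun := t
      map_one' := hinj (by rw [ht, map_one, adj_one])
      map_mul' := fun a b => hinj (by rw [ht, map_mul φ a b, adj_mul, map_mul, ← ht, ← ht, ← map_mul φ,
        ← map_mul φ, mul_comm])
      map_zero' := hinj (by rw [ht, map_zero, adj_zero])
      map_add' := fun a b => hinj (by rw [ht, map_add φ a b, adj_add, map_add, ht, ht]) }
  have hτ : ∀ k, φ (τ k) = adj σ (φ k) := ht
  have hτ2 : ∀ k, τ (τ k) = k := fun k => hinj (by rw [hτ, hτ, adj_adj hu])
  have hτne : τ ≠ RingHom.id K := by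
    intro hid
    refine hu.ne (RingHom.ext fun a => ?_)
    have h1 := hτ (algebraMap F K a)
    rw [hid, RingHom.id_apply, AlgHom.commutes, Algebra.algebraMap_eq_smul_one, adj_smul, adj_one] at h1
    have h2 := congrFun (congrFun h1 0) 0
    simpa using h2.symm
  obtain ⟨n, -, hn, hτn⟩ := exists_eq_pow hτne hτ2
  have hn3 : n = q ^ 3 := by
    rw [Module.natCard_eq_pow_finrank (K := F), (AdjoinRoot.powerBasis hχ.ne_zero).finrank,
      AdjoinRoot.powerBasis_dim, charpoly_natDegree_eq_dim, Fintype.card_fin, hF, ← pow_mul, mul_comm,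
      pow_mul] at hn
    exact (Nat.pow_left_injective two_ne_zero hn).symm
  have hfdvd : f ∣ X ^ q ^ 3 - X := by
    by_contra hnd
    obtain ⟨u, w, huw⟩ := hirr.coprime_iff_not_dvd.2 hnd
    have h1 := congrArg (aeval J) huw
    rw [map_add, map_mul, map_mul, hJ, map_sub, map_pow, aeval_X, hJq, sub_self, mul_zero, mul_zero,
      add_zero, map_one] at h1
    exact zero_ne_one h1
  set J' := aeval g r with hJ'
  have hJ'φ : J' = φ (AdjoinRoot.mk g.charpoly r) := (fieldHom_mk _ _ _ r).symm
  have hJ'q : J' ^ q ^ 3 = J' := by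
    have := aeval_eq_zero_of_dvd_aeval_eq_zero hfdvd hr
    rwa [map_sub, map_pow, aeval_X, sub_eq_zero] at this
  have hJ'adj : adj σ J' = J' := by
    rw [hJ'φ, ← hτ, hτn, hn3, map_pow, ← hJ'φ, hJ'q]
  have hJ'g : g * J' = J' * g := by
    have := congrArg φ (mul_comm (AdjoinRoot.root g.charpoly) (AdjoinRoot.mk g.charpoly r))
    rw [map_mul, map_mul, hφg] at this
    rw [hJ'φ]
    exact this
  -- conjugate by an isometry
  obtain ⟨P, hP⟩ := Linear.exists_sl_conj (r := 1) one_pos (by rw [hfd]) J J' hJ hr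
  set A : M3 := P.1 with hA
  set M : M3 := adj σ A * A with hM
  have hMcomm : M * J' = J' * M := by
    have e : adj σ A * J = J' * adj σ A := by
      have := congrArg (adj σ) hP
      rw [adj_mul, adj_mul, hJadj, hJ'adj] at this
      exact this.symm
    rw [hM, mul_assoc, hP, ← mul_assoc, e, mul_assoc]
  haveI : Module.Finite F (AdjoinRoot f) := (AdjoinRoot.powerBasis hirr.ne_zero).finite
  haveI : Finite (AdjoinRoot f) := Module.finite_of_finite F
  obtain ⟨m, hm⟩ := exists_of_commute hfd hr hMcomm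
  obtain ⟨τ', hτ'mk, hτ'2, hτ'ne⟩ := exists_semilinear hfσ hu
  set ψ := fieldHom f J' hr
  have hψadj : ∀ k, adj σ (ψ k) = ψ (τ' k) := by
    intro k
    obtain ⟨p, rfl⟩ := AdjoinRoot.mk_surjective k
    rw [hτ'mk, fieldHom_mk, fieldHom_mk, adj_aeval, hJ'adj]
  have hm' : τ' m = m := fieldHom_injective hr (by
    rw [← hψadj, hm, hM, adj_mul, adj_adj hu])
  obtain ⟨N, hN⟩ := exists_norm_eq hτ'ne hτ'2 hm'
  have hm0 : m ≠ 0 := by
    intro h0
    rw [h0, map_zero, hM] at hm
    have := congrArg Matrix.det hm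
    rw [det_mul, adj, det_transpose, ← RingHom.mapMatrix_apply, ← RingHom.map_det, hA, P.2, map_one,
      one_mul, det_zero] at this
    exact zero_ne_one this
  have hN0 : N ≠ 0 := fun h0 => hm0 (by rw [← hN, h0, zero_mul])
  set Q : M3 := A * ψ N⁻¹ with hQ
  have hQiso : adj σ Q * Q = 1 := by
    rw [hQ, adj_mul, hψadj, mul_assoc, ← mul_assoc (adj σ A), ← hM, ← hm, ← map_mul, ← map_mul, ← hN,
      map_inv₀]
    rw [← map_one ψ]
    congr 1
    have : τ' N ≠ 0 := (map_ne_zero τ').2 hN0
    field_simp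
  have hQJ : Q * J' = J * Q := by
    rw [hQ, mul_assoc]
    have : ψ N⁻¹ * J' = J' * ψ N⁻¹ := by
      have e : J' = ψ (AdjoinRoot.root f) := by rw [← AdjoinRoot.mk_X, fieldHom_mk, aeval_X]
      rw [e, ← map_mul, ← map_mul, mul_comm]
    rw [this, ← mul_assoc, hP, mul_assoc]
  refine ⟨Q, (isometry_iff hu).2 hQiso, Q * g * adj σ Q, ?_, ?_⟩
  · rw [mul_assoc _ _ Q, hQiso, mul_one]
  · have hQ' : Q * adj σ Q = 1 := mul_eq_one_comm.1 hQiso
    have e : adj σ Q * J = J' * adj σ Q := by
      calc adj σ Q * J = adj σ Q * (J * Q) * adj σ Q := by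
            rw [mul_assoc, mul_assoc J, hQ', mul_one]
        _ = _ := by rw [← hQJ, ← mul_assoc, hQiso, one_mul]
    calc Q * g * adj σ Q * J = Q * (g * J') * adj σ Q := by
          rw [mul_assoc _ (adj σ Q), e]; simp only [mul_assoc]
      _ = J * (Q * g * adj σ Q) := by rw [hJ'g, ← mul_assoc, hQJ]; simp only [mul_assoc]

/-- With an eigenvalue, either a non-isotropic point is fixed or the element is regular unipotent. -/
theorem point_or_unip [CharP F 3] (hu : UFrob σ q) {g : M3}
    (hg : ∀ x y, h (g *ᵥ x) (g *ᵥ y) = h x y) (hdet : g.det = 1) {l : F} {v : V} (hv : v ≠ 0)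
    (hgv : g *ᵥ v = l • v) :
    (∃ w, h w w ≠ 0 ∧ ∃ c : F, g *ᵥ w = c • w) ∨ ((g - 1) ^ 3 = 0 ∧ (g - 1) ^ 2 ≠ 0) := by
  by_contra hcon
  push Not at hcon
  obtain ⟨hpt, hnu⟩ := hcon
  have hvv : h v v = 0 := by
    by_contra hh
    exact hpt v hh l hgv
  have hl0 : l ≠ 0 := by
    rintro rfl
    apply hv
    refine uh_ext hu fun x => ?_
    rw [← hg, hgv, zero_smul, uh_zero_right, uh_zero_right]
  have hσl : σ l ≠ 0 := (map_ne_zero σ).2 hl0
  obtain ⟨e, hee, hve, hev, -⟩ := exists_partner hu ⊥ (by simpa using hv) hvv (by simp [uh_zero_left])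
  let fv : V →ₗ[F] F := { toFun := fun x => h x v, map_add' := fun x y => uh_add_left x y v,
                          map_smul' := fun c x => uh_smul_left c x v }
  let fe : V →ₗ[F] F := { toFun := fun x => h x e, map_add' := fun x y => uh_add_left x y e,
                          map_smul' := fun c x => uh_smul_left c x e }
  let W : Submodule F V := LinearMap.ker (fv.prod fe)
  have hW : Module.finrank F W = 1 := by
    have hsur : Function.Surjective (fv.prod fe) := fun ⟨a, b⟩ => ⟨a • e + b • v, by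
      simp [fv, fe, uh_add_left, uh_smul_left, hev, hee, hvv, hve]⟩
    have h1 := LinearMap.finrank_range_add_finrank_ker (fv.prod fe)
    rw [LinearMap.range_eq_top.2 hsur, finrank_top, Module.finrank_prod, Module.finrank_self,
      Module.finrank_fin_fun] at h1
    show Module.finrank F ↥(LinearMap.ker (fv.prod fe)) = 1
    omega
  let bk := Module.finBasisOfFinrankEq F W hW
  set w : V := (bk 0 : V) with hw
  obtain ⟨hwv, hwe⟩ : h w v = 0 ∧ h w e = 0 := by
    have := (bk 0).2
    simpa [W, fv, fe] using this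
  have hdecomp : ∀ x, ∃ a : F, x = h x v • e + a • w + h x e • v := by
    intro x
    have hmem : x - h x v • e - h x e • v ∈ W := by
      simp [W, fv, fe, uh_sub_left, uh_smul_left, hev, hee, hvv, hve]
    refine ⟨bk.repr ⟨_, hmem⟩ 0, ?_⟩
    have := congrArg (fun z : W => (z : V)) (bk.sum_repr ⟨_, hmem⟩)
    simp only [Fin.sum_univ_one, Submodule.coe_smul] at this
    rw [hw, this]; abel
  have hw0 : w ≠ 0 := fun h0 => bk.ne_zero 0 (Subtype.ext h0)
  have hww : h w w ≠ 0 := by
    intro h0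
    refine hw0 (uh_ext hu fun x => ?_)
    obtain ⟨a, ha⟩ := hdecomp x
    rw [uh_zero_right, ha]
    simp [uh_add_left, uh_smul_left, h0, hu.swap_zero hwv, hu.swap_zero hwe]
  -- the images of `w` and `e`
  have hgwv : h (g *ᵥ w) v = 0 := by
    have h1 := hg w v
    rw [hgv, uh_smul_right, hwv, mul_eq_zero] at h1
    exact h1.resolve_left hσl
  obtain ⟨m, hm⟩ := hdecomp (g *ᵥ w)
  rw [hgwv, zero_smul, zero_add] at hm
  set c := h (g *ᵥ w) e
  have hml : m = l := by
    by_contra hne
    refine hpt (w + (c / (m - l)) • v) ?_ m ?_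
    · simpa [uh_add_left, uh_add_right, uh_smul_left, uh_smul_right, hvv, hwv, hu.swap_zero hwv] using hww
    · rw [mulVec_add, mulVec_smul, hm, hgv, smul_add, add_assoc, smul_smul, smul_smul, ← add_smul]
      congr 2
      have : m - l ≠ 0 := sub_ne_zero.2 hne
      field_simp
      ring
  have hlσ : l * σ l = 1 := by
    have h1 := hg w w
    rw [hm, hml] at h1
    simp [uh_add_left, uh_add_right, uh_smul_left, uh_smul_right, hvv, hwv, hu.swap_zero hwv] at h1
    exact mul_right_cancel₀ hww (by linear_combination h1)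
  obtain ⟨b, hb⟩ := hdecomp (g *ᵥ e)
  have hgev : h (g *ᵥ e) v = l := by
    have h1 := hg e v
    rw [hgv, uh_smul_right, hev] at h1
    exact mul_left_cancel₀ hσl (by rw [h1, mul_comm, hlσ])
  rw [hgev] at hb
  set d := h (g *ᵥ e) e
  -- the matrix is triangular
  let A : M3 := Matrix.of fun i j => ![v, w, e] j i
  have hA : ∀ j : Fin 3, A *ᵥ Pi.single j 1 = ![v, w, e] j := fun j => by
    rw [mulVec_single_one]; rfl
  have hgA : g * A = A * !![l, c, d; 0, l, b; 0, 0, l] := by
    refine Matrix.ext fun i j => ?_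
    have e1 : (g * A) i j = (g *ᵥ (A *ᵥ Pi.single j 1)) i := by
      rw [mulVec_mulVec, mulVec_single_one]; rfl
    rw [e1, hA]
    simp only [Matrix.mul_apply, Fin.sum_univ_three, A, Matrix.of_apply]
    fin_cases j
    · simp [hgv, mul_comm]
    · simp [hm, hml]; ring
    · simp [hb]; ring
  have hAdet : A.det ≠ 0 := by
    intro h0
    obtain ⟨u, hu0, hAu⟩ := exists_mulVec_eq_zero_iff.2 h0
    have hAu' : u 0 • v + u 1 • w + u 2 • e = 0 := by
      rw [← hAu]; funext i; simp [A, mulVec, dotProduct, Fin.sum_univ_three]; ring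
    have z2 := congrArg (fun x => h x v) hAu'
    have z0 := congrArg (fun x => h x e) hAu'
    have z1 := congrArg (fun x => h x w) hAu'
    simp [uh_add_left, uh_smul_left, uh_zero_left, hvv, hwv, hev, hve, hwe, hee, hu.swap_zero hwv,
      hu.swap_zero hwe, hww] at z2 z0 z1
    exact hu0 (funext fun i => by fin_cases i <;> simp [z0, z1, z2])
  have hl3 : l ^ 3 = 1 := by
    have h1 := congrArg Matrix.det hgA
    rw [det_mul, det_mul, hdet, one_mul] at h1
    have h2 : (!![l, c, d; 0, l, b; 0, 0, l] : M3).det = 1 :=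
      (mul_left_cancel₀ hAdet (by rw [mul_one]; exact h1.symm))
    rw [det_fin_three] at h2
    simp at h2
    linear_combination h2
  have hl1 : l = 1 := by
    have h3 : (3 : F) = 0 := by exact_mod_cast CharP.cast_eq_zero F 3
    have : (l - 1) ^ 3 = 0 := by linear_combination hl3 + (l - l ^ 2) * h3
    exact sub_eq_zero.1 (pow_eq_zero_iff three_ne_zero |>.1 this)
  subst hl1
  have hN : ∀ x, (g - 1) *ᵥ x = g *ᵥ x - x := fun x => by rw [sub_mulVec, one_mulVec]
  have hNv : (g - 1) *ᵥ v = 0 := by rw [hN, hgv, one_smul, sub_self]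
  have hNw : (g - 1) *ᵥ w = c • v := by rw [hN, hm, hml, one_smul, add_sub_cancel_left]
  have hNe : (g - 1) *ᵥ e = b • w + d • v := by rw [hN, hb, one_smul, add_assoc, add_sub_cancel_left]
  have hN3 : (g - 1) ^ 3 = 0 := by
    refine Matrix.ext_iff_mulVec.2 fun x => ?_
    obtain ⟨a, ha⟩ := hdecomp x
    rw [ha, zero_mulVec]
    simp [pow_succ, ← mulVec_mulVec, mulVec_add, mulVec_smul, hNv, hNw, hNe]
  have hN2 := hnu hN3
  -- a two dimensional fixed space contains a non-isotropic vector
  set L : V →ₗ[F] V := Matrix.mulVecLin (g - 1) with hL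
  have hrk : 2 ≤ Module.finrank F (LinearMap.ker L) := by
    have hle : LinearMap.range L ≤ LinearMap.ker L := by
      rintro _ ⟨x, rfl⟩
      show (g - 1) *ᵥ ((g - 1) *ᵥ x) = 0
      rw [mulVec_mulVec, ← sq, hN2, zero_mulVec]
    have h1 := LinearMap.finrank_range_add_finrank_ker L
    have h2 := Submodule.finrank_mono hle
    rw [Module.finrank_fin_fun] at h1
    omega
  have hti : ∀ z, z ∈ LinearMap.ker L → h z z = 0 := by
    intro z hz
    by_contra hzz
    refine hpt z hzz 1 ?_
    rw [one_smul, ← sub_eq_zero, ← hN]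
    exact hz
  have hker : LinearMap.ker L ≤ Submodule.span F {v} := by
    intro z hz
    have hvL : v ∈ LinearMap.ker L := hNv
    obtain ⟨s, hs⟩ : ∃ s : F, σ s ≠ s := by
      by_contra h'; push Not at h'; exact hu.ne (RingHom.ext h')
    have h1 : h z v = 0 := by
      have e1 := hti _ (add_mem hz hvL)
      have e2 := hti _ (add_mem hz (Submodule.smul_mem _ s hvL))
      simp [uh_add_left, uh_add_right, uh_smul_left, uh_smul_right, hvv, hti z hz] at e1 e2
      have : (σ s - s) * h z v = 0 := by linear_combination e2 - s * e1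
      exact (mul_eq_zero.1 this).resolve_left (sub_ne_zero.2 hs)
    obtain ⟨a, ha⟩ := hdecomp z
    rw [h1, zero_smul, zero_add] at ha
    have hzz := hti z hz
    rw [ha] at hzz
    simp [uh_add_left, uh_add_right, uh_smul_left, uh_smul_right, hvv, hwv, hu.swap_zero hwv, hww] at hzz
    rw [ha, hzz, zero_smul, zero_add]
    exact Submodule.smul_mem _ _ (Submodule.mem_span_singleton_self v)
  have h3 := Submodule.finrank_mono hker
  rw [finrank_span_singleton hv] at h3
  omega

theorem twoCovered [CharP F 3] (hF : Nat.card F = q ^ 2) : TwoCovered (Cfsg.PSU 3 F q) := by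
  obtain ⟨σ, hu⟩ := exists_uFrob hF
  obtain ⟨f, J, R, hfirr, hfm, hfd, hfσ, hJ, hJq, hJadj, hR, ⟨a, ha⟩, hR3, hR2⟩ := exists_model hF hu
  haveI : Fact (Irreducible f) := ⟨hfirr⟩
  have h2 : (2 : F) ≠ 0 := by
    intro h2
    have h3 : (3 : F) = 0 := by exact_mod_cast CharP.cast_eq_zero F 3
    exact one_ne_zero (show (1 : F) = 0 by linear_combination h3 - h2)
  refine TwoCovered.quotient _ (H := pointStab F 3 q (Pi.single 0 1 : V)) (K := singerNorm q J)
    (pointStab_center hF (by norm_num) _) ?_ (pointStab_ne_top hF (j := 1) (by decide))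
    (singerNorm_ne_top hF hfd hJ) fun g => ?_
  · intro z hz
    obtain ⟨c, -, -, hz'⟩ := SU_center_scalar hF (by norm_num) hz
    refine mem_singerNorm.2 ⟨X, ?_⟩
    rw [aeval_X, hz']
    exact (Matrix.scalar_commute c (fun _ => Commute.all _ _) J).eq
  by_cases hev : ∃ (c : F) (v : V), v ≠ 0 ∧ g.1.1 *ᵥ v = c • v
  · obtain ⟨c, v, hv, hgv⟩ := hev
    rcases point_or_unip hu (su_uh hu g) g.1.2 hv hgv with ⟨w, hw, d, hd⟩ | ⟨hg3, hg2⟩
    · have hd0 : d ≠ 0 := by
        rintro rfl
        have := su_uh hu g w w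
        rw [hd, zero_smul, uh_zero_left] at this
        exact hw this.symm
      obtain ⟨x, e, he, hx⟩ := exists_su_point hu (i := 0) (j := 1) (by decide) hw
      exact ⟨x, .inl (conj_pointStab he hx hd0 hd)⟩
    · obtain ⟨P, hP, hPg⟩ := exists_conj_unip hu h2 (su_uh hu g) hg3 hg2 hR hR3 hR2
      obtain ⟨x, hx⟩ := exists_su_of_isometry hF hu hP
      refine ⟨x, .inr (mem_singerNorm.2 ⟨a, ?_⟩)⟩
      rw [su_conj_val (hx _ _ hPg)]
      exact ha
  · push Not at hev
    obtain ⟨P, hP, N, hN, hNJ⟩ := conj_of_irreducible hF hu hfd hfσ hJ hJq hJadj (su_uh hu g)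
      (fun c v hcv => by by_contra hv0; exact hev c v hv0 hcv)
    obtain ⟨x, hx⟩ := exists_su_of_isometry hF hu hP
    refine ⟨x, .inr (mem_singerNorm.2 ⟨X, ?_⟩)⟩
    rw [su_conj_val (hx _ _ hN), aeval_X]
    exact hNJ

end CfsgLib.NCover2.PSU3
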