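import Cfsg.Agent.Lib.NCover2.Basic
import Cfsg.Agent.Lib.NCover2.UnitaryCommon
import Cfsg.Agent.Lib.NCover2.UnitaryPoints

/-! A special unitary transformation in dimension four fixes a non-isotropic point or a totally
isotropic line. -/

set_option autoImplicit false

namespace CfsgLib.NCover2.PSU4

open Polynomial Matrix CfsgLib.Classical CfsgLib.Classical.Unitary CfsgLib.Geometry
open CfsgLib.NCover2.Unitary

variable {F : Type*} [Field F] [Finite F] {σ : F →+* F} {q : ℕ}

local notation "V" => (Fin 4 → F)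
local notation "M4" => Matrix (Fin 4) (Fin 4) F
local notation "h" => uh σ

/-- An irreducible quartic is not the characteristic polynomial of an isometry. -/
theorem charpoly_not_irreducible (hF : Nat.card F = q ^ 2) (hu : UFrob σ q) {g : M4}
    (hg : gᵀ * g.map σ = 1) : ¬ Irreducible g.charpoly := by
  intro hirr
  haveI : Fact (Irreducible g.charpoly) := ⟨hirr⟩
  set K := AdjoinRoot g.charpoly
  haveI : Module.Finite F K := (AdjoinRoot.powerBasis hirr.ne_zero).finite
  haveI : Finite K := Module.finite_of_finite F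
  set i := algebraMap F K with hi
  obtain ⟨φ, hφ, hφa⟩ := exists_qHom hF hu K
  set a : K := AdjoinRoot.root g.charpoly with ha
  have ha0 : (g.map i).charpoly.eval a = 0 := by
    rw [Matrix.charpoly_map, Polynomial.eval_map]
    exact AdjoinRoot.eval₂_root _
  -- the image of the root is a root for the conjugate, hence for the inverse
  have h1 : ((g.map σ).map i).charpoly.eval (φ a) = 0 := by
    have e : (g.map σ).map i = (g.map i).map φ := by
      ext r s; simp [hi, hφa]
    rw [e, Matrix.charpoly_map, Polynomial.eval_map, eval₂_hom, ha0, map_zero]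
  have h2 : ((g.map σ).map i)ᵀ.charpoly.eval (φ a) = 0 := by rwa [Matrix.charpoly_transpose]
  rw [Matrix.eval_charpoly, ← exists_mulVec_eq_zero_iff] at h2
  obtain ⟨v, hv, hv2⟩ := h2
  rw [sub_mulVec, sub_eq_zero] at hv2
  have hv3 : ((g.map σ).map i)ᵀ *ᵥ v = φ a • v := by
    rw [← hv2]; simp [Matrix.scalar_apply, mulVec_diagonal, funext_iff]
  have hinv : (g.map i) * ((g.map σ).map i)ᵀ = 1 := by
    have e : ((g.map σ).map i)ᵀ * (g.map i) = 1 := by
      have h' := congrArg (fun M : M4 => (M.map i)ᵀ) hg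
      simpa [Matrix.map_mul, Matrix.transpose_map] using h'
    exact mul_eq_one_comm.1 e
  have hφ0 : φ a ≠ 0 := by
    intro h0
    rw [h0, zero_smul] at hv3
    apply hv
    rw [← one_mulVec v, ← hinv, ← mulVec_mulVec, hv3, mulVec_zero]
  set b : K := (φ a)⁻¹ with hb
  have hgv : g.map i *ᵥ v = b • v := by
    rw [hb, eq_inv_smul_iff₀ hφ0, ← mulVec_smul, ← hv3, mulVec_mulVec, hinv, one_mulVec]
  have hbroot : aeval b g.charpoly = 0 := by
    rw [aeval_def, ← Polynomial.eval_map, ← Matrix.charpoly_map, Matrix.eval_charpoly,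
      ← exists_mulVec_eq_zero_iff]
    refine ⟨v, hv, ?_⟩
    rw [sub_mulVec, hgv, sub_eq_zero]
    simp [Matrix.scalar_apply, mulVec_diagonal, funext_iff]
  let ψ : K →ₐ[F] K := AdjoinRoot.liftAlgHom _ (Algebra.ofId F K) b hbroot
  have hψ : ψ a = b := AdjoinRoot.liftAlgHom_root _ _ _ _
  obtain ⟨p, hp⟩ := CharP.exists F
  haveI : Fact p.Prime := ⟨(CharP.char_is_prime_or_zero F p).resolve_right (CharP.char_ne_zero_of_finite F p)⟩
  obtain ⟨j, hj⟩ := FiniteField.exists_forall_apply_eq_pow F p K
    (AlgEquiv.ofBijective ψ (Finite.injective_iff_bijective.1 ψ.toRingHom.injective))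
  have hja : b = a ^ Nat.card F ^ j := by rw [← hψ]; exact hj a
  -- twice the map is the square of the Frobenius
  have hA : a ^ Nat.card F = a ^ Nat.card F ^ (2 * j) := by
    have e1 : φ b⁻¹ = a ^ Nat.card F := by
      rw [hb, inv_inv, hφ, hφ, ← pow_mul, hF, sq]
    have e2 : φ b⁻¹ = (φ a)⁻¹ ^ Nat.card F ^ j := by
      rw [hja, map_inv₀, map_pow, inv_pow]
    rw [← e1, e2, ← hb, hja, ← pow_mul, two_mul, pow_add]
  have hfix : a ^ Nat.card F ^ 4 = a := by
    have hK : Nat.card K = Nat.card F ^ 4 := by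
      rw [Module.natCard_eq_pow_finrank (K := F), (AdjoinRoot.powerBasis hirr.ne_zero).finrank,
        AdjoinRoot.powerBasis_dim, charpoly_natDegree_eq_dim, Fintype.card_fin]
    haveI := Fintype.ofFinite K
    rw [← hK, Nat.card_eq_fintype_card]
    exact FiniteField.pow_card a
  have hB : a ^ Nat.card F ^ (2 * j + 3) = a := by
    rw [pow_add, pow_mul, ← hA, ← pow_mul, ← pow_succ']
    exact hfix
  have hdvd : g.charpoly ∣ X ^ Nat.card F ^ (2 * j + 3) - X := by
    rw [← AdjoinRoot.mk_eq_zero, ← AdjoinRoot.aeval_eq, map_sub, map_pow, aeval_X, ← ha, hB, sub_self]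
  have := hirr.natDegree_dvd_of_dvd_X_pow_card_pow_sub_X hdvd
  rw [charpoly_natDegree_eq_dim, Fintype.card_fin] at this
  omega

/-- The alternative for a single transformation. -/
theorem point_or_line (hF : Nat.card F = q ^ 2) (hu : UFrob σ q) (g : M4)
    (hg : ∀ x y, h (g *ᵥ x) (g *ᵥ y) = h x y) :
    (∃ v, h v v ≠ 0 ∧ ∃ c : F, g *ᵥ v = c • v) ∨
      ∃ W : Submodule F V, Module.finrank F W = 2 ∧ (∀ x ∈ W, ∀ y ∈ W, h x y = 0) ∧
        ∀ x ∈ W, g *ᵥ x ∈ W := by
  by_contra hcon
  push Not at hcon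
  obtain ⟨hpt, hline⟩ := hcon
  have hline' : ∀ W : Submodule F V, Module.finrank F W = 2 → (∀ x ∈ W, ∀ y ∈ W, h x y = 0) →
      (∀ x ∈ W, g *ᵥ x ∈ W) → False := fun W h1 h2 h3 => by
    obtain ⟨x, hx, hx'⟩ := hline W h1 h2
    exact hx' (h3 x hx)
  have spanPair : ∀ u w : V, LinearIndependent F ![u, w] →
      Module.finrank F (Submodule.span F {u, w}) = 2 := fun u w hli => by
    have := finrank_span_eq_card hli
    have e : Set.range ![u, w] = {u, w} := by simp [Matrix.range_cons, Set.pair_comm]
    rw [e] at this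
    simpa using this
  have pairClosed : ∀ u w : V, g *ᵥ u ∈ Submodule.span F {u, w} → g *ᵥ w ∈ Submodule.span F {u, w} →
      ∀ x ∈ Submodule.span F ({u, w} : Set V), g *ᵥ x ∈ Submodule.span F {u, w} := by
    intro u w h1 h2 x hx
    obtain ⟨a, b, rfl⟩ := Submodule.mem_span_pair.1 hx
    rw [mulVec_add, mulVec_smul, mulVec_smul]
    exact add_mem (Submodule.smul_mem _ _ h1) (Submodule.smul_mem _ _ h2)
  by_cases hev : ∃ (c : F) (v : V), v ≠ 0 ∧ g *ᵥ v = c • v
  · obtain ⟨l, v, hv, hgv⟩ := hev
    have hvv : h v v = 0 := by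
      by_contra hh
      exact hpt v hh l hgv
    have hl0 : l ≠ 0 := by
      rintro rfl
      apply hv
      refine uh_ext hu fun x => ?_
      rw [← hg, hgv, zero_smul, uh_zero_right, uh_zero_right]
    obtain ⟨e, hee, hve, hev', -⟩ := exists_partner hu ⊥ (by simpa using hv) hvv (by simp [uh_zero_left])
    -- the orthogonal complement of the hyperbolic pair
    let fv : V →ₗ[F] F := { toFun := fun x => h x v, map_add' := fun x y => uh_add_left x y v,
                            map_smul' := fun c x => uh_smul_left c x v }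
    let fe : V →ₗ[F] F := { toFun := fun x => h x e, map_add' := fun x y => uh_add_left x y e,
                            map_smul' := fun c x => uh_smul_left c x e }
    let W : Submodule F V := LinearMap.ker fv ⊓ LinearMap.ker fe
    have hWmem : ∀ x, x ∈ W ↔ h x v = 0 ∧ h x e = 0 := fun x => Iff.rfl
    have hW : Module.finrank F W = 2 := by
      have hsur : Function.Surjective (fv.prod fe) := fun ⟨a, b⟩ => ⟨a • e + b • v, by
        simp [fv, fe, uh_add_left, uh_smul_left, hev', hee, hvv, hve]⟩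
      have h1 := LinearMap.finrank_range_add_finrank_ker (fv.prod fe)
      rw [LinearMap.range_eq_top.2 hsur, finrank_top, LinearMap.ker_prod, Module.finrank_prod,
        Module.finrank_self, Module.finrank_fin_fun] at h1
      show Module.finrank F ↥(LinearMap.ker fv ⊓ LinearMap.ker fe) = 2
      omega
    have hnd : ∀ x ∈ W, (∀ y ∈ W, h y x = 0) → x = 0 := by
      intro x hx hall
      obtain ⟨hxv, hxe⟩ := (hWmem x).1 hx
      refine uh_ext hu fun y => ?_
      rw [uh_zero_right]
      have hy : y - h y e • v - h y v • e ∈ W := by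
        rw [hWmem]
        constructor <;> simp [uh_sub_left, uh_smul_left, hvv, hve, hev', hee]
      have := hall _ hy
      rw [uh_sub_left, uh_sub_left, uh_smul_left, uh_smul_left, hu.swap_zero hxv, hu.swap_zero hxe] at this
      simpa using this
    have hgperp : ∀ x, h x v = 0 → h (g *ᵥ x) v = 0 := by
      intro x hx
      have h1 := hg x v
      rw [hgv, uh_smul_right, hx, mul_eq_zero] at h1
      exact h1.resolve_left fun h0 => hl0 (σ.injective (h0.trans (map_zero σ).symm))
    let T : W →ₗ[F] W :=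
      { toFun := fun x => ⟨g *ᵥ (x : V) - h (g *ᵥ (x : V)) e • v, by
          rw [hWmem]
          constructor
          · simp [uh_sub_left, uh_smul_left, hvv, hgperp _ ((hWmem _).1 x.2).1]
          · simp [uh_sub_left, uh_smul_left, hve]⟩
        map_add' := fun x y => Subtype.ext (by
          simp [mulVec_add, uh_add_left, add_smul]; abel)
        map_smul' := fun c x => Subtype.ext (by
          simp [mulVec_smul, uh_smul_left, smul_sub, smul_smul]) }
    have hTval : ∀ x : W, g *ᵥ (x : V) = (T x : V) + h (g *ᵥ (x : V)) e • v := fun x => by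
      simp [T]
    have hT : ∀ x y : W, h (T x : V) (T y : V) = h (x : V) y := by
      intro x y
      have hx1 := ((hWmem _).1 (T x).2).1
      have hy1 := hu.swap_zero ((hWmem _).1 (T y).2).1
      conv_rhs => rw [← hg, hTval x, hTval y]
      simp [uh_add_left, uh_add_right, uh_smul_left, uh_smul_right, hx1, hy1, hvv]
    have vW : ∀ w ∈ W, w ≠ 0 → LinearIndependent F ![v, w] := fun w hw hw0 => by
      refine (LinearIndependent.pair_iff' hv).2 fun a ha => ?_
      have h1 := ((hWmem w).1 hw).2
      rw [← ha, uh_smul_left, hve, mul_one] at h1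
      exact hw0 (by rw [← ha, h1, zero_smul])
    have isoPlane : ∀ (w : W) (m : F), w ≠ 0 → h (w : V) w = 0 → T w = m • w → False := by
      intro w m hw0 hww hTw
      have hwv := ((hWmem _).1 w.2).1
      refine hline' _ (spanPair v w (vW _ w.2 fun h0 => hw0 (Subtype.ext h0))) ?_ (pairClosed _ _ ?_ ?_)
      · intro x hx y hy
        obtain ⟨a, b, rfl⟩ := Submodule.mem_span_pair.1 hx
        obtain ⟨a', b', rfl⟩ := Submodule.mem_span_pair.1 hy
        simp [uh_add_left, uh_add_right, uh_smul_left, uh_smul_right, hvv, hww, hwv, hu.swap_zero hwv]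
      · rw [hgv]; exact Submodule.smul_mem _ _ (Submodule.subset_span (by simp))
      · rw [hTval, hTw, Submodule.coe_smul]
        exact Submodule.mem_span_pair.2 ⟨_, m, add_comm _ _⟩
    have anisoPoint : ∀ (w : W) (m : F), h (w : V) w ≠ 0 → T w = m • w → m = l := by
      intro w m hww hTw
      by_contra hml
      have hwv := ((hWmem _).1 w.2).1
      set c := h (g *ᵥ (w : V)) e
      set s := c / (m - l)
      refine hpt ((w : V) + s • v) ?_ m ?_
      · simpa [uh_add_left, uh_add_right, uh_smul_left, uh_smul_right, hvv, hwv, hu.swap_zero hwv] using hww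
      · rw [mulVec_add, mulVec_smul, hTval, hTw, hgv, Submodule.coe_smul, smul_add, add_assoc, smul_smul,
          smul_smul, ← add_smul]
        congr 2
        have : m - l ≠ 0 := sub_ne_zero.2 hml
        simp only [s]
        field_simp
        ring
    obtain ⟨m, w, hw0, hTw⟩ := exists_eigen_two hF hu W hW hnd T hT
    by_cases hww : h (w : V) w = 0
    · exact isoPlane w m hw0 hww hTw
    have hm : m = l := anisoPoint w m hww hTw
    let fw : V →ₗ[F] F :=
      { toFun := fun x => h x (w : V), map_add' := fun x y => uh_add_left x y _,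
        map_smul' := fun c x => uh_smul_left c x _ }
    let W' : Submodule F V := LinearMap.ker (fv.prod (fe.prod fw))
    have hW' : Module.finrank F W' = 1 := by
      obtain ⟨hwv, hwe⟩ := (hWmem _).1 w.2
      have hsur : Function.Surjective (fv.prod (fe.prod fw)) := fun ⟨a, b, c⟩ =>
        ⟨a • e + b • v + (c / h (w : V) w) • (w : V), by
          simp [fv, fe, fw, uh_add_left, uh_smul_left, hev', hee, hvv, hve, hwv, hwe,
            hu.swap_zero hwv, hu.swap_zero hwe, hww]⟩
      have h1 := LinearMap.finrank_range_add_finrank_ker (fv.prod (fe.prod fw))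
      rw [LinearMap.range_eq_top.2 hsur, finrank_top, Module.finrank_prod, Module.finrank_prod,
        Module.finrank_self, Module.finrank_fin_fun] at h1
      show Module.finrank F ↥(LinearMap.ker (fv.prod (fe.prod fw))) = 1
      omega
    let bk := Module.finBasisOfFinrankEq F W' hW'
    have hmemW' : ∀ x, x ∈ W' ↔ h x v = 0 ∧ h x e = 0 ∧ h x (w : V) = 0 := fun x => by
      simp [W', fv, fe, fw]
    obtain ⟨hb1, hb2, hw'w⟩ := (hmemW' _).1 (bk 0).2
    let w' : W := ⟨(bk 0 : V), (hWmem _).2 ⟨hb1, hb2⟩⟩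
    have hw'0 : w' ≠ 0 := fun h0 => bk.ne_zero 0 (Subtype.ext (congrArg (fun z : W => (z : V)) h0))
    replace hw'w : h (w' : V) w = 0 := hw'w
    have hspan : ∀ y : W, h (y : V) w = 0 → ∃ c : F, c • w' = y := fun y hy => by
      have hy' : (y : V) ∈ W' := (hmemW' _).2 ⟨((hWmem _).1 y.2).1, ((hWmem _).1 y.2).2, hy⟩
      refine ⟨bk.repr ⟨y, hy'⟩ 0, Subtype.ext ?_⟩
      have := congrArg (fun z : W' => (z : V)) (bk.sum_repr ⟨y, hy'⟩)
      simpa [w'] using this
    have hm0 : m ≠ 0 := by rw [hm]; exact hl0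
    have hTw' : h (T w' : V) w = 0 := by
      have h1 := hT w' w
      rw [hw'w, hTw, Submodule.coe_smul, uh_smul_right, mul_eq_zero] at h1
      exact h1.resolve_left fun h0 => hm0 (σ.injective (h0.trans (map_zero σ).symm))
    obtain ⟨m', hm'⟩ := hspan (T w') hTw'
    have hm'' : T w' = m' • w' := hm'.symm
    by_cases hw'w' : h (w' : V) w' = 0
    · exact isoPlane w' m' hw'0 hw'w' hm''
    have hm2 : m' = l := anisoPoint w' m' hw'w' hm''
    obtain ⟨a, b, hab, hiso⟩ := exists_isotropic_pair hu (u := (w' : V)) (w := (w : V)) hw'w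
    refine isoPlane (a • w' + b • w) l ?_ (by simpa using hiso) ?_
    · intro h0
      have h1 := congrArg (fun z : W => h (z : V) w) h0
      have h2 := congrArg (fun z : W => h (z : V) w') h0
      simp [uh_add_left, uh_smul_left, hw'w, hu.swap_zero hw'w, uh_zero_left, hww, hw'w'] at h1 h2
      exact hab.elim (fun hh => hh h2) fun hh => hh h1
    · rw [map_add, map_smul, map_smul, hTw, hm'', hm, hm2, smul_add, smul_comm, smul_comm b l]
  push Not at hev
  have hgu : gᵀ * g.map σ = 1 := by
    ext i j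
    have := hg (Pi.single i 1) (Pi.single j 1)
    rw [mulVec_single_one, mulVec_single_one, uh_single_left, one_mul] at this
    simp only [Matrix.mul_apply, Matrix.transpose_apply, Matrix.map_apply, Matrix.one_apply]
    simpa [uh, dotProduct, Pi.single_apply, apply_ite σ, eq_comm] using this
  have hnroot : ∀ c : F, g.charpoly.eval c ≠ 0 := by
    intro c hc
    rw [Matrix.eval_charpoly, ← exists_mulVec_eq_zero_iff] at hc
    obtain ⟨v, hv, hc⟩ := hc
    rw [sub_mulVec, sub_eq_zero] at hc
    exact hev c v hv (hc.symm.trans (by simp [Matrix.scalar_apply, mulVec_diagonal, funext_iff]))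
  obtain ⟨f, hfm, hfd, x, hx, hfx⟩ : ∃ f : F[X], f.Monic ∧ f.natDegree = 2 ∧
      ∃ x : V, x ≠ 0 ∧ aeval g f *ᵥ x = 0 := by
    have hni := charpoly_not_irreducible hF hu hgu
    rw [(charpoly_monic g).irreducible_iff_natDegree', charpoly_natDegree_eq_dim, Fintype.card_fin] at hni
    have hne1 : g.charpoly ≠ 1 := fun h1 => by
      simpa [h1] using (charpoly_natDegree_eq_dim g)
    push Not at hni
    obtain ⟨f₁, f₂, hf₁, hf₂, hprod, hdeg⟩ := hni hne1
    rw [Finset.mem_Ioc] at hdeg
    have hd : f₂.natDegree = 2 := by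
      rcases (show f₂.natDegree = 1 ∨ f₂.natDegree = 2 by omega) with hd | hd
      · obtain ⟨c, hc⟩ := Polynomial.exists_root_of_degree_eq_one
          ((degree_eq_iff_natDegree_eq_of_pos one_pos).2 hd)
        exact absurd (eval_eq_zero_of_dvd_of_eval_eq_zero ⟨f₁, by rw [← hprod, mul_comm]⟩ hc) (hnroot c)
      · exact hd
    have hd1 : f₁.natDegree = 2 := by
      have := hf₁.natDegree_mul hf₂
      rw [hprod, charpoly_natDegree_eq_dim, Fintype.card_fin, hd] at this
      omega
    by_cases hz : ∃ x : V, x ≠ 0 ∧ aeval g f₂ *ᵥ x = 0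
    · exact ⟨f₂, hf₂, hd, hz⟩
    · push Not at hz
      refine ⟨f₁, hf₁, hd1, Pi.single 0 1, by simp, ?_⟩
      by_contra hne
      refine hz _ hne ?_
      rw [mulVec_mulVec, ← map_mul, mul_comm, hprod, aeval_self_charpoly, zero_mulVec]
  have hggx : g *ᵥ (g *ᵥ x) ∈ Submodule.span F {x, g *ᵥ x} := by
    have e : f = X ^ 2 + C (f.coeff 1) * X + C (f.coeff 0) := by
      refine Polynomial.ext fun i => ?_
      have h2 : f.coeff 2 = 1 := by
        have := hfm.coeff_natDegree; rwa [hfd] at this
      rcases i with _ | _ | _ | i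
      · simp
      · simp
      · simp [h2]
      · rw [coeff_eq_zero_of_natDegree_lt (by omega)]
        simp [coeff_X, coeff_C, coeff_X_pow]
    rw [e] at hfx
    simp only [map_add, map_mul, map_pow, aeval_X, aeval_C, Algebra.algebraMap_eq_smul_one,
      Matrix.smul_mul, one_mul, add_mulVec, smul_mulVec, one_mulVec, sq, ← mulVec_mulVec] at hfx
    refine Submodule.mem_span_pair.2 ⟨-f.coeff 0, -f.coeff 1, ?_⟩
    linear_combination (norm := module) -hfx
  have hli : LinearIndependent F ![x, g *ᵥ x] :=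
    (LinearIndependent.pair_iff' hx).2 fun c hc => hev c x hx hc.symm
  set U := Submodule.span F ({x, g *ᵥ x} : Set V) with hU
  have hU2 : Module.finrank F U = 2 := spanPair _ _ hli
  have hUinv := pairClosed x (g *ᵥ x) (Submodule.subset_span (by simp)) hggx
  by_cases hti : ∀ y ∈ U, ∀ z ∈ U, h y z = 0
  · exact hline' U hU2 hti hUinv
  let TU : U →ₗ[F] U := (Matrix.mulVecLin g).restrict hUinv
  have noEig : ∀ (c : F) (y : U), y ≠ 0 → TU y ≠ c • y := fun c y hy he =>
    hev c (y : V) (fun h0 => hy (Subtype.ext h0)) (congrArg Subtype.val he)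
  by_cases hnd : ∀ y ∈ U, (∀ z ∈ U, h z y = 0) → y = 0
  · obtain ⟨c, y, hy, he⟩ := exists_eigen_two hF hu U hU2 hnd TU (fun a b => hg a b)
    exact noEig c y hy he
  push Not at hnd
  obtain ⟨y, hy, hyperp, hy0⟩ := hnd
  have hgy := hUinv y hy
  have hgyperp : ∀ z ∈ U, h z (g *ᵥ y) = 0 := by
    intro z hz
    have hinj : Function.Injective TU := by
      intro a b hab
      refine Subtype.ext (uh_ext hu fun w => ?_)
      rw [← hg, ← hg w]
      exact congrArg (fun t => h (g *ᵥ w) t) (congrArg Subtype.val hab)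
    obtain ⟨z', hz'⟩ := (LinearMap.injective_iff_surjective.1 hinj) ⟨z, hz⟩
    rw [show z = g *ᵥ (z' : V) from (congrArg Subtype.val hz').symm, hg]
    exact hyperp _ z'.2
  have hli' : LinearIndependent F ![y, g *ᵥ y] :=
    (LinearIndependent.pair_iff' hy0).2 fun c hc => hev c y hy0 hc.symm
  have hle : Submodule.span F {y, g *ᵥ y} ≤ U :=
    Submodule.span_le.2 (Set.insert_subset hy (Set.singleton_subset_iff.2 hgy))
  have heq := Submodule.eq_of_le_of_finrank_eq hle (by rw [spanPair _ _ hli', hU2])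
  apply hti
  intro a ha b hb
  rw [← heq] at hb
  obtain ⟨s, t, rfl⟩ := Submodule.mem_span_pair.1 hb
  rw [uh_add_right, uh_smul_right, uh_smul_right, hyperp a ha, hgyperp a ha, mul_zero, mul_zero, add_zero]

theorem twoCovered (hF : Nat.card F = q ^ 2) : TwoCovered (Cfsg.PSU 4 F q) := by
  obtain ⟨σ, hu⟩ := exists_uFrob hF
  obtain ⟨θ, hθ⟩ := exists_norm_eq hu.ne hu.invol (c := (-1 : F)) (by rw [map_neg, map_one])
  have hθ0 : θ ≠ 0 := fun h0 => by
    rw [h0, zero_mul] at hθ
    exact neg_ne_zero.2 (one_ne_zero (α := F)) hθ.symm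
  set u₀ : V := ![1, θ, 0, 0] with hu₀
  set w₀ : V := ![0, 0, 1, θ] with hw₀
  have hti₀ : uh σ u₀ u₀ = 0 ∧ uh σ w₀ w₀ = 0 ∧ uh σ u₀ w₀ = 0 ∧ uh σ w₀ u₀ = 0 := by
    refine ⟨?_, ?_, ?_, ?_⟩ <;>
      simp [uh, dotProduct, Fin.sum_univ_four, u₀, w₀] <;> linear_combination hθ
  have hli₀ : LinearIndependent F ![u₀, w₀] := by
    refine (LinearIndependent.pair_iff' fun h0 => ?_).2 fun a ha => ?_
    · simpa [u₀] using congrFun h0 0
    · simpa [u₀, w₀] using congrFun ha 2
  set W₀ := Submodule.span F ({u₀, w₀} : Set V) with hW₀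
  have htiW : ∀ u ∈ W₀, ∀ v ∈ W₀, Cfsg.hermForm 4 F q u v = 0 := by
    intro u hu' v hv'
    obtain ⟨a, b, rfl⟩ := Submodule.mem_span_pair.1 hu'
    obtain ⟨a', b', rfl⟩ := Submodule.mem_span_pair.1 hv'
    rw [hu.hermForm_eq]
    simp [uh_add_left, uh_add_right, uh_smul_left, uh_smul_right, hti₀]
  refine TwoCovered.quotient _ (H := pointStab F 4 q (Pi.single 0 1 : V)) (K := subStab q W₀)
    (pointStab_center hF (by norm_num) _) ?_ (pointStab_ne_top hF (j := 1) (by decide)) ?_ fun g => ?_
  · intro z hz x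
    obtain ⟨c, hc, -, hz'⟩ := SU_center_scalar hF (by norm_num) hz
    have hc0 : c ≠ 0 := by rintro rfl; simp at hc
    have e : z.1.1 *ᵥ x = c • x := by rw [hz']; funext k; simp [mulVec_diagonal]
    rw [e, Submodule.smul_mem_iff _ hc0]
  · intro ht
    let s : Cfsg.SU 4 F q := ⟨⟨signSwap F 1 2, signSwap_det (by decide)⟩, signSwap_mem_SU hF (by decide)⟩
    have hs := (ht ▸ Subgroup.mem_top s : s ∈ subStab q W₀)
    obtain ⟨a, b, hab⟩ := Submodule.mem_span_pair.1 ((hs u₀).1 (Submodule.subset_span (by simp)))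
    have e : s.1.1 *ᵥ u₀ = ![1, 0, θ, 0] := by
      funext k
      show (signSwap F 1 2 *ᵥ u₀) k = _
      rw [signSwap_mulVec]
      fin_cases k <;> simp [u₀, Equiv.swap_apply_def]
    rw [e] at hab
    have h0 := congrFun hab 0
    have h1 := congrFun hab 1
    simp [u₀, w₀] at h0 h1
    subst h0
    rcases h1 with h1 | h1
    · exact one_ne_zero h1
    · exact hθ0 h1
  rcases point_or_line hF hu g.1.1 (su_uh hu g) with ⟨v, hv, c, hc⟩ | ⟨W, hW, hti, hinv⟩
  · have hc0 : c ≠ 0 := by
      rintro rfl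
      have := su_uh hu g v v
      rw [hc, zero_smul, uh_zero_left] at this
      exact hv this.symm
    obtain ⟨x, d, hd, hx⟩ := exists_su_point hu (i := 0) (j := 1) (by decide) hv
    exact ⟨x, .inl (conj_pointStab hd hx hc0 hc)⟩
  · let b := Module.finBasisOfFinrankEq F W hW
    let v : Fin 2 → V := fun i => (b i : V)
    have hv : UnitaryStab.IsTIFam F q 4 v :=
      ⟨b.linearIndependent.map' W.subtype (Submodule.ker_subtype W), fun i j => by
        rw [hu.hermForm_eq]; exact hti _ (b i).2 _ (b j).2⟩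
    have hw : UnitaryStab.IsTIFam F q 4 ![u₀, w₀] := ⟨hli₀, fun i j => by
      rw [hu.hermForm_eq]; fin_cases i <;> fin_cases j <;> simp [hti₀]⟩
    obtain ⟨γ, hγ, hγv⟩ := UnitaryStab.gu_transitive hF hv hw
    have hrange : Submodule.span F (Set.range ![u₀, w₀]) = W₀ := by
      rw [hW₀]; congr 1; simp [Matrix.range_cons, Set.pair_comm]
    have hmap : W.map (Matrix.mulVecLin (γ : M4)) = W₀ := by
      have hspan : Submodule.span F (Set.range v) = W := by
        have h1 : (Submodule.span F (Set.range b)).map W.subtype = (⊤ : Submodule F W).map W.subtype := by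
          rw [b.span_eq]
        rw [Submodule.map_span, ← Set.range_comp, Submodule.map_subtype_top] at h1
        exact h1
      rw [← hspan, Submodule.map_span, ← Set.range_comp, ← hrange]
      congr 1
      exact congrArg Set.range (funext hγv)
    have hW₀2 : Module.finrank F W₀ = 2 := by
      rw [← hrange, finrank_span_eq_card hli₀, Fintype.card_fin]
    obtain ⟨δ, hδ, hδc⟩ := UnitaryStab.exists_det hF (by norm_num) W₀ hW₀2 htiW
      ⟨(guDet 4 F q ⟨γ, hγ⟩)⁻¹, by
        rw [← guDet_range (n := 4) hF (by norm_num)]; exact inv_mem ⟨_, rfl⟩⟩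
    have hdet : (δ.1 * γ).1.det = 1 := by
      have := congrArg Units.val (congrArg (fun x => x * guDet 4 F q ⟨γ, hγ⟩) hδc)
      simpa [guDet] using this
    let x := guToSU (δ.1 * γ) (mul_mem δ.2 hγ) hdet
    have hxW : ∀ y ∈ W, x.1.1 *ᵥ y ∈ W₀ := by
      intro y hy
      rw [guToSU_val, Units.val_mul, ← mulVec_mulVec]
      exact (hδ _).1 (hmap ▸ Submodule.mem_map_of_mem hy)
    have hxinj : Function.Injective (Matrix.mulVecLin x.1.1) := fun a b hab => by
      simp only [mulVecLin_apply] at hab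
      rw [← su_inv_mulVec x a, hab, su_inv_mulVec]
    have hxeq : W.map (Matrix.mulVecLin x.1.1) = W₀ := by
      refine Submodule.eq_of_le_of_finrank_eq (Submodule.map_le_iff_le_comap.2 hxW) ?_
      rw [hW₀2, ← hW]
      exact (Submodule.equivMapOfInjective _ hxinj W).finrank_eq.symm
    have hxiff : ∀ y, y ∈ W₀ ↔ (x⁻¹).1.1 *ᵥ y ∈ W := by
      intro y
      constructor
      · intro hy
        rw [← hxeq] at hy
        obtain ⟨z, hz, rfl⟩ := Submodule.mem_map.1 hy
        rw [mulVecLin_apply, su_inv_mulVec]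
        exact hz
      · intro hy
        have := hxW _ hy
        rwa [su_mulVec_inv'] at this
    have hginv : ∀ y, y ∈ W ↔ g.1.1 *ᵥ y ∈ W := by
      intro y
      refine ⟨hinv y, fun hy => ?_⟩
      have hginj : Function.Injective (Matrix.mulVecLin g.1.1) := fun a b hab => by
        simp only [mulVecLin_apply] at hab
        rw [← su_inv_mulVec g a, hab, su_inv_mulVec]
      have hgeq : W.map (Matrix.mulVecLin g.1.1) = W :=
        Submodule.eq_of_le_of_finrank_eq (Submodule.map_le_iff_le_comap.2 hinv)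
          (Submodule.equivMapOfInjective _ hginj W).finrank_eq.symm
      rw [← hgeq] at hy
      obtain ⟨z, hz, hzy⟩ := Submodule.mem_map.1 hy
      rwa [← hginj hzy]
    refine ⟨x, .inr fun y => ?_⟩
    rw [hxiff, hginv, hxiff, su_mul_mulVec, su_mul_mulVec, su_inv_mulVec]

end CfsgLib.NCover2.PSU4
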