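import Cfsg.Agent.Lib.NCover2.SympUnip
import Cfsg.Prelude.Def_Classical

/-! `PSp₆(q)` in characteristic three is covered by the conjugates of two proper subgroups: the stabiliser
of a non-degenerate plane and the normaliser of a cubic extension. -/

set_option autoImplicit false

namespace CfsgLib.NCover2.Symp6

open Polynomial Matrix CfsgLib.Classical

variable {F : Type*} [Field F]

local notation "V6" => (Fin 3 ⊕ Fin 3 → F)
local notation "M6" => Matrix (Fin 3 ⊕ Fin 3) (Fin 3 ⊕ Fin 3) F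
local notation "Sp6" => Matrix.symplecticGroup (Fin 3) F

theorem normalise_comp (A : M6) {J : M6} {a : F[X]} (ha : A * J = aeval J a * A) (p : F[X]) :
    A * aeval J p = aeval J (p.comp a) * A := by
  induction p using Polynomial.induction_on with
  | C r => rw [C_comp, aeval_C, Algebra.commutes]
  | add p p' hp hp' => rw [map_add, mul_add, hp, hp', add_comp, map_add, add_mul]
  | monomial n r hind =>
    rw [pow_succ, ← mul_assoc (C r), mul_comp, X_comp]
    generalize C r * X ^ n = u at hind ⊢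
    rw [map_mul, map_mul, aeval_X, ← mul_assoc, hind, mul_assoc, ha, ← mul_assoc]

/-- The normaliser of the algebra generated by `J`. -/
def normGroup [Finite F] (J : M6) : Subgroup Sp6 :=
  let S : Submonoid Sp6 :=
    { carrier := {g | Normalises J g}
      mul_mem' := by
        rintro g k ⟨a, ha⟩ ⟨b, hb⟩
        refine ⟨b.comp a, ?_⟩
        show g.1 * k.1 * J = aeval J (b.comp a) * (g.1 * k.1)
        rw [mul_assoc, hb, ← mul_assoc, normalise_comp _ ha, mul_assoc]
      one_mem' := ⟨X, by rw [aeval_X]; show (1 : M6) * J = J * (1 : M6); rw [one_mul, mul_one]⟩ }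
  { S with
    inv_mem' := fun {g} hg => by
      have e : g⁻¹ = g ^ (orderOf g - 1) := by
        rw [inv_eq_iff_mul_eq_one, ← pow_succ', Nat.sub_add_cancel (orderOf_pos g), pow_orderOf_eq_one]
      show g⁻¹ ∈ S
      rw [e]
      exact pow_mem (show g ∈ S from hg) _ }

theorem mem_normGroup [Finite F] {J : M6} {g : Sp6} : g ∈ normGroup J ↔ Normalises J g := Iff.rfl

theorem Model.root_false (M : Model F) {w : V6} (hw : w ≠ 0) {c : F} (h : M.J *ᵥ w = c • w) : False :=
  not_eigen M.irr (by rw [M.deg]; norm_num) M.root hw h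

theorem normGroup_ne_top [Finite F] (M : Model F) : normGroup M.J ≠ ⊤ := by
  intro ht
  obtain ⟨w, hw⟩ := exists_ne (0 : V6)
  set T := stv (1 : F) w with hT
  obtain ⟨a, ha⟩ := mem_normGroup.1 (ht ▸ Subgroup.mem_top T : T ∈ normGroup M.J)
  have key : ∀ z, sbil w z = 0 → aeval M.J (a - X) *ᵥ z = sbil (M.J *ᵥ w) z • w := by
    intro z hz
    have h1 := congrArg (fun A : M6 => A *ᵥ z) ha
    simp only [← mulVec_mulVec, hT, stv_mulVec, one_mul, hz, zero_smul, add_zero] at h1
    rw [map_sub, aeval_X, sub_mulVec, ← h1, M.selfAdj w z]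
    simp
  obtain ⟨z, hz, hz0⟩ : ∃ z, (sbil w z = 0 ∧ sbil (M.J *ᵥ w) z = 0) ∧ z ≠ 0 := by
    have h1 := finrank_orth_eq (Submodule.span F ({w, M.J *ᵥ w} : Set V6))
    have h2 : Module.finrank F (Submodule.span F ({w, M.J *ᵥ w} : Set V6)) ≤ 2 := by
      classical
      refine (finrank_span_le_card _).trans ?_
      simp only [Set.toFinset_insert, Set.toFinset_singleton]
      exact (Finset.card_insert_le _ _).trans (by simp)
    obtain ⟨z, hz, hz0⟩ := Submodule.exists_mem_ne_zero_of_ne_bot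
      (p := orth (Submodule.span F ({w, M.J *ᵥ w} : Set V6))) fun h => by
        rw [h, finrank_bot] at h1; omega
    exact ⟨z, ⟨hz _ (Submodule.subset_span (by simp)), hz _ (Submodule.subset_span (by simp))⟩, hz0⟩
  have hdvd : M.f ∣ a - X := by
    by_contra hd
    have hk : aeval M.J (M.f ^ 1) = 0 := by rw [pow_one, M.root]
    obtain ⟨u, hu⟩ := exists_unit_poly M.irr hk hd
    have := congrArg (fun A : M6 => A *ᵥ z) hu
    simp only [map_mul, ← mulVec_mulVec, key z hz.1, hz.2, zero_smul, mulVec_zero, one_mulVec] at this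
    exact hz0 this.symm
  have hQ : aeval M.J (a - X) = 0 := aeval_eq_zero_of_dvd_aeval_eq_zero hdvd M.root
  by_cases hind : ∀ c : F, M.J *ᵥ w ≠ c • w
  · obtain ⟨y, hy, hy'⟩ := exists_sbil_zero_one hw hind
    have := key y hy
    rw [hQ, zero_mulVec, hy', one_smul] at this
    exact hw this.symm
  · push Not at hind
    obtain ⟨c, hc⟩ := hind
    exact M.root_false hw hc

theorem mulVec_eq_zero_of_eq {A : M6} (h : ∀ x, A *ᵥ x = 0) : A = 0 :=
  Matrix.ext_iff_mulVec.2 fun x => by rw [h, zero_mulVec]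

/-- Either an invariant plane or a single irreducible factor. -/
theorem hasPlane_or_primary (g : Sp6) {p : F[X]} (hp : Irreducible p)
    (hdvd : p ∣ minpoly F (symPart 0 g)) : HasPlane g ∨ ∃ k, aeval (symPart 0 g) (p ^ k) = 0 := by
  set T := symPart (0 : F) g with hT
  have hs : IsSelfAdj T := symPart_self 0 g
  have hint : IsIntegral F T := IsIntegral.of_finite F T
  obtain ⟨k, r, hr, heq⟩ := WfDvdMonoid.max_power_factor (minpoly.ne_zero hint) hp
  by_cases hA : aeval T (p ^ k) = 0
  · exact .inr ⟨k, hA⟩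
  left
  have hcop : IsCoprime (p ^ k) r := (hp.coprime_iff_not_dvd.2 hr).pow_left
  obtain ⟨u, v, huv⟩ := hcop
  set A := aeval T (p ^ k) with hAdef
  have hAR : aeval T (p ^ k * r) = 0 := by rw [← heq, minpoly.aeval]
  set W := LinearMap.ker A.mulVecLin with hW
  have hmem : ∀ x, x ∈ W ↔ A *ᵥ x = 0 := fun x => by rw [hW, LinearMap.mem_ker, mulVecLin_apply]
  refine hasPlane_of_nondeg (W := W) ?_ ?_ ?_ ?_
  · intro x hx hx0
    rw [hmem] at hx
    obtain ⟨y, hy⟩ := exists_sbil_eq_one hx0
    refine ⟨aeval T (v * r) *ᵥ y, (hmem _).2 ?_, ?_⟩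
    · rw [hAdef, mulVec_mulVec, ← map_mul, show p ^ k * (v * r) = v * (p ^ k * r) by ring, map_mul, hAR,
        mul_zero, zero_mulVec]
    · have e : aeval T (v * r) = 1 - aeval T (p ^ k * u) := by
        rw [eq_sub_iff_add_eq, ← map_add, show v * r + p ^ k * u = u * p ^ k + v * r by ring, huv, map_one]
      rw [e, sub_mulVec, one_mulVec, sbil_sub_right, hy, map_mul, ← mulVec_mulVec, ← hs.aeval (p ^ k), ← hAdef,
        hx, sbil_zero_left, sub_zero]
      exact one_ne_zero
  · intro hb
    have hR : aeval T r = 0 := mulVec_eq_zero_of_eq fun x => by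
      have : aeval T r *ᵥ x ∈ W := by
        rw [hmem, mulVec_mulVec, hAdef, ← map_mul, hAR, zero_mulVec]
      rwa [hb, Submodule.mem_bot] at this
    exact hr (hdvd.trans (minpoly.dvd F T hR))
  · intro htop
    exact hA (mulVec_eq_zero_of_eq fun x => (hmem x).1 (htop ▸ Submodule.mem_top))
  · intro x hx
    rw [hmem] at hx ⊢
    have hc : Commute A g.1 := by
      refine (Commute.symm ?_)
      rw [hAdef]
      induction p ^ k using Polynomial.induction_on with
      | C c => rw [aeval_C]; exact (Algebra.commutes c g.1).symm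
      | add q q' hq hq' => rw [map_add]; exact hq.add_right hq'
      | monomial n c hind =>
        rw [pow_succ, ← mul_assoc, map_mul, aeval_X]
        exact hind.mul_right (symPart_comm 0 g)
    rw [mulVec_mulVec, hc.eq, ← mulVec_mulVec, hx, mulVec_zero]

theorem scale_conj (M : Model F) {t : F} {k : Sp6} (hk : Normalises M.J k) {lam : F} (hl : lam ≠ 0) :
    ∃ (k' : Sp6) (S : M6), Normalises M.J k' ∧ (∀ n : ℕ, 0 < n → ∀ v,
      symPart t k' ^ n *ᵥ (S *ᵥ v) = S *ᵥ (symPart t k ^ n *ᵥ v)) ∧ (∀ v, k'.1 *ᵥ (S *ᵥ v) = S *ᵥ (k.1 *ᵥ v)) ∧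
      (∀ x y, sbil (S *ᵥ x) (S *ᵥ y) = lam * sbil x y) ∧ (∀ v, ∃ u, S *ᵥ u = v) := by
  obtain ⟨S, T, hTS, hSJ, hS⟩ := M.scaling lam hl
  have hST : S * T = 1 := mul_eq_one_comm.1 hTS
  have hTJ : T * M.J = M.J * T := by
    calc T * M.J = T * M.J * (S * T) := by rw [hST, mul_one]
      _ = T * (M.J * S) * T := by simp only [mul_assoc]
      _ = T * S * (M.J * T) := by rw [← hSJ]; simp only [mul_assoc]
      _ = M.J * T := by rw [hTS, one_mul]
  have hmem : S * k.1 * T ∈ Matrix.symplecticGroup (Fin 3) F := mem_symplecticGroup_iff_sbil.2 fun u v => by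
    rw [← mulVec_mulVec, ← mulVec_mulVec, ← mulVec_mulVec, ← mulVec_mulVec, hS, sbil_mulVec, ← hS,
      mulVec_mulVec, mulVec_mulVec, hST, one_mulVec, one_mulVec]
  set k' : Sp6 := ⟨S * k.1 * T, hmem⟩ with hk'
  have hinv : (k'⁻¹).1 = S * (k⁻¹).1 * T := sp_inv_eq <| by
    show S * k.1 * T * (S * (k⁻¹).1 * T) = 1
    calc S * k.1 * T * (S * (k⁻¹).1 * T) = S * (k.1 * (T * S) * (k⁻¹).1) * T := by simp only [mul_assoc]
      _ = 1 := by rw [hTS, mul_one, sp_val_mul_inv, mul_one, hST]
  have hN : symPart t k' * S = S * symPart t k := by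
    rw [symPart, hinv]
    show (S * k.1 * T + S * (k⁻¹).1 * T - t • 1) * S = _
    simp only [symPart, sub_mul, add_mul, mul_sub, mul_add, mul_assoc, hTS, mul_one, Matrix.smul_mul,
      Matrix.mul_smul, one_mul]
  have hNn : ∀ n : ℕ, symPart t k' ^ n * S = S * symPart t k ^ n := fun n => by
    induction n with
    | zero => simp
    | succ n ih => rw [pow_succ, pow_succ, mul_assoc, hN, ← mul_assoc, ih, mul_assoc]
  refine ⟨k', S, ?_, fun n _ v => ?_, fun v => ?_, hS, fun v => ⟨T *ᵥ v, ?_⟩⟩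
  · obtain ⟨a, ha⟩ := hk
    refine ⟨a, ?_⟩
    show S * k.1 * T * M.J = aeval M.J a * (S * k.1 * T)
    have hc : ∀ b : F[X], Commute S (aeval M.J b) := fun b => by
      induction b using Polynomial.induction_on with
      | C c => rw [aeval_C]; exact (Algebra.commutes c S).symm
      | add q q' hq hq' => rw [map_add]; exact hq.add_right hq'
      | monomial n c hind => rw [pow_succ, ← mul_assoc, map_mul, aeval_X]; exact hind.mul_right hSJ
    calc S * k.1 * T * M.J = S * (k.1 * M.J) * T := by rw [mul_assoc, hTJ]; simp only [mul_assoc]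
      _ = S * (aeval M.J a * k.1) * T := by rw [ha]
      _ = aeval M.J a * (S * k.1 * T) := by rw [← mul_assoc S, (hc a).eq]; simp only [mul_assoc]
  · rw [mulVec_mulVec, hNn, ← mulVec_mulVec]
  · show (S * k.1 * T) *ᵥ (S *ᵥ v) = _
    rw [mulVec_mulVec, mul_assoc, hTS, mul_one, ← mulVec_mulVec]
  · rw [mulVec_mulVec, hST, one_mulVec]

/-- Every element has an invariant plane or normalises a conjugate of the cubic extension. -/
theorem hasPlane_or_normalises [Finite F] [CharP F 3] (M : Model F) (g : Sp6) :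
    HasPlane g ∨ ∃ x : Sp6, Normalises M.J (x * g * x⁻¹) := by
  have h3 : (3 : F) = 0 := by exact_mod_cast CharP.cast_eq_zero F 3
  have h2 : (2 : F) ≠ 0 := fun h => one_ne_zero (show (1 : F) = 0 by linear_combination h3 - h)
  set T := symPart (0 : F) g with hT
  have hs : IsSelfAdj T := symPart_self 0 g
  have hint : IsIntegral F T := IsIntegral.of_finite F T
  obtain ⟨p, hp, hdvd⟩ := WfDvdMonoid.exists_irreducible_factor (minpoly.not_isUnit F T) (minpoly.ne_zero hint)
  refine (hasPlane_or_primary g hp hdvd).elim Or.inl fun ⟨k, hk⟩ => ?_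
  rw [← hT] at hk
  have hd : p.natDegree ≤ 3 := by
    by_contra hd
    have := aeval_pow_eq_zero (m := 0) h2 hs hp hk (by omega)
    rw [pow_zero, map_one] at this
    exact one_ne_zero this
  have hd0 := hp.natDegree_pos
  rcases (show p.natDegree = 1 ∨ p.natDegree = 2 ∨ p.natDegree = 3 by omega) with hd1 | hd2 | hd3
  · -- one eigenvalue pair
    obtain ⟨α, hα, β, hpe⟩ := natDegree_eq_one.1 hd1
    set t := -(α⁻¹ * β) with ht
    have hpt : p = C α * (X - C t) := by
      rw [← hpe, ht, mul_sub, map_neg, mul_neg, sub_neg_eq_add, ← C_mul, mul_inv_cancel_left₀ hα]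
    have hN3 : symPart t g ^ 3 = 0 := by
      have h := aeval_pow_eq_zero (m := 3) h2 hs hp hk (by omega)
      rw [hpt, mul_pow, map_mul, map_pow, map_pow, aeval_C, map_sub, aeval_X, aeval_C,
        Algebra.algebraMap_eq_smul_one, Algebra.algebraMap_eq_smul_one, _root_.smul_pow, one_pow,
        smul_one_mul, smul_eq_zero] at h
      have e : symPart t g = T - t • (1 : M6) := by simp only [hT, symPart, zero_smul, sub_zero]
      rw [e]
      exact h.resolve_left (pow_ne_zero _ hα)
    by_cases hN2 : symPart t g ^ 2 = 0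
    · by_cases ht4 : t ^ 2 - 4 = 0
      · set ε := t / 2 with hεdef
        have hte : t = 2 * ε := by rw [hεdef]; field_simp
        have hε : ε ^ 2 = 1 := by
          rw [hte] at ht4
          have : (2 : F) ^ 2 * (ε ^ 2 - 1) = 0 := by linear_combination ht4
          exact sub_eq_zero.1 ((mul_eq_zero.1 this).resolve_left (pow_ne_zero _ h2))
        rw [hte] at hN2
        refine (hasPlane_or_middle h2 hε hN2).elim Or.inl fun ⟨hD3, hD2⟩ => ?_
        obtain ⟨k', hk', hk3, hk2, hkN⟩ := M.middle ε hε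
        obtain ⟨x, hx⟩ := middle_conj h2 hε hD3 hD2 hN2 hk3 hk2 hkN
        exact .inr ⟨x, hx ▸ hk'⟩
      · exact .inl (hasPlane_semisimple_type h2 ht4 hN2)
    · obtain ⟨v, c, hc, a0, a1, a2⟩ := exists_regular_vector h2 hN3 (regular_skew_ne_zero h2 hN3 hN2)
      obtain ⟨k₀, hk₀, hk3, hk2⟩ := M.regular t
      obtain ⟨v₀, c₀, hc₀, b0, b1, b2⟩ := exists_regular_vector h2 hk3 (regular_skew_ne_zero h2 hk3 hk2)
      obtain ⟨k', S, hk', hSN, hSk, hS, hsur⟩ := scale_conj M (t := t) hk₀ (div_ne_zero hc hc₀)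
      have hk'3 : symPart t k' ^ 3 = 0 := mulVec_eq_zero_of_eq fun w => by
        obtain ⟨u, rfl⟩ := hsur w
        rw [hSN 3 (by norm_num), hk3, zero_mulVec, mulVec_zero]
      have e1 := hSN 1 one_pos v₀
      simp only [pow_one] at e1
      obtain ⟨x, hx⟩ := regular_conj h2 hN3 hk'3 hc a0 a1 a2
        (v' := S *ᵥ v₀) (g' := k') (by rw [hSk, hS, b0, mul_zero])
        (by rw [hSk, e1, hS, b1, mul_zero])
        (by rw [hSk, hSN 2 (by norm_num), hS, b2, div_mul_cancel₀ _ hc₀])
      exact .inr ⟨x, hx ▸ hk'⟩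
  · exact absurd (aeval_pow_eq_zero (m := 1) h2 hs hp hk (by omega))
      fun h => not_quadratic h2 hs hp hd2 (by rwa [pow_one] at h)
  · -- a cubic extension
    have hdeg : ∀ q : F[X], Irreducible q → q ∣ minpoly F T → M.f.natDegree ∣ q.natDegree := by
      intro q hq hqd
      have h := hq.prime.dvd_of_dvd_pow (hqd.trans (minpoly.dvd F T hk))
      rw [natDegree_eq_of_degree_eq (degree_eq_degree_of_associated (hq.associated_of_dvd hp h)), hd3, M.deg]
    obtain ⟨r, hr⟩ := exists_aeval_root T hint M.irr hdeg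
    set J' := aeval T r with hJ'
    obtain ⟨P, hP⟩ := selfAdj_conj h2 M.irr M.deg (hs.aeval r) M.selfAdj hr M.root
    have hgJ : g.1 * J' = J' * g.1 := by
      rw [hJ']
      clear hr hP hJ'
      induction r using Polynomial.induction_on with
      | C c => rw [aeval_C]; exact (Algebra.commutes c g.1).symm
      | add q q' hq hq' => rw [map_add, mul_add, add_mul, hq, hq']
      | monomial n c hind =>
        rw [pow_succ, ← mul_assoc, map_mul, aeval_X]
        exact (Commute.mul_right hind (symPart_comm 0 g)).eq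
    refine .inr ⟨P, X, ?_⟩
    rw [aeval_X]
    show P.1 * g.1 * (P⁻¹).1 * M.J = M.J * (P.1 * g.1 * (P⁻¹).1)
    have hJP : (P⁻¹).1 * M.J = J' * (P⁻¹).1 := by
      calc (P⁻¹).1 * M.J = (P⁻¹).1 * (M.J * P.1) * (P⁻¹).1 := by
            simp only [mul_assoc, sp_val_mul_inv, mul_one]
        _ = ((P⁻¹).1 * P.1) * (J' * (P⁻¹).1) := by rw [← hP]; simp only [mul_assoc, hJ']
        _ = J' * (P⁻¹).1 := by rw [sp_val_inv_mul, one_mul]
    calc P.1 * g.1 * (P⁻¹).1 * M.J = P.1 * (g.1 * J') * (P⁻¹).1 := by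
          rw [mul_assoc _ _ M.J, hJP]; simp only [mul_assoc]
      _ = (P.1 * J') * (g.1 * (P⁻¹).1) := by rw [hgJ]; simp only [mul_assoc]
      _ = M.J * (P.1 * g.1 * (P⁻¹).1) := by rw [hP]; simp only [mul_assoc]

theorem twoCovered [Finite F] [CharP F 3] : TwoCovered (Cfsg.PSp 3 F) := by
  obtain ⟨M⟩ := exists_model (F := F)
  set e : V6 := Pi.single (Sum.inr 0) 1
  set f : V6 := Pi.single (Sum.inl 0) 1
  have hef : sbil e f = 1 := by simp [e, f, sbil_single_inl]
  refine TwoCovered.quotient _ (H := planeStab (Submodule.span F {e, f})) (K := normGroup M.J)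
    (planeStab_center _) (fun z hz => mem_normGroup.2 ⟨X, ?_⟩) ?_ (normGroup_ne_top M) fun g => ?_
  · rw [aeval_X]
    rcases mem_center_sp_iff.1 hz with h | h <;> rw [h]
    · rw [one_mul, mul_one]
    · rw [neg_mul, mul_neg, one_mul, mul_one]
  · refine planeStab_ne_top hef (w := Pi.single (Sum.inl 1) 1 + f) ?_ ?_
    · rw [Submodule.mem_span_pair]
      rintro ⟨a, b, hab⟩
      simpa [e, f] using congrFun hab (Sum.inl 1)
    · simp [e, f, sbil_add_left, sbil_single_inr]
  · rcases hasPlane_or_normalises M g with h | ⟨x, hx⟩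
    · obtain ⟨x, hx⟩ := h.conj hef
      exact ⟨x, .inl hx⟩
    · exact ⟨x, .inr hx⟩

end CfsgLib.NCover2.Symp6
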