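import Cfsg.Agent.Lib.NCover2.SympClasses
import Cfsg.Agent.Lib.NCover2.Poly

/-! Self-adjoint transformations of a six-dimensional symplectic space. -/

set_option autoImplicit false

namespace CfsgLib.NCover2.Symp6

open Polynomial Matrix CfsgLib.Classical

variable {F : Type*} [Field F]

local notation "V6" => (Fin 3 ⊕ Fin 3 → F)
local notation "M6" => Matrix (Fin 3 ⊕ Fin 3) (Fin 3 ⊕ Fin 3) F
local notation "Sp6" => Matrix.symplecticGroup (Fin 3) F

/-- Self-adjoint for the alternating form. -/
def IsSelfAdj (T : M6) : Prop := ∀ u v : V6, sbil (T *ᵥ u) v = sbil u (T *ᵥ v)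

theorem finrank_V6 : Module.finrank F V6 = 6 := by
  rw [Module.finrank_pi, Fintype.card_sum, Fintype.card_fin]

theorem IsSelfAdj.aeval {T : M6} (hs : IsSelfAdj T) (a : F[X]) :
    IsSelfAdj (Polynomial.aeval T a) := by
  induction a using Polynomial.induction_on with
  | C r =>
    intro u v
    simp only [aeval_C, Algebra.algebraMap_eq_smul_one, smul_mulVec, one_mulVec, sbil_smul_left, sbil_smul_right]
  | add p p' hp hp' =>
    intro u v
    simp only [map_add, add_mulVec, sbil_add_left, sbil_add_right, hp u v, hp' u v]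
  | monomial n r hind =>
    intro u v
    rw [pow_succ, ← mul_assoc]
    conv_rhs => rw [mul_comm]
    rw [map_mul (Polynomial.aeval T) (C r * X ^ n) X, map_mul (Polynomial.aeval T) X, aeval_X,
      ← mulVec_mulVec, ← mulVec_mulVec, hind, hs]

theorem selfAdj_alt (h2 : (2 : F) ≠ 0) {A : M6} (hA : IsSelfAdj A) (u : V6) : sbil (A *ᵥ u) u = 0 := by
  have h : sbil (A *ᵥ u) u = -sbil (A *ᵥ u) u := by
    conv_lhs => rw [hA, sbil_swap]
  exact (mul_eq_zero.1 (show (2 : F) * sbil (A *ᵥ u) u = 0 by linear_combination h)).resolve_left h2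

theorem aeval_alt (h2 : (2 : F) ≠ 0) {T : M6} (hs : IsSelfAdj T) (a b : F[X]) (u : V6) :
    sbil (aeval T a *ᵥ u) (aeval T b *ᵥ u) = 0 := by
  rw [← (hs.aeval b) (aeval T a *ᵥ u) u, mulVec_mulVec, ← map_mul]
  exact selfAdj_alt h2 (hs.aeval _) u

/-- Functionals on an independent family come from vectors. -/
theorem exists_dual {d : ℕ} {v : Fin d → V6} (hv : LinearIndependent F v) (φ : Fin d → F) :
    ∃ y, ∀ i, sbil (v i) y = φ i := by
  obtain ⟨π, hπ⟩ := LinearMap.exists_leftInverse_of_injective (Fintype.linearCombination F v)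
    (LinearMap.ker_eq_bot.2 (linearIndependent_iff_injective_fintypeLinearCombination.1 hv) )
  let ψ : Module.Dual F V6 := (Fintype.linearCombination F φ).comp π
  have hinj : Function.Injective (sForm F 3).flip := (injective_iff_map_eq_zero _).2 fun y hy =>
    sbil_ext fun x => by
      rw [sbil_zero_left, sbil_swap x y, ← sForm_apply x y, show sForm F 3 x y = (sForm F 3).flip y x from rfl, hy]
      simp
  obtain ⟨y, hy⟩ := (LinearMap.injective_iff_surjective_of_finrank_eq_finrank
    Subspace.dual_finrank_eq.symm).1 hinj ψ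
  refine ⟨y, fun i => ?_⟩
  have h1 := LinearMap.congr_fun hy (v i)
  rw [show (sForm F 3).flip y (v i) = sbil (v i) y from rfl] at h1
  rw [h1]
  show Fintype.linearCombination F φ (π (v i)) = φ i
  have h3 := LinearMap.congr_fun hπ (Pi.single i 1)
  rw [LinearMap.comp_apply, Fintype.linearCombination_apply_single, one_smul, LinearMap.id_apply] at h3
  rw [h3, Fintype.linearCombination_apply_single, one_smul]

/-- The pairings with an independent family. -/
noncomputable def pairMap {d : ℕ} (v : Fin d → V6) : V6 →ₗ[F] (Fin d → F) :=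
  LinearMap.pi fun i => sForm F 3 (v i)

theorem pairMap_ker {d : ℕ} {v : Fin d → V6} (hv : LinearIndependent F v) :
    d + Module.finrank F (LinearMap.ker (pairMap v)) = 6 := by
  have hsur : LinearMap.range (pairMap v) = ⊤ := LinearMap.range_eq_top.2 fun φ => by
    obtain ⟨y, hy⟩ := exists_dual hv φ
    exact ⟨y, funext fun i => hy i⟩
  have := LinearMap.finrank_range_add_finrank_ker (pairMap v)
  rw [hsur, finrank_top, Module.finrank_fin_fun, finrank_V6] at this
  exact this

theorem isotropic_le {d : ℕ} {v : Fin d → V6} (hv : LinearIndependent F v)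
    (h : ∀ i j, sbil (v i) (v j) = 0) : d + d ≤ 6 := by
  have hle : Submodule.span F (Set.range v) ≤ LinearMap.ker (pairMap v) := by
    rw [Submodule.span_le]
    rintro _ ⟨j, rfl⟩
    exact LinearMap.mem_ker.2 (funext fun i => h i j)
  have h1 := Submodule.finrank_mono hle
  rw [finrank_span_eq_card hv, Fintype.card_fin] at h1
  have h2 := pairMap_ker hv
  omega

theorem finrank_orth_eq (W : Submodule F V6) :
    Module.finrank F W + Module.finrank F (orth W) = 6 := by
  let b := Module.finBasis F W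
  have hv : LinearIndependent F fun i => (b i : V6) := b.linearIndependent.map' W.subtype W.ker_subtype
  rw [← pairMap_ker hv]
  congr 1
  refine congrArg (fun S : Submodule F V6 => Module.finrank F S) ?_
  ext z
  rw [LinearMap.mem_ker, mem_orth]
  refine ⟨fun h => funext fun i => h _ (b i).2, fun h w hw => ?_⟩
  have h3 : ∀ i, sbil (b i : V6) z = 0 := fun i => congrFun h i
  have h4 : ((sForm F 3).flip z).comp W.subtype = 0 := b.ext fun i => by
    simpa [sForm_apply] using h3 i
  simpa [sForm_apply] using LinearMap.congr_fun h4 ⟨w, hw⟩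

theorem exists_unit_poly {T : M6} {p : F[X]} (hp : Irreducible p) {k : ℕ} (hk : aeval T (p ^ k) = 0)
    {a : F[X]} (ha : ¬ p ∣ a) : ∃ u : F[X], aeval T (u * a) = 1 := by
  obtain ⟨u, v, huv⟩ := ((hp.coprime_iff_not_dvd.2 ha).pow_left (m := k)).symm
  refine ⟨u, ?_⟩
  have := congrArg (aeval T) huv
  rwa [map_add, map_mul _ v, hk, mul_zero, add_zero, map_one] at this

theorem eq_zero_of_annihilates {T : M6} {p : F[X]} (hp : Irreducible p) {k m : ℕ}
    (hk : aeval T (p ^ k) = 0) {x : V6} (hx : aeval T (p ^ m) *ᵥ x ≠ 0) {a : F[X]}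
    (ha : aeval T a *ᵥ x = 0) (hdeg : a.natDegree < (m + 1) * p.natDegree) : a = 0 := by
  by_contra h0
  obtain ⟨j, r, hr, rfl⟩ := WfDvdMonoid.max_power_factor h0 hp
  have hr0 : r ≠ 0 := right_ne_zero_of_mul h0
  rw [natDegree_mul (pow_ne_zero _ hp.ne_zero) hr0, natDegree_pow] at hdeg
  have hj : j < m + 1 := by
    by_contra hjm
    have := Nat.mul_le_mul_right p.natDegree (not_lt.1 hjm)
    omega
  obtain ⟨u, hu⟩ := exists_unit_poly hp hk hr
  have h1 : aeval T (p ^ j) *ᵥ x = 0 := by
    have := congrArg (fun w => aeval T u *ᵥ w) ha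
    simp only [mulVec_mulVec, mulVec_zero, ← map_mul] at this
    rw [show u * (p ^ j * r) = p ^ j * (u * r) by ring, map_mul, hu, mul_one] at this
    exact this
  refine hx ?_
  rw [show p ^ m = p ^ (m - j) * p ^ j by rw [← pow_add, Nat.sub_add_cancel (by omega)], map_mul,
    ← mulVec_mulVec, h1, mulVec_zero]

theorem powers_independent {T : M6} {p : F[X]} (hp : Irreducible p) {k m : ℕ}
    (hk : aeval T (p ^ k) = 0) {x : V6} (hx : aeval T (p ^ m) *ᵥ x ≠ 0) {d : ℕ}
    (hd : d ≤ (m + 1) * p.natDegree) : LinearIndependent F fun i : Fin d => T ^ (i : ℕ) *ᵥ x := by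
  rw [Fintype.linearIndependent_iff]
  intro c hc i
  set a : F[X] := ∑ i : Fin d, C (c i) * X ^ (i : ℕ) with ha
  have h0 : a = 0 := by
    refine eq_zero_of_annihilates hp hk hx ?_ ?_
    · rw [ha, map_sum, sum_mulVec, ← hc]
      simp [Algebra.algebraMap_eq_smul_one, smul_mulVec]
    · rcases eq_or_ne a 0 with h | h
      · rw [h, natDegree_zero]
        exact Nat.mul_pos (by omega) hp.natDegree_pos
      · have := degree_sum_fin_lt c
        rw [← ha] at this
        exact lt_of_lt_of_le ((natDegree_lt_iff_degree_lt h).2 this) hd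
  have := congrArg (fun q => coeff q (i : ℕ)) h0
  simpa [ha, coeff_C_mul, coeff_X_pow, Fin.val_inj] using this

/-- A cyclic subspace is totally isotropic, so has dimension at most three. -/
theorem aeval_pow_eq_zero (h2 : (2 : F) ≠ 0) {T : M6} (hs : IsSelfAdj T) {p : F[X]} (hp : Irreducible p)
    {k m : ℕ} (hk : aeval T (p ^ k) = 0) (hd : 4 ≤ (m + 1) * p.natDegree) : aeval T (p ^ m) = 0 := by
  refine Matrix.ext_iff_mulVec.2 fun x => ?_
  rw [zero_mulVec]
  by_contra hx
  have hv := powers_independent hp hk hx hd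
  have := isotropic_le hv fun i j => by
    have := aeval_alt h2 hs (X ^ (i : ℕ)) (X ^ (j : ℕ)) x
    simpa using this
  omega

theorem pair_independent (h2 : (2 : F) ≠ 0) {T : M6} (hs : IsSelfAdj T) {p : F[X]} (hp : Irreducible p)
    {k : ℕ} (hk : aeval T (p ^ k) = 0) {x y : V6} (hxy : sbil x y = 1) {a b : F[X]}
    (ha : a.natDegree < p.natDegree) (hb : b.natDegree < p.natDegree)
    (h : aeval T a *ᵥ x + aeval T b *ᵥ y = 0) : a = 0 ∧ b = 0 := by
  have hb0 : b = 0 := by
    by_contra hb0
    obtain ⟨u, hu⟩ := exists_unit_poly hp hk fun hd => by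
      have := natDegree_le_of_dvd hd hb0
      omega
    have := congrArg (fun w => sbil (aeval T u *ᵥ x) w) h
    simp only [sbil_add_right, aeval_alt h2 hs, zero_add, sbil_zero_right] at this
    rw [(hs.aeval u), mulVec_mulVec, ← map_mul, hu, one_mulVec, hxy] at this
    exact one_ne_zero this
  subst hb0
  refine ⟨eq_zero_of_annihilates (m := 0) hp hk ?_ (by simpa using h) (by simpa using ha), rfl⟩
  rw [pow_zero, map_one, one_mulVec]
  intro hx0
  rw [hx0, sbil_zero_left] at hxy
  exact zero_ne_one hxy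

theorem aeval_mulVec_eigen {T : M6} {c : F} {z : V6} (h : T *ᵥ z = c • z) (a : F[X]) :
    aeval T a *ᵥ z = a.eval c • z := by
  induction a using Polynomial.induction_on with
  | C r => rw [aeval_C, Algebra.algebraMap_eq_smul_one, smul_mulVec, one_mulVec, eval_C]
  | add p p' hp hp' => rw [map_add, add_mulVec, hp, hp', eval_add, add_smul]
  | monomial n r hind =>
    rw [pow_succ, ← mul_assoc, map_mul, aeval_X, ← mulVec_mulVec, h, mulVec_smul, hind, smul_smul]
    congr 1
    simp only [eval_mul, eval_X]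
    ring

theorem not_eigen {T : M6} {p : F[X]} (hp : Irreducible p) (hdeg : 2 ≤ p.natDegree)
    (hT : aeval T p = 0) {c : F} {z : V6} (hz : z ≠ 0) (h : T *ᵥ z = c • z) : False := by
  have h1 := aeval_mulVec_eigen h p
  rw [hT, zero_mulVec, eq_comm, smul_eq_zero] at h1
  have h3 := degree_eq_one_of_irreducible_of_root hp (h1.resolve_right hz)
  have h4 : p.natDegree = 1 := natDegree_eq_of_degree_eq_some (n := 1) (by rw [h3]; rfl)
  omega

theorem not_quadratic (h2 : (2 : F) ≠ 0) {T : M6} (hs : IsSelfAdj T) {p : F[X]} (hp : Irreducible p)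
    (hdeg : p.natDegree = 2) (hT : aeval T p = 0) : False := by
  have hk : aeval T (p ^ 1) = 0 := by rwa [pow_one]
  obtain ⟨x, hx⟩ := exists_ne (0 : V6)
  have hli := powers_independent (m := 0) (d := 2) hp hk (x := x) (by simpa using hx) (by omega)
  obtain ⟨y, hy⟩ := exists_dual hli (Pi.single 0 1)
  have hxy : sbil x y = 1 := by simpa using hy 0
  let L : (Fin 4 → F) →ₗ[F] V6 := Fintype.linearCombination F ![x, T *ᵥ x, y, T *ᵥ y]
  have hL : ∀ c, L c = aeval T (C (c 0) + C (c 1) * X) *ᵥ x + aeval T (C (c 2) + C (c 3) * X) *ᵥ y := by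
    intro c
    simp only [L, Fintype.linearCombination_apply, Fin.sum_univ_four, map_add, map_mul, aeval_C, aeval_X,
      Algebra.algebraMap_eq_smul_one, Matrix.smul_mul, one_mul, add_mulVec, smul_mulVec, one_mulVec]
    simp only [Matrix.cons_val_zero, Matrix.cons_val_one, Matrix.cons_val]
    abel
  have hlin : ∀ a b : F, (C a + C b * X).natDegree < p.natDegree := fun a b => by
    rw [hdeg, Nat.lt_succ_iff, add_comm]; exact natDegree_linear_le
  set U := LinearMap.range L with hU
  have hmem : ∀ a b : F[X], aeval T a *ᵥ x + aeval T b *ᵥ y ∈ U := by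
    intro a b
    have e : ∀ q : F[X], ∃ r s : F, aeval T q = aeval T (C r + C s * X) := fun q => by
      obtain ⟨s, r, hr⟩ := exists_eq_X_add_C_of_natDegree_le_one (p := q % p) (by
        have := natDegree_mod_lt q (q := p) (by omega)
        omega)
      refine ⟨r, s, ?_⟩
      rw [add_comm, ← hr]
      conv_lhs => rw [← EuclideanDomain.div_add_mod q p, map_add, map_mul, hT, zero_mul, zero_add]
    obtain ⟨r, s, h1⟩ := e a
    obtain ⟨r', s', h1'⟩ := e b
    exact ⟨![r, s, r', s'], by rw [hL, h1, h1']; simp⟩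
  have hinjL : Function.Injective L := (injective_iff_map_eq_zero L).2 fun c hc => by
    obtain ⟨e1, e2⟩ := pair_independent h2 hs hp hk hxy (hlin _ _) (hlin _ _) (by rw [← hL]; exact hc)
    funext i
    have a0 := congrArg (fun q => coeff q 0) e1; have a1 := congrArg (fun q => coeff q 1) e1
    have b0 := congrArg (fun q => coeff q 0) e2; have b1 := congrArg (fun q => coeff q 1) e2
    simp at a0 a1 b0 b1
    fin_cases i <;> simp [a0, a1, b0, b1]
  have hUdim : Module.finrank F U = 4 := by
    rw [hU, LinearMap.finrank_range_of_inj hinjL, Module.finrank_fin_fun]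
  have hUnd : SNondeg U := by
    rintro _ ⟨c, rfl⟩ hne
    by_contra hcon
    push Not at hcon
    rw [hL] at hcon hne
    set a := C (c 0) + C (c 1) * X with ha
    set b := C (c 2) + C (c 3) * X with hb
    by_cases hb0 : b = 0
    · have ha0 : a ≠ 0 := fun h => hne (by simp [h, hb0])
      obtain ⟨u, hu⟩ := exists_unit_poly hp hk fun hd => by
        have := natDegree_le_of_dvd hd ha0
        have := hlin (c 0) (c 1)
        rw [← ha] at this
        omega
      have := hcon _ (hmem 0 u)
      simp only [hb0, map_zero, zero_mulVec, add_zero, zero_add] at this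
      rw [← (hs.aeval u), mulVec_mulVec, ← map_mul, hu, one_mulVec, hxy] at this
      exact one_ne_zero this
    · obtain ⟨u, hu⟩ := exists_unit_poly hp hk fun hd => by
        have := natDegree_le_of_dvd hd hb0
        have := hlin (c 2) (c 3)
        rw [← hb] at this
        omega
      have := hcon _ (hmem u 0)
      simp only [map_zero, zero_mulVec, add_zero, sbil_add_left, aeval_alt h2 hs, zero_add] at this
      rw [← (hs.aeval u), mulVec_mulVec, ← map_mul, hu, one_mulVec, sbil_swap, hxy, neg_eq_zero] at this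
      exact one_ne_zero this
  have hinv : ∀ z ∈ orth U, T *ᵥ z ∈ orth U := by
    rintro z hz _ ⟨c, rfl⟩
    rw [← hs, hL, mulVec_add, mulVec_mulVec, mulVec_mulVec]
    have := hz _ (hmem (X * (C (c 0) + C (c 1) * X)) (X * (C (c 2) + C (c 3) * X)))
    rwa [map_mul _ X, map_mul _ X, aeval_X] at this
  have hdim : Module.finrank F (orth U) = 2 := by
    have := finrank_orth_eq U
    omega
  obtain ⟨z, hz, hz0⟩ := Submodule.exists_mem_ne_zero_of_ne_bot (p := orth U) fun h => by
    rw [h, finrank_bot] at hdim; omega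
  obtain ⟨w, hw, hzw⟩ := snondeg_orth hUnd z hz hz0
  have hli2 : LinearIndependent F ![z, w] :=
    (LinearIndependent.pair_iff' hz0).2 fun c hc => by
      rw [← hc, sbil_smul_right, sbil_self, mul_zero] at hzw
      exact hzw rfl
  have hrange : Submodule.span F (Set.range ![z, w]) = orth U := by
    refine Submodule.eq_of_le_of_finrank_eq (Submodule.span_le.2 ?_) ?_
    · rintro _ ⟨i, rfl⟩
      fin_cases i <;> assumption
    · rw [finrank_span_eq_card hli2, Fintype.card_fin, hdim]
  have hTz := hinv z hz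
  rw [← hrange, show Set.range ![z, w] = ({z, w} : Set V6) by simp [Matrix.range_cons, Set.pair_comm],
    Submodule.mem_span_pair] at hTz
  obtain ⟨α, β, hαβ⟩ := hTz
  have hβ : β = 0 := by
    have := selfAdj_alt h2 hs z
    rw [sbil_swap, neg_eq_zero, ← hαβ, sbil_add_right, sbil_smul_right, sbil_smul_right, sbil_self,
      mul_zero, zero_add] at this
    exact (mul_eq_zero.1 this).resolve_right hzw
  rw [hβ, zero_smul, add_zero] at hαβ
  exact not_eigen hp hdeg.ge hT hz0 hαβ.symm

/-- Self-adjoint roots of a cubic are conjugate by isometries. -/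
theorem selfAdj_conj (h2 : (2 : F) ≠ 0) {f : F[X]} (hf : Irreducible f) (hdeg : f.natDegree = 3)
    {M M' : M6} (hs : IsSelfAdj M) (hs' : IsSelfAdj M') (hM : aeval M f = 0) (hM' : aeval M' f = 0) :
    ∃ P : Sp6, P.1 * M = M' * P.1 := by
  have frame : ∀ {M : M6}, IsSelfAdj M → aeval M f = 0 → ∃ x y : V6,
      (∀ n, sbil (M ^ n *ᵥ x) y = (X ^ n % f : F[X]).coeff 0) ∧
      ∀ u, pairFrame M x y *ᵥ u = 0 → u = 0 := by
    intro M hs hM
    have hk : aeval M (f ^ 1) = 0 := by rwa [pow_one]
    obtain ⟨x, hx⟩ := exists_ne (0 : V6)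
    have hli := powers_independent (m := 0) (d := 3) hf hk (x := x) (by simpa using hx) (by omega)
    obtain ⟨y, hy⟩ := exists_dual hli (Pi.single 0 1)
    have hxy : sbil x y = 1 := by simpa using hy 0
    refine ⟨x, y, fun n => ?_, fun u hu => ?_⟩
    · have e : aeval M (X ^ n % f) = M ^ n := by
        rw [← aeval_X_pow (R := F) M]
        conv_rhs => rw [← EuclideanDomain.div_add_mod (X ^ n) f, map_add, map_mul, hM, zero_mul, zero_add]
      rw [← e, aeval_eq_sum_range' (n := 3) (hdeg ▸ natDegree_mod_lt _ (by omega)), sum_mulVec,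
        ← sForm_apply, map_sum, LinearMap.sum_apply, Finset.sum_range]
      simp only [smul_mulVec, map_smul, LinearMap.smul_apply, sForm_apply, smul_eq_mul, hy]
      simp [Fin.sum_univ_three]
    · have hlin : ∀ a b c : F, (C a + C b * X + C c * X ^ 2).natDegree < f.natDegree := fun a b c => by
        rw [hdeg, Nat.lt_succ_iff]
        compute_degree
      have hA : pairFrame M x y *ᵥ u =
          aeval M (C (u (.inl 0)) + C (u (.inl 1)) * X + C (u (.inl 2)) * X ^ 2) *ᵥ x +
          aeval M (C (u (.inr 0)) + C (u (.inr 1)) * X + C (u (.inr 2)) * X ^ 2) *ᵥ y := by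
        rw [pi_eq_sum_univ' u, mulVec_sum]
        simp only [mulVec_smul, Fintype.sum_sum_type, Fin.sum_univ_three, pairFrame_inl, pairFrame_inr]
        simp [Algebra.algebraMap_eq_smul_one, add_mulVec, smul_mulVec, Pi.single_apply]
      obtain ⟨e1, e2⟩ := pair_independent h2 hs hf hk hxy (hlin _ _ _) (hlin _ _ _) (hA ▸ hu)
      have a0 := congrArg (fun q => coeff q 0) e1; have a1 := congrArg (fun q => coeff q 1) e1
      have a2 := congrArg (fun q => coeff q 2) e1
      have b0 := congrArg (fun q => coeff q 0) e2; have b1 := congrArg (fun q => coeff q 1) e2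
      have b2 := congrArg (fun q => coeff q 2) e2
      simp [coeff_X, coeff_X_pow, coeff_C] at a0 a1 a2 b0 b1 b2
      funext i
      rcases i with i | i <;> fin_cases i <;> simp [a0, a1, a2, b0, b1, b2]
  obtain ⟨x, y, hn, hinj⟩ := frame hs hM
  obtain ⟨x', y', hn', hinj'⟩ := frame hs' hM'
  have pw : ∀ {M : M6}, IsSelfAdj M → ∀ (i j : ℕ) (u v : V6),
      sbil (M ^ i *ᵥ u) (M ^ j *ᵥ v) = sbil (M ^ (i + j) *ᵥ u) v := by
    intro M hs i j u v
    have := hs.aeval (X ^ j) (M ^ i *ᵥ u) v
    rw [aeval_X_pow] at this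
    rw [← this, mulVec_mulVec, ← pow_add, add_comm]
  have pz : ∀ {M : M6}, IsSelfAdj M → ∀ (i j : ℕ) (u : V6),
      sbil (M ^ i *ᵥ u) (M ^ j *ᵥ u) = 0 := by
    intro M hs i j u
    have := aeval_alt h2 hs (X ^ i) (X ^ j) u
    rwa [aeval_X_pow, aeval_X_pow] at this
  obtain ⟨P, hP⟩ := exists_sp_of_gram (A := pairFrame M x y) (A' := pairFrame M' x' y') (by
    rintro (i | i) (j | j) <;> simp only [pairFrame_inl, pairFrame_inr]
    · rw [pz hs, pz hs']
    · rw [pw hs, pw hs', hn, hn']
    · rw [sbil_swap, sbil_swap (M' ^ (j : ℕ) *ᵥ x'), pw hs, pw hs', hn, hn']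
    · rw [pz hs, pz hs']) hinj
  have hPi : ∀ i : Fin 3, P.1 *ᵥ (M ^ (i : ℕ) *ᵥ x) = M' ^ (i : ℕ) *ᵥ x' ∧
      P.1 *ᵥ (M ^ (i : ℕ) *ᵥ y) = M' ^ (i : ℕ) *ᵥ y' := fun i => by
    constructor
    · rw [← pairFrame_inl M x y, mulVec_mulVec, hP, pairFrame_inl]
    · rw [← pairFrame_inr M x y, mulVec_mulVec, hP, pairFrame_inr]
  have hPa : ∀ a : F[X], P.1 *ᵥ (aeval M a *ᵥ x) = aeval M' a *ᵥ x' ∧
      P.1 *ᵥ (aeval M a *ᵥ y) = aeval M' a *ᵥ y' := by
    intro a
    have e : ∀ {M : M6}, aeval M f = 0 → aeval M a = ∑ i : Fin 3, (a % f).coeff i • M ^ (i : ℕ) := by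
      intro M hM
      conv_lhs => rw [← EuclideanDomain.div_add_mod a f, map_add, map_mul, hM, zero_mul, zero_add,
        aeval_eq_sum_range' (n := 3) (hdeg ▸ natDegree_mod_lt _ (by omega)), Finset.sum_range]
    rw [e hM, e hM']
    constructor <;> simp only [sum_mulVec, smul_mulVec, mulVec_sum, mulVec_smul, hPi]
  refine ⟨P, ?_⟩
  have hu : IsUnit (pairFrame M x y) := mulVec_injective_iff_isUnit.1 fun a b hab => by
    rw [← sub_eq_zero]
    exact hinj _ (by rw [mulVec_sub]; exact sub_eq_zero.2 hab)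
  refine hu.mul_right_cancel (Matrix.ext_of_mulVec_single fun j => ?_)
  rw [← mulVec_mulVec, ← mulVec_mulVec, ← mulVec_mulVec, ← mulVec_mulVec]
  rcases j with i | i
  · rw [pairFrame_inl, (hPi i).1]
    have := (hPa (X * X ^ (i : ℕ))).1
    rwa [map_mul, map_mul, aeval_X, aeval_X, aeval_X_pow, aeval_X_pow, ← mulVec_mulVec, ← mulVec_mulVec] at this
  · rw [pairFrame_inr, (hPi i).2]
    have := (hPa (X * X ^ (i : ℕ))).2
    rwa [map_mul, map_mul, aeval_X, aeval_X, aeval_X_pow, aeval_X_pow, ← mulVec_mulVec, ← mulVec_mulVec] at this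

end CfsgLib.NCover2.Symp6
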