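import Cfsg.Agent.Lib.NCover2.SympModel

/-! Conjugacy of the symplectic transformations without invariant plane that have one eigenvalue pair. -/

set_option autoImplicit false

namespace CfsgLib.NCover2.Symp6

open Matrix CfsgLib.Classical

variable {F : Type*} [Field F]

local notation "V6" => (Fin 3 ⊕ Fin 3 → F)
local notation "M6" => Matrix (Fin 3 ⊕ Fin 3) (Fin 3 ⊕ Fin 3) F
local notation "Sp6" => Matrix.symplecticGroup (Fin 3) F

/-- Two frames with equal Gram matrices differ by an isometry. -/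
theorem exists_sp_of_gram {A A' : M6}
    (hG : ∀ i j, sbil (A *ᵥ Pi.single i 1) (A *ᵥ Pi.single j 1) = sbil (A' *ᵥ Pi.single i 1) (A' *ᵥ Pi.single j 1))
    (hA : ∀ u, A *ᵥ u = 0 → u = 0) : ∃ x : Sp6, x.1 * A = A' := by
  have hu : IsUnit A := mulVec_injective_iff_isUnit.1 fun a b hab => by
    rw [← sub_eq_zero]
    exact hA _ (by rw [mulVec_sub]; exact sub_eq_zero.2 hab)
  have hdet : IsUnit A.det := (isUnit_iff_isUnit_det A).1 hu
  have hform : Aᵀ * Matrix.J (Fin 3) F * A = A'ᵀ * Matrix.J (Fin 3) F * A' := by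
    ext i j
    have h1 := hG i j
    rw [sbil_eq_toBilin, sbil_eq_toBilin] at h1
    simpa using h1
  refine ⟨⟨A' * A⁻¹, mem_symplecticGroup_iff_sbil.2 fun u v => ?_⟩, ?_⟩
  · conv_rhs => rw [← one_mulVec u, ← one_mulVec v, ← Matrix.mul_nonsing_inv _ hdet]
    rw [← mulVec_mulVec, ← mulVec_mulVec, ← mulVec_mulVec, ← mulVec_mulVec, sbil_eq_toBilin,
      sbil_eq_toBilin A, hform]
  · show A' * A⁻¹ * A = A'
    rw [Matrix.nonsing_inv_mul_cancel_right _ _ hdet]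

theorem sp_val_inv_mul (g : Sp6) : (g⁻¹).1 * g.1 = 1 := by
  show (g⁻¹ * g).1 = 1
  rw [inv_mul_cancel]; rfl

theorem sp_val_mul_inv (g : Sp6) : g.1 * (g⁻¹).1 = 1 := by
  show (g * g⁻¹).1 = 1
  rw [mul_inv_cancel]; rfl

theorem conj_eq {x g g' : Sp6} (h : x.1 * g.1 = g'.1 * x.1) : x * g * x⁻¹ = g' := by
  rw [mul_inv_eq_iff_eq_mul]
  exact Subtype.ext h

theorem sbil_inv_left (g : Sp6) (u v : V6) : sbil (g.1 *ᵥ u) v = sbil u ((g⁻¹).1 *ᵥ v) := by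
  rw [← sbil_mulVec (g⁻¹) (g.1 *ᵥ u), sp_inv_mulVec]

theorem sbil_inv_right (g : Sp6) (u v : V6) : sbil ((g⁻¹).1 *ᵥ u) v = sbil u (g.1 *ᵥ v) := by
  rw [← sbil_mulVec g ((g⁻¹).1 *ᵥ u), sp_mulVec_inv]

theorem skewPart_skew (g : Sp6) (u v : V6) :
    sbil (skewPart g *ᵥ u) v = -sbil u (skewPart g *ᵥ v) := by
  simp only [skewPart, sub_mulVec, sbil_sub_left, sbil_sub_right, sbil_inv_left, sbil_inv_right, inv_inv]
  ring

theorem symPart_self (t : F) (g : Sp6) (u v : V6) :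
    sbil (symPart t g *ᵥ u) v = sbil u (symPart t g *ᵥ v) := by
  simp only [symPart, sub_mulVec, add_mulVec, smul_mulVec, one_mulVec, sbil_sub_left, sbil_sub_right,
    sbil_add_left, sbil_add_right, sbil_smul_left, sbil_smul_right, sbil_inv_left, sbil_inv_right, inv_inv]
  ring

theorem symPart_comm (t : F) (g : Sp6) : g.1 * symPart t g = symPart t g * g.1 := by
  simp only [symPart, mul_sub, sub_mul, mul_add, add_mul, sp_val_inv_mul, sp_val_mul_inv,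
    Matrix.mul_smul, Matrix.smul_mul, one_mul, mul_one]

theorem g_g (t : F) (g : Sp6) : g.1 * g.1 = symPart t g * g.1 + t • g.1 - 1 := by
  simp only [symPart, sub_mul, add_mul, sp_val_inv_mul, Matrix.smul_mul, one_mul]
  abel

theorem eq_of_parts (ε : F) (h2 : (2 : F) ≠ 0) (hε : ε ^ 2 = 1) {g : Sp6}
    (hN : symPart (2 * ε) g ^ 2 = 0) :
    g.1 = (ε • (1 : M6)) + (ε / 8) • skewPart g ^ 2 + (2 : F)⁻¹ • skewPart g := by
  have e : g.1 + (g⁻¹).1 = symPart (2 * ε) g + (2 * ε) • 1 := by rw [symPart]; abel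
  have hsq : skewPart g ^ 2 = (g.1 + (g⁻¹).1) ^ 2 - (4 : F) • 1 := by
    simp only [skewPart, sq, sub_mul, mul_sub, add_mul, mul_add, sp_val_inv_mul, sp_val_mul_inv]
    module
  rw [e, sq (symPart (2 * ε) g + _)] at hsq
  simp only [add_mul, mul_add, Matrix.smul_mul, Matrix.mul_smul, one_mul, mul_one, ← sq (symPart (2 * ε) g),
    hN, smul_smul] at hsq
  rw [hsq]
  have h8 : (8 : F) ≠ 0 := by rw [show (8 : F) = 2 * 2 * 2 by norm_num]; exact mul_ne_zero (mul_ne_zero h2 h2) h2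
  have key : symPart (2 * ε) g = g.1 + (g⁻¹).1 - (2 * ε) • 1 := rfl
  rw [key, skewPart]
  match_scalars <;> field_simp <;> first | ring1 | linear_combination (norm := ring1) hε | linear_combination (norm := ring1) (-8) * hε | linear_combination (norm := ring1) (4 * ε) * hε

/-! ### The middle class -/

/-- The frame of two vectors under a nilpotent map. -/
def pairFrame (D : M6) (x y : V6) : M6 :=
  Matrix.of fun i j => Sum.elim (fun k : Fin 3 => (D ^ (k : ℕ) *ᵥ x) i) (fun k : Fin 3 => (D ^ (k : ℕ) *ᵥ y) i) j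

theorem pairFrame_inl (D : M6) (x y : V6) (k : Fin 3) :
    pairFrame D x y *ᵥ Pi.single (Sum.inl k) 1 = D ^ (k : ℕ) *ᵥ x := by
  rw [mulVec_single_one]; rfl

theorem pairFrame_inr (D : M6) (x y : V6) (k : Fin 3) :
    pairFrame D x y *ᵥ Pi.single (Sum.inr k) 1 = D ^ (k : ℕ) *ᵥ y := by
  rw [mulVec_single_one]; rfl

theorem exists_middle_frame (h2 : (2 : F) ≠ 0) {D : M6} (hs : ∀ u v, sbil (D *ᵥ u) v = -sbil u (D *ᵥ v))
    (h3 : D ^ 3 = 0) (hn : D ^ 2 ≠ 0) :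
    ∃ x y, sbil (D ^ 2 *ᵥ x) y = 1 ∧ sbil x y = 0 ∧ sbil (D *ᵥ x) x = 0 ∧ sbil (D *ᵥ y) y = 0 ∧
      sbil (D *ᵥ x) y = 0 := by
  have hD2 : ∀ u, D ^ 2 *ᵥ u = D *ᵥ (D *ᵥ u) := fun u => by rw [sq, mulVec_mulVec]
  have hz : ∀ u, D *ᵥ (D *ᵥ (D *ᵥ u)) = 0 := fun u => by
    rw [mulVec_mulVec, mulVec_mulVec, show D * D * D = D ^ 3 by rw [pow_succ, sq], h3, zero_mulVec]
  have half : ∀ {a : F}, a = -a → a = 0 := fun {a} h =>
    (mul_eq_zero.1 (show (2 : F) * a = 0 by linear_combination h)).resolve_left h2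
  have hz2 : ∀ u, sbil (D ^ 2 *ᵥ u) u = 0 := fun u => half (by
    conv_lhs => rw [hD2, hs, hs, neg_neg, ← hD2, sbil_swap])
  obtain ⟨x0, u, hxu⟩ : ∃ x u, sbil (D ^ 2 *ᵥ x) u ≠ 0 := by
    by_contra hc
    push Not at hc
    exact hn (Matrix.ext_iff_mulVec.2 fun x => sbil_ext fun u => by rw [hc, zero_mulVec, sbil_zero_left])
  obtain ⟨y0, h1⟩ : ∃ y0, sbil (D ^ 2 *ᵥ x0) y0 = 1 :=
    ⟨(sbil (D ^ 2 *ᵥ x0) u)⁻¹ • u, by rw [sbil_smul_right, inv_mul_cancel₀ hxu]⟩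
  have hz21 : ∀ u, sbil (D *ᵥ (D *ᵥ u)) (D *ᵥ u) = 0 := fun u => by
    have h := hs (D *ᵥ (D *ᵥ u)) u
    rwa [hz, sbil_zero_left, eq_comm, neg_eq_zero] at h
  obtain ⟨y, hy, hc⟩ : ∃ y, sbil (D ^ 2 *ᵥ x0) y = 1 ∧ sbil (D *ᵥ y) y = 0 := by
    refine ⟨y0 + (-(sbil (D *ᵥ y0) y0) / 2) • (D *ᵥ x0), ?_, ?_⟩
    · rw [sbil_add_right, sbil_smul_right, h1, hD2, hz21]
      simp
    · have e1 : sbil (D *ᵥ y0) (D *ᵥ x0) = 1 := by rw [hs, ← hD2, sbil_swap, neg_neg, h1]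
      have e2 : sbil (D *ᵥ (D *ᵥ x0)) y0 = 1 := by rw [← hD2]; exact h1
      have e3 : sbil (D *ᵥ (D *ᵥ x0)) (D *ᵥ x0) = 0 := hz21 _
      simp only [mulVec_add, mulVec_smul, sbil_add_left, sbil_add_right, sbil_smul_left, sbil_smul_right,
        e1, e2, e3]
      field_simp; ring
  obtain ⟨x1, hx1, ha⟩ : ∃ x, sbil (D ^ 2 *ᵥ x) y = 1 ∧ sbil (D *ᵥ x) x = 0 := by
    refine ⟨x0 + (sbil (D *ᵥ x0) x0 / 2) • (D *ᵥ y), ?_, ?_⟩
    · have e : D ^ 2 *ᵥ (D *ᵥ y) = 0 := by rw [hD2, hz]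
      rw [mulVec_add, mulVec_smul, e, smul_zero, add_zero, hy]
    · have e1 : sbil (D *ᵥ x0) (D *ᵥ y) = -1 := by rw [sbil_swap, hs, ← hD2, neg_neg, sbil_swap, hy]
      have e2 : sbil (D *ᵥ (D *ᵥ y)) x0 = -1 := by rw [hs, sbil_swap, neg_neg, e1]
      have e3 : sbil (D *ᵥ (D *ᵥ y)) (D *ᵥ y) = 0 := hz21 _
      simp only [mulVec_add, mulVec_smul, sbil_add_left, sbil_add_right, sbil_smul_left, sbil_smul_right,
        e1, e2, e3]
      field_simp; ring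
  obtain ⟨x2, hx2, ha2, hd⟩ : ∃ x, sbil (D ^ 2 *ᵥ x) y = 1 ∧ sbil (D *ᵥ x) x = 0 ∧ sbil (D *ᵥ x) y = 0 := by
    refine ⟨x1 + (-sbil (D *ᵥ x1) y) • (D *ᵥ x1), ?_, ?_, ?_⟩
    · have e : D ^ 2 *ᵥ (D *ᵥ x1) = 0 := by rw [hD2, hz]
      rw [mulVec_add, mulVec_smul, e, smul_zero, add_zero, hx1]
    · have e1 : sbil (D *ᵥ x1) (D *ᵥ x1) = 0 := sbil_self _
      have e2 : sbil (D *ᵥ (D *ᵥ x1)) x1 = 0 := by rw [← hD2, hz2]
      have e3 : sbil (D *ᵥ (D *ᵥ x1)) (D *ᵥ x1) = 0 := hz21 _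
      simp only [mulVec_add, mulVec_smul, sbil_add_left, sbil_add_right, sbil_smul_left, sbil_smul_right,
        ha, e1, e2, e3]
      ring
    · rw [mulVec_add, mulVec_smul, sbil_add_left, sbil_smul_left, ← hD2, hx1]
      ring
  refine ⟨x2 + (-sbil x2 y) • (D ^ 2 *ᵥ x2), y, ?_, ?_, ?_, hc, ?_⟩
  · have e : D ^ 2 *ᵥ (D ^ 2 *ᵥ x2) = 0 := by simp only [hD2, hz, mulVec_zero]
    rw [mulVec_add, mulVec_smul, e, smul_zero, add_zero, hx2]
  · rw [sbil_add_left, sbil_smul_left, hx2]; ring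
  · have e : D *ᵥ (D ^ 2 *ᵥ x2) = 0 := by rw [hD2, hz]
    rw [mulVec_add, mulVec_smul, e, smul_zero, add_zero, sbil_add_right, sbil_smul_right, ha2, hs]
    rw [e]; simp
  · have e : D *ᵥ (D ^ 2 *ᵥ x2) = 0 := by rw [hD2, hz]
    rw [mulVec_add, mulVec_smul, e, smul_zero, add_zero, hd]

theorem middle_conj (h2 : (2 : F) ≠ 0) {ε : F} (hε : ε ^ 2 = 1) {g g' : Sp6}
    (h3 : skewPart g ^ 3 = 0) (hn : skewPart g ^ 2 ≠ 0) (hN : symPart (2 * ε) g ^ 2 = 0)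
    (h3' : skewPart g' ^ 3 = 0) (hn' : skewPart g' ^ 2 ≠ 0) (hN' : symPart (2 * ε) g' ^ 2 = 0) :
    ∃ x : Sp6, x * g * x⁻¹ = g' := by
  obtain ⟨x, y, a1, a2, a3, a4, a5⟩ := exists_middle_frame h2 (skewPart_skew g) h3 hn
  obtain ⟨x', y', b1, b2, b3, b4, b5⟩ := exists_middle_frame h2 (skewPart_skew g') h3' hn'
  set G : M6 := Matrix.fromBlocks 0 !![0, 0, 1; 0, -1, 0; 1, 0, 0] !![0, 0, -1; 0, 1, 0; -1, 0, 0] 0 with hGdef
  have gram : ∀ {D : M6} {x y : V6}, (∀ u v, sbil (D *ᵥ u) v = -sbil u (D *ᵥ v)) → D ^ 3 = 0 →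
      sbil (D ^ 2 *ᵥ x) y = 1 → sbil x y = 0 → sbil (D *ᵥ x) x = 0 → sbil (D *ᵥ y) y = 0 →
      sbil (D *ᵥ x) y = 0 → ∀ i j, sbil (pairFrame D x y *ᵥ Pi.single i 1) (pairFrame D x y *ᵥ Pi.single j 1) =
        G i j := by
    intro D x y hs hz c1 c2 c3 c4 c5
    have hD2 : ∀ u, D ^ 2 *ᵥ u = D *ᵥ (D *ᵥ u) := fun u => by rw [sq, mulVec_mulVec]
    have hz' : ∀ u, D *ᵥ (D *ᵥ (D *ᵥ u)) = 0 := fun u => by
      rw [mulVec_mulVec, mulVec_mulVec, show D * D * D = D ^ 3 by rw [pow_succ, sq], hz, zero_mulVec]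
    have half : ∀ {a : F}, a = -a → a = 0 := fun {a} h =>
      (mul_eq_zero.1 (show (2 : F) * a = 0 by linear_combination h)).resolve_left h2
    have hz2 : ∀ u, sbil (D *ᵥ (D *ᵥ u)) u = 0 := fun u => half (by
      conv_lhs => rw [hs, hs, neg_neg, sbil_swap])
    have s1 : ∀ u v, sbil u (D *ᵥ v) = -sbil (D *ᵥ u) v := fun u v => by rw [hs, neg_neg]
    have c6 : sbil y x = 0 := by rw [sbil_swap, c2, neg_zero]
    have c7 : sbil (D *ᵥ y) x = 0 := by rw [hs, sbil_swap, c5, neg_zero, neg_zero]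
    have c8 : sbil (D *ᵥ (D *ᵥ x)) y = 1 := by rw [← hD2, c1]
    have c9 : sbil (D *ᵥ (D *ᵥ y)) x = -1 := by rw [hs, hs, neg_neg, sbil_swap, c8]
    intro i j
    rcases i with i | i <;> rcases j with j | j <;> simp only [pairFrame_inl, pairFrame_inr] <;>
      fin_cases i <;> fin_cases j <;>
      simp [G, -mulVec_mulVec, hD2, s1, hz', hz2, c2, c3, c4, c5, c6, c7, c8, c9]
  set A := pairFrame (skewPart g) x y with hA
  set A' := pairFrame (skewPart g') x' y' with hA'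
  have hGA := gram (skewPart_skew g) h3 a1 a2 a3 a4 a5
  have hGA' := gram (skewPart_skew g') h3' b1 b2 b3 b4 b5
  have hinj : ∀ u, A *ᵥ u = 0 → u = 0 := by
    intro u hu
    have h0 : ∀ i, ∑ j, G i j * u j = 0 := fun i => by
      have := congrArg (fun w => sForm F 3 (A *ᵥ Pi.single i 1) w) hu
      simp only [map_zero] at this
      rw [pi_eq_sum_univ' u, mulVec_sum, map_sum] at this
      simp only [mulVec_smul, map_smul, smul_eq_mul, sForm_apply, hA, hGA] at this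
      rw [← this]
      exact Finset.sum_congr rfl fun j _ => mul_comm _ _
    have e0 := h0 (.inl 0); have e1 := h0 (.inl 1); have e2 := h0 (.inl 2)
    have e3 := h0 (.inr 0); have e4 := h0 (.inr 1); have e5 := h0 (.inr 2)
    simp [G, Fintype.sum_sum_type, Fin.sum_univ_three] at e0 e1 e2 e3 e4 e5
    funext i
    fin_cases i <;> simp [e0, e1, e2, e3, e4, e5]
  obtain ⟨P, hP⟩ := exists_sp_of_gram (A := A) (A' := A') (fun i j => by rw [hA, hA', hGA, hGA']) hinj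
  refine ⟨P, conj_eq ?_⟩
  have hPD : P.1 * skewPart g = skewPart g' * P.1 := by
    have key : ∀ {D : M6} {x y : V6}, D ^ 3 = 0 → D * pairFrame D x y = pairFrame D x y *
        Matrix.fromBlocks !![0, 0, 0; 1, 0, 0; 0, 1, 0] 0 0 !![0, 0, 0; 1, 0, 0; 0, 1, 0] := by
      intro D x y hz
      ext i j
      have e : (D * pairFrame D x y) i j = (D *ᵥ (pairFrame D x y *ᵥ Pi.single j 1)) i := by
        rw [mulVec_mulVec, mulVec_single_one]; rfl
      rw [e]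
      rcases j with k | k <;> simp only [pairFrame_inl, pairFrame_inr] <;>
        fin_cases k <;> simp [mulVec_mulVec, ← pow_succ', ← sq, hz, Matrix.mul_apply,
        Fintype.sum_sum_type, Fin.sum_univ_three, pairFrame]
    have hu : IsUnit A := mulVec_injective_iff_isUnit.1 fun a b hab => by
      rw [← sub_eq_zero]
      exact hinj _ (by rw [mulVec_sub]; exact sub_eq_zero.2 hab)
    refine hu.mul_right_cancel ?_
    rw [mul_assoc, hA, key h3, ← mul_assoc, ← hA, hP, hA', ← key h3', ← hA', mul_assoc, hP]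
  have hPD2 : P.1 * skewPart g ^ 2 = skewPart g' ^ 2 * P.1 := by
    rw [sq, sq, ← mul_assoc, hPD, mul_assoc, hPD, ← mul_assoc]
  rw [eq_of_parts ε h2 hε hN, eq_of_parts ε h2 hε hN']
  simp only [mul_add, add_mul, Matrix.mul_smul, Matrix.smul_mul, hPD, hPD2, mul_one, one_mul]

/-! ### The regular classes -/

theorem exists_regular_vector (h2 : (2 : F) ≠ 0) {t : F} {g : Sp6} (h3 : symPart t g ^ 3 = 0)
    (hD : symPart t g ^ 2 * skewPart g ≠ 0) :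
    ∃ v c, c ≠ 0 ∧ sbil v (g.1 *ᵥ v) = 0 ∧ sbil (symPart t g *ᵥ v) (g.1 *ᵥ v) = 0 ∧
      sbil (symPart t g ^ 2 *ᵥ v) (g.1 *ᵥ v) = c := by
  set N := symPart t g with hN
  have hs : ∀ u v, sbil (N *ᵥ u) v = sbil u (N *ᵥ v) := symPart_self t g
  have hc : ∀ u, g.1 *ᵥ (N *ᵥ u) = N *ᵥ (g.1 *ᵥ u) := fun u => by
    rw [mulVec_mulVec, mulVec_mulVec, hN, symPart_comm]
  have hz : ∀ u, N *ᵥ (N *ᵥ (N *ᵥ u)) = 0 := fun u => by
    rw [mulVec_mulVec, mulVec_mulVec, show N * N * N = N ^ 3 by rw [pow_succ, sq], h3, zero_mulVec]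
  have hN2 : ∀ u, N ^ 2 *ᵥ u = N *ᵥ (N *ᵥ u) := fun u => by rw [sq, mulVec_mulVec]
  obtain ⟨v0, hv0⟩ : ∃ v, sbil (N ^ 2 *ᵥ v) (g.1 *ᵥ v) ≠ 0 := by
    by_contra hcon
    push Not at hcon
    refine hD (Matrix.ext_iff_mulVec.2 fun y => ?_)
    rw [zero_mulVec]
    refine sbil_ext fun x => ?_
    rw [sbil_zero_left]
    have h1 := hcon (x + y)
    simp only [mulVec_add, sbil_add_left, sbil_add_right, hcon x, hcon y, zero_add, add_zero] at h1
    have e1 : sbil (N ^ 2 *ᵥ y) (g.1 *ᵥ x) = -sbil (N ^ 2 *ᵥ x) ((g⁻¹).1 *ᵥ y) := by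
      rw [hN2, hN2, sbil_swap, ← hs, ← hs, ← hc, ← hc, sbil_inv_left]
    rw [e1] at h1
    rw [sbil_swap, neg_eq_zero, ← mulVec_mulVec, hN2, ← hs, ← hs, ← hN2, skewPart, sub_mulVec, sbil_sub_right]
    linear_combination h1
  set c2 := sbil (N ^ 2 *ᵥ v0) (g.1 *ᵥ v0)
  set c1 := sbil (N *ᵥ v0) (g.1 *ᵥ v0)
  set c0 := sbil v0 (g.1 *ᵥ v0)
  set α := -c1 / (2 * c2)
  set β := -(c0 + 2 * α * c1 + α ^ 2 * c2) / (2 * c2)
  have e2 : c2 = sbil (N *ᵥ (N *ᵥ v0)) (g.1 *ᵥ v0) := by rw [← hN2]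
  refine ⟨v0 + α • (N *ᵥ v0) + β • (N *ᵥ (N *ᵥ v0)), c2, hv0, ?_, ?_, ?_⟩
  all_goals
    simp only [hN2, mulVec_add, mulVec_smul, hc, hz, mulVec_zero, sbil_add_left, sbil_add_right,
      sbil_smul_left, sbil_smul_right, ← hs, sbil_zero_left, smul_zero, add_zero]
    rw [← e2]
  · simp only [α, β]; field_simp; ring
  · simp only [α]; field_simp; ring
  · ring

theorem regular_conj (h2 : (2 : F) ≠ 0) {t : F} {g g' : Sp6} (h3 : symPart t g ^ 3 = 0)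
    (h3' : symPart t g' ^ 3 = 0) {v v' : V6} {c : F} (hc : c ≠ 0)
    (a0 : sbil v (g.1 *ᵥ v) = 0) (a1 : sbil (symPart t g *ᵥ v) (g.1 *ᵥ v) = 0)
    (a2 : sbil (symPart t g ^ 2 *ᵥ v) (g.1 *ᵥ v) = c)
    (b0 : sbil v' (g'.1 *ᵥ v') = 0) (b1 : sbil (symPart t g' *ᵥ v') (g'.1 *ᵥ v') = 0)
    (b2 : sbil (symPart t g' ^ 2 *ᵥ v') (g'.1 *ᵥ v') = c) :
    ∃ x : Sp6, x * g * x⁻¹ = g' := by
  set G : M6 := Matrix.fromBlocks 0 !![0, 0, c; 0, c, 0; c, 0, 0] !![0, 0, -c; 0, -c, 0; -c, 0, 0] 0 with hGdef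
  have gram : ∀ {g : Sp6} {v : V6}, symPart t g ^ 3 = 0 → sbil v (g.1 *ᵥ v) = 0 →
      sbil (symPart t g *ᵥ v) (g.1 *ᵥ v) = 0 → sbil (symPart t g ^ 2 *ᵥ v) (g.1 *ᵥ v) = c →
      ∀ i j, sbil (pairFrame (symPart t g) v (g.1 *ᵥ v) *ᵥ Pi.single i 1)
        (pairFrame (symPart t g) v (g.1 *ᵥ v) *ᵥ Pi.single j 1) = G i j := by
    intro g v hz c0 c1 c2
    set N := symPart t g with hN
    have hs : ∀ u w, sbil u (N *ᵥ w) = sbil (N *ᵥ u) w := fun u w => (symPart_self t g u w).symm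
    have hN2 : ∀ u, N ^ 2 *ᵥ u = N *ᵥ (N *ᵥ u) := fun u => by rw [sq, mulVec_mulVec]
    have hz' : ∀ u, N *ᵥ (N *ᵥ (N *ᵥ u)) = 0 := fun u => by
      rw [mulVec_mulVec, mulVec_mulVec, show N * N * N = N ^ 3 by rw [pow_succ, sq], hz, zero_mulVec]
    have half : ∀ {a : F}, a = -a → a = 0 := fun {a} h =>
      (mul_eq_zero.1 (show (2 : F) * a = 0 by linear_combination h)).resolve_left h2
    have alt1 : ∀ u, sbil (N *ᵥ u) u = 0 := fun u => half (by conv_lhs => rw [← hs, sbil_swap])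
    have alt2 : ∀ u, sbil (N *ᵥ (N *ᵥ u)) u = 0 := fun u => half (by conv_lhs => rw [← hs, ← hs, sbil_swap])
    rw [hN2] at c2
    have d0 : sbil (g.1 *ᵥ v) v = 0 := by rw [sbil_swap, c0, neg_zero]
    have d1 : sbil (N *ᵥ (g.1 *ᵥ v)) v = 0 := by rw [← hs, sbil_swap, c1, neg_zero]
    have d2 : sbil (N *ᵥ (N *ᵥ (g.1 *ᵥ v))) v = -c := by rw [← hs, ← hs, sbil_swap, c2]
    intro i j
    rcases i with i | i <;> rcases j with j | j <;> simp only [pairFrame_inl, pairFrame_inr] <;>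
      fin_cases i <;> fin_cases j <;>
      simp [G, -mulVec_mulVec, hN2, hs, hz', alt1, alt2, c0, c1, c2, d0, d1, d2]
  set A := pairFrame (symPart t g) v (g.1 *ᵥ v) with hA
  set A' := pairFrame (symPart t g') v' (g'.1 *ᵥ v') with hA'
  have hGA := gram h3 a0 a1 a2
  have hGA' := gram h3' b0 b1 b2
  have hinj : ∀ u, A *ᵥ u = 0 → u = 0 := by
    intro u hu
    have h0 : ∀ i, ∑ j, G i j * u j = 0 := fun i => by
      have := congrArg (fun w => sForm F 3 (A *ᵥ Pi.single i 1) w) hu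
      simp only [map_zero] at this
      rw [pi_eq_sum_univ' u, mulVec_sum, map_sum] at this
      simp only [mulVec_smul, map_smul, smul_eq_mul, sForm_apply, hA, hGA] at this
      rw [← this]
      exact Finset.sum_congr rfl fun j _ => mul_comm _ _
    have e0 := h0 (.inl 0); have e1 := h0 (.inl 1); have e2 := h0 (.inl 2)
    have e3 := h0 (.inr 0); have e4 := h0 (.inr 1); have e5 := h0 (.inr 2)
    simp [G, Fintype.sum_sum_type, Fin.sum_univ_three, hc] at e0 e1 e2 e3 e4 e5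
    funext i
    fin_cases i <;> simp [e0, e1, e2, e3, e4, e5]
  obtain ⟨P, hP⟩ := exists_sp_of_gram (A := A) (A' := A') (fun i j => by rw [hA, hA', hGA, hGA']) hinj
  refine ⟨P, conj_eq ?_⟩
  have key : ∀ {g : Sp6} {v : V6}, symPart t g ^ 3 = 0 →
      g.1 * pairFrame (symPart t g) v (g.1 *ᵥ v) = pairFrame (symPart t g) v (g.1 *ᵥ v) *
        Matrix.fromBlocks 0 (-1) 1 !![t, 0, 0; 1, t, 0; 0, 1, t] := by
    intro g v hz
    set N := symPart t g with hN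
    have hcN : ∀ (k : ℕ) (u : V6), g.1 *ᵥ (N ^ k *ᵥ u) = N ^ k *ᵥ (g.1 *ᵥ u) := fun k u => by
      rw [mulVec_mulVec, mulVec_mulVec, ((show Commute g.1 N from symPart_comm t g).pow_right k).eq]
    have hgg : ∀ u, g.1 *ᵥ (g.1 *ᵥ u) = N *ᵥ (g.1 *ᵥ u) + t • (g.1 *ᵥ u) - u := fun u => by
      rw [mulVec_mulVec, g_g t g, sub_mulVec, add_mulVec, smul_mulVec, one_mulVec, ← mulVec_mulVec]
    ext i j
    have e : (g.1 * pairFrame N v (g.1 *ᵥ v)) i j = (g.1 *ᵥ (pairFrame N v (g.1 *ᵥ v) *ᵥ Pi.single j 1)) i := by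
      rw [mulVec_mulVec, mulVec_single_one]; rfl
    rw [e]
    have h31 : ∀ u, N ^ 3 *ᵥ u = 0 := fun u => by rw [hz, zero_mulVec]
    rcases j with k | k
    · rw [pairFrame_inl, hcN]
      fin_cases k <;> simp [Matrix.mul_apply, Fintype.sum_sum_type, Fin.sum_univ_three, pairFrame]
    · rw [pairFrame_inr, hcN, hgg, mulVec_sub, mulVec_add, mulVec_smul, mulVec_mulVec _ _ N, ← pow_succ]
      fin_cases k <;>
        simp [Matrix.mul_apply, Fintype.sum_sum_type, Fin.sum_univ_three, pairFrame, h31, mul_comm t] <;> ring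
  have hu : IsUnit A := mulVec_injective_iff_isUnit.1 fun a b hab => by
    rw [← sub_eq_zero]
    exact hinj _ (by rw [mulVec_sub]; exact sub_eq_zero.2 hab)
  refine hu.mul_right_cancel ?_
  rw [mul_assoc, hA, key h3, ← mul_assoc, ← hA, hP, hA', ← key h3', ← hA', mul_assoc, hP]

end CfsgLib.NCover2.Symp6
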