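import Cfsg.Agent.Lib.NCover2.SympPlane

/-! The normaliser of a cubic extension in `Sp₆` in characteristic three. -/

set_option autoImplicit false

namespace CfsgLib.NCover2.Symp6

open Polynomial Matrix CfsgLib.Classical

variable {F : Type*} [Field F]

local notation "V6" => (Fin 3 ⊕ Fin 3 → F)
local notation "M6" => Matrix (Fin 3 ⊕ Fin 3) (Fin 3 ⊕ Fin 3) F
local notation "Sp6" => Matrix.symplecticGroup (Fin 3) F

/-- Normalising the algebra generated by a matrix. -/
def Normalises (J : M6) (g : Sp6) : Prop := ∃ a : F[X], g.1 * J = aeval J a * g.1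

/-- The symmetric part of a transformation. -/
def symPart (t : F) (g : Sp6) : M6 := g.1 + (g⁻¹).1 - t • 1

/-- The skew part of a transformation. -/
def skewPart (g : Sp6) : M6 := g.1 - (g⁻¹).1

/-- The elements of the normaliser used for covering. -/
structure Model (F : Type*) [Field F] where
  /-- the polynomial -/
  f : F[X]
  /-- the generator -/
  J : Matrix (Fin 3 ⊕ Fin 3) (Fin 3 ⊕ Fin 3) F
  irr : Irreducible f
  deg : f.natDegree = 3
  root : aeval J f = 0
  selfAdj : ∀ x y, sbil (J *ᵥ x) y = sbil x (J *ᵥ y)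
  regular : ∀ t : F, ∃ k, Normalises J k ∧ symPart t k ^ 3 = 0 ∧ symPart t k ^ 2 ≠ 0
  middle : ∀ ε : F, ε ^ 2 = 1 → ∃ k, Normalises J k ∧ skewPart k ^ 3 = 0 ∧ skewPart k ^ 2 ≠ 0 ∧
    symPart (2 * ε) k ^ 2 = 0
  scaling : ∀ c : F, c ≠ 0 → ∃ S T : Matrix (Fin 3 ⊕ Fin 3) (Fin 3 ⊕ Fin 3) F,
    T * S = 1 ∧ S * J = J * S ∧ ∀ x y, sbil (S *ᵥ x) (S *ᵥ y) = c * sbil x y

theorem sp_inv_eq {k : Sp6} {L : M6} (h : k.1 * L = 1) : (k⁻¹).1 = L := by
  calc (k⁻¹).1 = (k⁻¹).1 * (k.1 * L) := by rw [h, mul_one]
    _ = (k⁻¹ * k).1 * L := by rw [← mul_assoc]; rfl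
    _ = L := by rw [inv_mul_cancel]; exact one_mul L

variable [Finite F] [CharP F 3]

theorem exists_model_aux (K : Type*) [Field K] [Algebra F K] [Finite K]
    (hdim : Module.finrank F K = 3) : Nonempty (Model F) := by
  haveI : Fact (Nat.Prime 3) := ⟨Nat.prime_three⟩
  haveI := Fintype.ofFinite F
  haveI := Fintype.ofFinite K
  haveI : Module.Finite F K := Module.Finite.of_finite
  haveI : CharP K 3 := charP_of_injective_algebraMap (algebraMap F K).injective 3
  have h3 : (3 : K) = 0 := by exact_mod_cast CharP.cast_eq_zero K 3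
  have h3F : (3 : F) = 0 := by exact_mod_cast CharP.cast_eq_zero F 3
  set Q := Nat.card F with hQ
  have hQ1 : 1 < Q := Finite.one_lt_card
  let ρ : K ≃ₐ[F] K := FiniteField.frobeniusAlgEquivOfAlgebraic F K
  have hρ : ∀ x, ρ x = x ^ Q := fun x => by rw [hQ, Nat.card_eq_fintype_card]; rfl
  have hρ3 : ∀ x, ρ (ρ (ρ x)) = x := fun x => by
    rw [hρ, hρ, hρ, ← pow_mul, ← pow_mul, show Q * (Q * Q) = Nat.card K by
      rw [Module.natCard_eq_pow_finrank (K := F), hdim, hQ]; ring, Nat.card_eq_fintype_card]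
    exact FiniteField.pow_card x
  have htr : ∀ x, algebraMap F K (Algebra.trace F K x) = x + ρ x + ρ (ρ x) := fun x => by
    rw [FiniteField.algebraMap_trace_eq_sum_pow, hdim, hρ, hρ, ← pow_mul]
    simp [Finset.sum_range_succ, hQ, sq]
  have htrρ : ∀ x, Algebra.trace F K (ρ x) = Algebra.trace F K x := fun x =>
    Algebra.trace_eq_of_algEquiv ρ x
  have htrc : ∀ c : F, Algebra.trace F K (algebraMap F K c) = 0 := fun c => by
    rw [Algebra.trace_algebraMap, hdim, nsmul_eq_mul]
    push_cast
    rw [h3F, zero_mul]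
  -- an element of nonzero second difference
  obtain ⟨z, hz⟩ : ∃ z : K, ρ (ρ z - z) ≠ ρ z - z := by
    by_contra hc
    push Not at hc
    set P : K[X] := X ^ (Q * Q) - C 2 * X ^ Q + X
    have hQQ : Q < Q * Q := lt_mul_of_one_lt_right (by omega) hQ1
    have hPc : P.coeff (Q * Q) = 1 := by
      simp only [P, coeff_add, coeff_sub, coeff_C_mul, coeff_X_pow, coeff_X]
      rw [if_neg (show ¬ Q * Q = Q by omega), if_neg (show ¬ 1 = Q * Q by omega)]
      simp
    have hP : P ≠ 0 := fun h' => by simp [h'] at hPc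
    have hroots := Polynomial.card_le_degree_of_subset_roots (p := P) (Z := Finset.univ) (fun x _ => by
      rw [mem_roots hP]
      have h1 := hc x
      rw [map_sub, hρ, hρ, ← pow_mul] at h1
      simp only [P, IsRoot, eval_add, eval_sub, eval_mul, eval_C, eval_pow, eval_X]
      linear_combination h1)
    have hdeg : P.natDegree ≤ Q * Q := by
      refine (natDegree_add_le _ _).trans (max_le ((natDegree_sub_le _ _).trans (max_le ?_ ?_)) ?_)
      · rw [natDegree_X_pow]
      · exact (natDegree_C_mul_le _ _).trans (by rw [natDegree_X_pow]; omega)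
      · rw [natDegree_X]; omega
    rw [Finset.card_univ, ← Nat.card_eq_fintype_card, Module.natCard_eq_pow_finrank (K := F), hdim,
      ← hQ] at hroots
    have h4 : Q * Q * 1 < Q * Q * Q := Nat.mul_lt_mul_of_pos_left hQ1 (by positivity)
    have h5 : Q ^ 3 = Q * Q * Q := by ring
    omega
  obtain ⟨θ, hθ⟩ : ∃ θ : K, θ ∉ Set.range (algebraMap F K) := ⟨ρ z - z, fun ⟨c, hc⟩ => hz (by
    rw [← hc, AlgEquiv.commutes])⟩
  have hint : IsIntegral F θ := .of_finite F θ
  have hfdeg : (minpoly F θ).natDegree = 3 := by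
    have hd : (minpoly F θ).natDegree ∣ 3 := hdim ▸ minpoly.degree_dvd hint
    rcases (Nat.dvd_prime Nat.prime_three).1 hd with h1 | h1
    · exact absurd (minpoly.natDegree_eq_one_iff.1 h1) hθ
    · exact h1
  -- coordinates
  let b : Module.Basis (Fin 3) F K := Module.finBasisOfFinrankEq F K hdim
  let bd : Module.Basis (Fin 3) F K :=
    LinearMap.BilinForm.dualBasis (Algebra.traceForm F K) (traceForm_nondegenerate F K) b
  have hbd : ∀ i j, Algebra.trace F K (bd i * b j) = if j = i then 1 else 0 := fun i j =>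
    LinearMap.BilinForm.apply_dualBasis_left (traceForm_nondegenerate F K) b i j
  let E : (K × K) ≃ₗ[F] V6 :=
    (b.equivFun.prodCongr bd.equivFun).trans (LinearEquiv.sumArrowLequivProdArrow (Fin 3) (Fin 3) F F).symm
  have hpair : ∀ x y : K, Algebra.trace F K (x * y) = ∑ i, bd.equivFun x i * b.equivFun y i := by
    intro x y
    conv_lhs => rw [← bd.sum_equivFun x, ← b.sum_equivFun y]
    simp only [Finset.sum_mul, Finset.mul_sum, map_sum, smul_mul_assoc, mul_smul_comm, map_smul,
      smul_eq_mul, hbd]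
    simp [mul_comm]
  have hEl : ∀ x i, E x (.inl i) = b.equivFun x.1 i := fun x i => rfl
  have hEr : ∀ x i, E x (.inr i) = bd.equivFun x.2 i := fun x i => rfl
  have hE : ∀ x y : K × K, sbil (E x) (E y) = Algebra.trace F K (x.2 * y.1 - y.2 * x.1) := by
    intro x y
    rw [sbil_apply, map_sub, hpair, hpair, ← Finset.sum_sub_distrib]
    simp only [hEl, hEr]
    exact Finset.sum_congr rfl fun i _ => by ring
  let toM : Module.End F (K × K) →ₐ[F] M6 :=
    (LinearMap.toMatrixAlgEquiv' : Module.End F V6 ≃ₐ[F] _).toAlgHom.comp (E.conjAlgEquiv F).toAlgHom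
  have htoM : ∀ (T : Module.End F (K × K)) (x : K × K), toM T *ᵥ E x = E (T x) := fun T x => by
    show LinearMap.toMatrix' ((E.conjAlgEquiv F) T) *ᵥ E x = _
    rw [LinearMap.toMatrix'_mulVec]
    show E (T (E.symm (E x))) = _
    rw [E.symm_apply_apply]
  have hinjM : ∀ {T : Module.End F (K × K)}, toM T = 0 → T = 0 := fun {T} h0 =>
    LinearMap.ext fun x => E.injective (by rw [← htoM, h0, zero_mulVec, LinearMap.zero_apply, map_zero])
  have mkSp : ∀ T : Module.End F (K × K), (∀ x y : K × K, Algebra.trace F K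
      ((T x).2 * (T y).1 - (T y).2 * (T x).1) = Algebra.trace F K (x.2 * y.1 - y.2 * x.1)) →
      ∃ k : Sp6, k.1 = toM T := by
    intro T hT
    refine ⟨⟨toM T, mem_symplecticGroup_iff_sbil.2 fun u v => ?_⟩, rfl⟩
    obtain ⟨x, rfl⟩ := E.surjective u
    obtain ⟨y, rfl⟩ := E.surjective v
    rw [htoM, htoM, hE, hE, hT]
  let L : K →ₐ[F] Module.End F (K × K) := Algebra.lsmul F F (K × K)
  have hLapp : ∀ (a : K) (x : K × K), L a x = (a * x.1, a * x.2) := fun a x => rfl
  -- the linear maps
  let Mlin : K → K → K → K → Module.End F (K × K) := fun a b c d =>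
    (((LinearMap.mulLeft F a).comp (LinearMap.fst F K K)) + ((LinearMap.mulLeft F b).comp (LinearMap.snd F K K))).prod
      (((LinearMap.mulLeft F c).comp (LinearMap.fst F K K)) + ((LinearMap.mulLeft F d).comp (LinearMap.snd F K K)))
  have hM : ∀ a b c d x, Mlin a b c d x = (a * x.1 + b * x.2, c * x.1 + d * x.2) := fun a b c d x => rfl
  let P : Module.End F (K × K) := ρ.toLinearMap.prodMap ρ.toLinearMap
  have hP : ∀ x, P x = (ρ x.1, ρ x.2) := fun x => rfl
  have hform : ∀ (a b c d : K), a * d - b * c = 1 → ∀ x y : K × K, Algebra.trace F K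
      (((Mlin a b c d * P) x).2 * ((Mlin a b c d * P) y).1 - ((Mlin a b c d * P) y).2 * ((Mlin a b c d * P) x).1)
      = Algebra.trace F K (x.2 * y.1 - y.2 * x.1) := by
    intro a b c d hdet x y
    rw [← htrρ (x.2 * y.1 - y.2 * x.1)]
    congr 1
    simp only [Module.End.mul_apply, hM, hP, map_sub, map_mul ρ]
    linear_combination (ρ x.2 * ρ y.1 - ρ y.2 * ρ x.1) * hdet
  have hnorm : ∀ (a b c d : K) (k : Sp6), k.1 = toM (Mlin a b c d * P) → Normalises (toM (L θ)) k := by
    intro a b c d k hk
    refine ⟨X ^ Q, ?_⟩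
    rw [hk, map_pow, aeval_X, ← map_pow, ← map_pow, ← map_mul toM, ← map_mul toM]
    congr 1
    refine LinearMap.ext fun x => ?_
    simp only [Module.End.mul_apply, hLapp, hP, hM, map_mul ρ, hρ θ]
    refine Prod.ext ?_ ?_ <;> ring
  have hk : ∀ (a b c d : K), a * d - b * c = 1 → ∃ k : Sp6, Normalises (toM (L θ)) k ∧
      k.1 = toM (Mlin a b c d * P) ∧
      (k⁻¹).1 = toM (P * (P * Mlin d (-b) (-c) a)) := by
    intro a b c d hdet
    obtain ⟨k, hk⟩ := mkSp _ (hform a b c d hdet)
    refine ⟨k, hnorm a b c d k hk, hk, sp_inv_eq ?_⟩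
    rw [hk, ← map_mul, ← map_one toM]
    congr 1
    refine LinearMap.ext fun x => ?_
    simp only [Module.End.mul_apply, Module.End.one_apply, hP, hM, hρ3]
    refine Prod.ext ?_ ?_
    · show _ = x.1
      linear_combination x.1 * hdet
    · show _ = x.2
      linear_combination x.2 * hdet
  have hsym : ∀ (t : F) (k : Sp6) (A B : Module.End F (K × K)), k.1 = toM A → (k⁻¹).1 = toM B →
      symPart t k = toM (A + B - t • 1) := fun t k A B h1 h2 => by
    rw [symPart, h1, h2, map_sub, map_add, map_smul, map_one]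
  refine ⟨{
    f := minpoly F θ
    J := toM (L θ)
    irr := minpoly.irreducible hint
    deg := hfdeg
    root := by rw [aeval_algHom_apply, aeval_algHom_apply, minpoly.aeval, map_zero, map_zero]
    selfAdj := fun u v => by
      obtain ⟨x, rfl⟩ := E.surjective u
      obtain ⟨y, rfl⟩ := E.surjective v
      rw [htoM, htoM, hE, hE, hLapp, hLapp]
      congr 1
      dsimp only
      ring
    regular := fun t => ?_
    middle := fun ε hε => ?_
    scaling := fun c hc => ?_ }⟩
  · by_cases ht : t ^ 2 = 1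
    · -- the eigenvalue is a sign
      set ε : K := algebraMap F K (2 * t) with hεdef
      have hεε : ε * ε = 1 := by
        rw [hεdef, ← map_mul, ← map_one (algebraMap F K)]
        congr 1; linear_combination 4 * ht + h3F
      have hρε : ρ ε = ε := ρ.commutes _
      have ht2 : algebraMap F K t = 2 * ε := by
        rw [hεdef, map_mul, map_ofNat]
        linear_combination (-algebraMap F K t) * h3
      set y : K := ρ z - z with hy
      obtain ⟨a, ha⟩ : ∃ a : K, Algebra.trace F K (a * (ρ y - y)) ≠ 0 := by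
        by_contra hc
        push Not at hc
        exact sub_ne_zero.2 hz ((traceForm_nondegenerate F K).1 _ fun a => by
          rw [Algebra.traceForm_apply, mul_comm]; exact hc a)
      obtain ⟨k, hnk, hk1, hk2⟩ := hk ε (ε * a) 0 ε (by rw [hεε]; ring)
      refine ⟨k, hnk, ?_⟩
      rw [hsym t k _ _ hk1 hk2, ← map_pow, ← map_pow]
      set T := fun w : K => algebraMap F K (Algebra.trace F K w) with hT
      set N : Module.End F (K × K) :=
        Mlin ε (ε * a) 0 ε * P + P * (P * Mlin ε (-(ε * a)) (-0) ε) - t • 1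
      set φ := fun w : K => a * ρ w - ρ (ρ a) * ρ (ρ w) with hφ
      have hN : ∀ x : K × K, N x = (ε * (T x.1 + φ x.2), ε * T x.2) := by
        intro x
        simp only [N, LinearMap.sub_apply, LinearMap.add_apply, Module.End.mul_apply, LinearMap.smul_apply,
          Module.End.one_apply, hP, hM, map_add, map_mul ρ, map_neg, map_zero, neg_zero, hρε, hT, htr, hφ]
        refine Prod.ext ?_ ?_
        · simp only [Prod.fst_sub, Prod.fst_add, Prod.smul_fst]
          rw [Algebra.smul_def, ht2]
          linear_combination (-ε * x.1) * h3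
        · simp only [Prod.snd_sub, Prod.snd_add, Prod.smul_snd]
          rw [Algebra.smul_def, ht2]
          linear_combination (-ε * x.2) * h3
      have hTε : ∀ w, T (ε * w) = ε * T w := fun w => by
        show algebraMap F K (Algebra.trace F K (ε * w)) = ε * algebraMap F K (Algebra.trace F K w)
        rw [hεdef, ← Algebra.smul_def, map_smul, smul_eq_mul, map_mul]
      have hTT : ∀ w, T (T w) = 0 := fun w => by simp only [hT, htrc, map_zero]
      have hTadd : ∀ v w, T (v + w) = T v + T w := fun v w => by simp only [hT, map_add]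
      have hρT : ∀ w, ρ (T w) = T w := fun w => ρ.commutes _
      have hTφT : ∀ w, T (φ (T w)) = 0 := fun w => by
        simp only [hφ, hρT]
        simp only [hT]
        rw [show a * algebraMap F K (Algebra.trace F K w) - ρ (ρ a) * algebraMap F K (Algebra.trace F K w)
          = Algebra.trace F K w • (a - ρ (ρ a)) by rw [Algebra.smul_def]; ring, map_smul, map_sub,
          htrρ, htrρ, sub_self, smul_zero, map_zero]
      have hN2 : ∀ x : K × K, (N ^ 2) x = (T (φ x.2) + φ (T x.2), 0) := by
        intro x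
        rw [sq, Module.End.mul_apply, hN, hN]
        dsimp only
        have e : φ (ε * T x.2) = ε * φ (T x.2) := by simp only [hφ, map_mul ρ, hρε]; ring
        rw [e, hTε, hTε, hTadd, hTT, hTT, zero_add, mul_zero, mul_zero]
        refine Prod.ext ?_ rfl
        show ε * (ε * T (φ x.2) + ε * φ (T x.2)) = _
        linear_combination (T (φ x.2) + φ (T x.2)) * hεε
      have hN3 : N ^ 3 = 0 := LinearMap.ext fun x => by
        rw [pow_succ', Module.End.mul_apply, hN2, hN, hTadd, hTT, hTφT, zero_add]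
        simp [hT, hφ]
      refine ⟨by rw [hN3, map_zero], fun hc => ?_⟩
      · have h2 := LinearMap.congr_fun (hinjM hc) (0, y)
        rw [hN2, LinearMap.zero_apply] at h2
        have h3' := congrArg Prod.fst h2
        have hTy : T y = 0 := by simp only [hT, hy, map_sub, htrρ, sub_self, map_zero]
        simp only [hTy] at h3'
        simp only [hφ, map_zero, mul_zero, sub_zero, add_zero, Prod.fst_zero] at h3'
        simp only [hT, map_eq_zero, map_sub] at h3'
        rw [← map_sub (algebraMap F K), map_eq_zero] at h3'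
        apply ha
        rw [mul_sub, map_sub, ← htrρ (a * y), ← htrρ (ρ (a * y)), map_mul ρ, map_mul ρ]
        exact h3'
    · -- a generic eigenvalue
      obtain ⟨k, hnk, hk1, hk2⟩ := hk 0 (-1) 1 (algebraMap F K t) (by ring)
      refine ⟨k, hnk, ?_⟩
      rw [hsym t k _ _ hk1 hk2, ← map_pow, ← map_pow]
      set τ := algebraMap F K t
      have hρτ : ρ τ = τ := ρ.commutes _
      set N : Module.End F (K × K) :=
        Mlin 0 (-1) 1 τ * P + P * (P * Mlin τ (-(-1)) (-1) 0) - t • 1
      set D := fun w : K => ρ w - w with hD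
      have hN : ∀ x : K × K, N x = (τ * (ρ (ρ x.1) - x.1) + (ρ (ρ x.2) - ρ x.2),
          (ρ x.1 - ρ (ρ x.1)) + τ * (ρ x.2 - x.2)) := by
        intro x
        simp only [N, LinearMap.sub_apply, LinearMap.add_apply, Module.End.mul_apply, LinearMap.smul_apply,
          Module.End.one_apply, hP, hM, map_add, map_mul ρ, map_neg, map_zero, map_one, neg_neg, neg_zero, hρτ]
        refine Prod.ext ?_ ?_
        · simp only [Prod.fst_sub, Prod.fst_add, Prod.smul_fst]
          rw [Algebra.smul_def]
          ring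
        · simp only [Prod.snd_sub, Prod.snd_add, Prod.smul_snd]
          rw [Algebra.smul_def]
          ring
      have hN2 : ∀ x : K × K, (N ^ 2) x = ((τ ^ 2 - 1) * D (D x.1), (τ ^ 2 - 1) * D (D x.2)) := by
        intro x
        rw [sq, Module.End.mul_apply, hN, hN]
        simp only [hD, map_add, map_sub, map_mul ρ, hρτ, hρ3]
        refine Prod.ext ?_ ?_
        · show _ = (τ ^ 2 - 1) * (ρ (ρ x.1) - ρ x.1 - (ρ x.1 - x.1))
          linear_combination (τ ^ 2 * (ρ x.1 - ρ (ρ x.1)) + τ * (ρ x.2 - ρ (ρ x.2)) + (x.1 - ρ x.1)) * h3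
        · show _ = (τ ^ 2 - 1) * (ρ (ρ x.2) - ρ x.2 - (ρ x.2 - x.2))
          linear_combination (τ * (ρ (ρ x.1) - ρ x.1) + (x.2 - ρ x.2)) * h3
      have hτ : τ ^ 2 - 1 ≠ 0 := by
        rw [← map_pow, ← map_one (algebraMap F K), ← map_sub, _root_.map_ne_zero, sub_ne_zero]
        exact ht
      have hN3 : N ^ 3 = 0 := LinearMap.ext fun x => by
        rw [pow_succ', Module.End.mul_apply, hN2, hN]
        simp only [hD, map_sub, map_mul ρ, map_pow, map_one, hρτ, hρ3, LinearMap.zero_apply]
        refine Prod.ext ?_ ?_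
        · show _ = (0 : K)
          linear_combination (τ ^ 2 - 1) * (τ * (ρ x.1 - x.1) + (x.2 - ρ (ρ x.2)) + 2 * (ρ (ρ x.2) - x.2)) * h3
        · show _ = (0 : K)
          linear_combination (τ ^ 2 - 1) * ((ρ (ρ x.1) - x.1) + τ * (x.2 - ρ (ρ x.2)) + (2 * (x.1 - ρ (ρ x.1)) + τ * (ρ x.2 - x.2))) * h3
      refine ⟨by rw [hN3, map_zero], fun hc => ?_⟩
      · have h2 := congrArg Prod.fst (LinearMap.congr_fun (hinjM hc) (z, 0))
        rw [hN2] at h2
        exact sub_ne_zero.2 hz ((mul_eq_zero.1 h2).resolve_left hτ)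
  · set e : K := algebraMap F K ε with he
    have hee : e * e = 1 := by rw [he, ← map_mul, ← sq, hε, map_one]
    have hρe : ρ e = e := ρ.commutes _
    obtain ⟨k, hnk, hk1, hk2⟩ := hk e 0 0 e (by rw [hee]; ring)
    refine ⟨k, hnk, ?_⟩
    set A := Mlin e 0 0 e * P
    set B := P * (P * Mlin e (-0) (-0) e)
    have hA : ∀ x : K × K, A x = (e * ρ x.1, e * ρ x.2) := fun x => by
      simp only [A, Module.End.mul_apply, hP, hM, zero_mul, add_zero, zero_add]
    have hB : ∀ x : K × K, B x = (e * ρ (ρ x.1), e * ρ (ρ x.2)) := fun x => by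
      simp only [B, Module.End.mul_apply, hP, hM, neg_zero, zero_mul, add_zero, zero_add, map_mul ρ, hρe]
    have hskew : skewPart k = toM (A - B) := by rw [skewPart, hk1, hk2, map_sub]
    rw [hskew, hsym (2 * ε) k _ _ hk1 hk2, ← map_pow, ← map_pow, ← map_pow]
    set D := fun w : K => ρ w - w with hD
    have hD2 : ∀ x : K × K, ((A - B) ^ 2) x = (D (D x.1), D (D x.2)) := by
      intro x
      simp only [sq, Module.End.mul_apply, LinearMap.sub_apply, hA, hB, hD, map_sub, map_mul ρ, hρe, hρ3,
        Prod.fst_sub, Prod.snd_sub]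
      refine Prod.ext ?_ ?_
      · show _ = ρ (ρ x.1) - ρ x.1 - (ρ x.1 - x.1)
        simp only [Prod.fst_sub]
        linear_combination (ρ (ρ x.1) + ρ x.1 - 2 * x.1) * hee + (ρ x.1 - x.1) * h3
      · show _ = ρ (ρ x.2) - ρ x.2 - (ρ x.2 - x.2)
        simp only [Prod.snd_sub]
        linear_combination (ρ (ρ x.2) + ρ x.2 - 2 * x.2) * hee + (ρ x.2 - x.2) * h3
    have hD3 : (A - B) ^ 3 = 0 := LinearMap.ext fun x => by
      rw [pow_succ, Module.End.mul_apply, hD2, LinearMap.sub_apply, hA, hB]
      simp only [hD, map_sub, map_mul ρ, hρe, hρ3, Prod.fst_sub, Prod.snd_sub, LinearMap.zero_apply]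
      refine Prod.ext ?_ ?_
      · show _ = (0 : K)
        linear_combination e * (x.1 - ρ (ρ x.1)) * h3
      · show _ = (0 : K)
        linear_combination e * (x.2 - ρ (ρ x.2)) * h3
    have hN : (A + B - (2 * ε) • 1) ^ 2 = 0 := LinearMap.ext fun x => by
      simp only [sq, Module.End.mul_apply, LinearMap.sub_apply, LinearMap.add_apply, hA, hB,
        LinearMap.smul_apply, Module.End.one_apply, LinearMap.zero_apply]
      refine Prod.ext ?_ ?_ <;>
        simp only [Prod.fst_sub, Prod.fst_add, Prod.smul_fst, Prod.snd_sub, Prod.snd_add, Prod.smul_snd] <;>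
        simp only [Algebra.smul_def, map_mul, map_ofNat, map_add, map_sub, hρe, hρ3, ← he, AlgEquiv.commutes,
          Prod.fst_zero, Prod.snd_zero]
      · linear_combination (e * e * (2 * x.1 - ρ x.1 - ρ (ρ x.1))) * h3
      · linear_combination (e * e * (2 * x.2 - ρ x.2 - ρ (ρ x.2))) * h3
    refine ⟨by rw [hD3, map_zero], fun hc => ?_, by rw [hN, map_zero]⟩
    have h2 := congrArg Prod.fst (LinearMap.congr_fun (hinjM hc) (z, 0))
    rw [hD2] at h2
    exact sub_ne_zero.2 hz h2
  · refine ⟨toM (Mlin 1 0 0 (algebraMap F K c)), toM (Mlin 1 0 0 (algebraMap F K c⁻¹)), ?_, ?_, fun u v => ?_⟩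
    · rw [← map_mul, ← map_one toM]
      congr 1
      refine LinearMap.ext fun x => ?_
      simp only [Module.End.mul_apply, hM, Module.End.one_apply, zero_mul, add_zero, zero_add, one_mul,
        ← mul_assoc, ← map_mul, inv_mul_cancel₀ hc, map_one]
    · rw [← map_mul toM, ← map_mul toM]
      congr 1
      refine LinearMap.ext fun x => ?_
      simp only [Module.End.mul_apply, hLapp, hM]
      refine Prod.ext ?_ ?_ <;> ring
    · obtain ⟨x, rfl⟩ := E.surjective u
      obtain ⟨y, rfl⟩ := E.surjective v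
      rw [htoM, htoM, hE, hE, hM, hM]
      conv_rhs => rw [← smul_eq_mul, ← map_smul, Algebra.smul_def]
      congr 1
      dsimp only
      ring

theorem exists_model : Nonempty (Model F) := by
  haveI : Fact (Nat.Prime 3) := ⟨Nat.prime_three⟩
  haveI : Finite (FiniteField.Extension F 3 3) := Module.finite_of_finite F
  exact exists_model_aux (FiniteField.Extension F 3 3) (FiniteField.finrank_extension F 3 3)

end CfsgLib.NCover2.Symp6
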