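import Cfsg.Agent.Lib.NCover2.Basic
import Cfsg.Agent.Lib.Classical.SympSimple
import Cfsg.Agent.Lib.Geometry.SymplecticBasis

/-! Invariant non-degenerate planes of symplectic transformations. -/

set_option autoImplicit false

namespace CfsgLib.NCover2.Symp6

open Matrix CfsgLib.Classical

variable {F : Type*} [Field F] {m : ℕ}

local notation "VV" => (Fin m ⊕ Fin m → F)
local notation "Sp" => Matrix.symplecticGroup (Fin m) F

theorem sbil_neg_left (u v : VV) : sbil (-u) v = -sbil u v := by
  rw [← neg_one_smul F u, sbil_smul_left, neg_one_mul]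

theorem sbil_neg_right (u v : VV) : sbil u (-v) = -sbil u v := by
  rw [← neg_one_smul F v, sbil_smul_right, neg_one_mul]

/-- An invariant hyperbolic pair. -/
def HasPlane (g : Sp) : Prop :=
  ∃ x y : VV, sbil x y = 1 ∧ g.1 *ᵥ x ∈ Submodule.span F {x, y} ∧ g.1 *ᵥ y ∈ Submodule.span F {x, y}

/-- The stabiliser of a plane. -/
def planeStab (P : Submodule F VV) : Subgroup Sp where
  carrier := {g | ∀ x ∈ P, g.1 *ᵥ x ∈ P ∧ (g⁻¹).1 *ᵥ x ∈ P}
  mul_mem' {a b} ha hb := fun x hx => by
    rw [_root_.mul_inv_rev, sp_mul_mulVec, sp_mul_mulVec]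
    exact ⟨(ha _ (hb x hx).1).1, (hb _ (ha x hx).2).2⟩
  one_mem' := fun x hx => by rw [inv_one, sp_one_mulVec]; exact ⟨hx, hx⟩
  inv_mem' {a} ha := fun x hx => by rw [inv_inv]; exact (ha x hx).symm

theorem mem_planeStab_of_le {P : Submodule F VV} {g : Sp} (h : ∀ x ∈ P, g.1 *ᵥ x ∈ P) :
    g ∈ planeStab P := fun x hx => by
  refine ⟨h x hx, ?_⟩
  have hinj : Function.Injective (Matrix.mulVecLin g.1) := fun a b hab => by
    simp only [mulVecLin_apply] at hab
    rw [← sp_inv_mulVec g a, hab, sp_inv_mulVec]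
  have heq : P.map (Matrix.mulVecLin g.1) = P :=
    Submodule.eq_of_le_of_finrank_eq (Submodule.map_le_iff_le_comap.2 h)
      (Submodule.equivMapOfInjective _ hinj P).finrank_eq.symm
  rw [← heq] at hx
  obtain ⟨z, hz, rfl⟩ := Submodule.mem_map.1 hx
  rw [mulVecLin_apply, sp_inv_mulVec]
  exact hz

theorem span_pair_closed {A : Matrix (Fin m ⊕ Fin m) (Fin m ⊕ Fin m) F} {x y : VV}
    {P : Submodule F VV} (hx : A *ᵥ x ∈ P) (hy : A *ᵥ y ∈ P) {z : VV}
    (hz : z ∈ Submodule.span F ({x, y} : Set VV)) : A *ᵥ z ∈ P := by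
  obtain ⟨a, b, rfl⟩ := Submodule.mem_span_pair.1 hz
  rw [mulVec_add, mulVec_smul, mulVec_smul]
  exact add_mem (P.smul_mem _ hx) (P.smul_mem _ hy)

/-- An invariant plane can be moved to a fixed one. -/
theorem HasPlane.conj {g : Sp} (hg : HasPlane g) {e f : VV} (hef : sbil e f = 1) :
    ∃ x : Sp, x * g * x⁻¹ ∈ planeStab (Submodule.span F {e, f}) := by
  obtain ⟨u, v, huv, hgu, hgv⟩ := hg
  obtain ⟨x, hxu, hxv⟩ := sp_transitive_pair huv hef
  refine ⟨x, mem_planeStab_of_le fun z hz => ?_⟩
  have hxe : (x⁻¹).1 *ᵥ e = u ∧ (x⁻¹).1 *ᵥ f = v := by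
    rw [← hxu, ← hxv, sp_inv_mulVec, sp_inv_mulVec]; exact ⟨rfl, rfl⟩
  have hmap : ∀ w ∈ Submodule.span F ({u, v} : Set VV), x.1 *ᵥ w ∈ Submodule.span F ({e, f} : Set VV) :=
    fun w hw => span_pair_closed (by rw [hxu]; exact Submodule.subset_span (by simp))
      (by rw [hxv]; exact Submodule.subset_span (by simp)) hw
  rw [sp_mul_mulVec, sp_mul_mulVec]
  refine hmap _ (span_pair_closed hgu hgv ?_)
  exact span_pair_closed (by rw [hxe.1]; exact Submodule.subset_span (by simp))
    (by rw [hxe.2]; exact Submodule.subset_span (by simp)) hz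

/-- The orthogonal of a subspace. -/
def orth (W : Submodule F VV) : Submodule F VV where
  carrier := {z | ∀ w ∈ W, sbil w z = 0}
  add_mem' {a b} ha hb w hw := by rw [sbil_add_right, ha w hw, hb w hw, add_zero]
  zero_mem' w _ := sbil_zero_right w
  smul_mem' c z hz w hw := by rw [sbil_smul_right, hz w hw, mul_zero]

theorem mem_orth {W : Submodule F VV} {z : VV} : z ∈ orth W ↔ ∀ w ∈ W, sbil w z = 0 := Iff.rfl

theorem finrank_orth (W : Submodule F VV) :
    Module.finrank F VV ≤ Module.finrank F W + Module.finrank F (orth W) := by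
  let L : VV →ₗ[F] (W →ₗ[F] F) :=
    { toFun := fun z =>
        { toFun := fun w => sbil (w : VV) z
          map_add' := fun a b => by simp [sbil_add_left]
          map_smul' := fun c a => by simp [sbil_smul_left] }
      map_add' := fun a b => by ext w; simp [sbil_add_right]
      map_smul' := fun c a => by ext w; simp [sbil_smul_right] }
  have hker : LinearMap.ker L = orth W := by
    ext z
    rw [LinearMap.mem_ker, mem_orth]
    exact ⟨fun h w hw => LinearMap.congr_fun h ⟨w, hw⟩, fun h => LinearMap.ext fun w => h _ w.2⟩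
  have h1 := LinearMap.finrank_range_add_finrank_ker L
  have h2 := Submodule.finrank_le (LinearMap.range L)
  rw [Module.finrank_linearMap_self] at h2
  rw [hker] at h1
  omega

/-- A space with a non-degenerate alternating form has even dimension. -/
theorem even_finrank {V : Type*} [AddCommGroup V] [Module F V] [FiniteDimensional F V]
    (B : LinearMap.BilinForm F V) (hA : B.IsAlt) (hB : ∀ x, (∀ y, B x y = 0) → x = 0) :
    Even (Module.finrank F V) := by
  obtain ⟨r, k, b, -, -, -, h4⟩ := CfsgLib.Geometry.exists_sympBasis_aux (Module.finrank F V) rfl B hA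
  have hk : k = 0 := by
    by_contra hk
    exact b.ne_zero (Sum.inr ⟨0, Nat.pos_of_ne_zero hk⟩) (hB _ (h4 _))
  subst hk
  rw [Module.finrank_eq_card_basis b]
  exact ⟨r, by simp⟩

/-- The form as a bilinear map. -/
def sForm (F : Type*) [Field F] (m : ℕ) : LinearMap.BilinForm F (Fin m ⊕ Fin m → F) :=
  LinearMap.mk₂ F sbil sbil_add_left (fun c u v => by rw [sbil_smul_left]; rfl) sbil_add_right
    (fun c u v => by rw [sbil_smul_right]; rfl)

theorem sForm_apply (u v : VV) : sForm F m u v = sbil u v := rfl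

theorem snondeg_even {W : Submodule F VV} (hW : SNondeg W) : Even (Module.finrank F W) :=
  even_finrank ((sForm F m).restrict W) (fun x => by simp [sForm_apply]) fun x hx => by
    by_contra hx0
    obtain ⟨z, hz, hne⟩ := hW x x.2 fun h => hx0 (Subtype.ext h)
    exact hne (by simpa [sForm_apply] using hx ⟨z, hz⟩)

theorem orth_disjoint {W : Submodule F VV} (hW : SNondeg W) : Disjoint W (orth W) := by
  rw [Submodule.disjoint_def]
  intro x hx hx'
  by_contra h0
  obtain ⟨z, hz, hne⟩ := hW x hx h0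
  exact hne (by rw [sbil_swap z x, hx' z hz, neg_zero])

theorem snondeg_orth {W : Submodule F VV} (hW : SNondeg W) : SNondeg (orth W) := by
  intro u hu hu0
  by_contra hcon
  push Not at hcon
  refine hu0 (sbil_ext fun x => ?_)
  have hdim := finrank_orth W
  have hsum : W ⊔ orth W = ⊤ := by
    refine Submodule.eq_top_of_finrank_eq (le_antisymm (Submodule.finrank_le _) ?_)
    have h1 := Submodule.finrank_sup_add_finrank_inf_eq W (orth W)
    rw [disjoint_iff.1 (orth_disjoint hW), finrank_bot] at h1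
    omega
  obtain ⟨a, ha, b, hb, rfl⟩ := Submodule.mem_sup.1 (hsum ▸ Submodule.mem_top : x ∈ W ⊔ orth W)
  rw [sbil_add_right, sbil_swap a u, hu a ha, hcon b hb, neg_zero, add_zero, sbil_zero_left]

theorem hasPlane_of_two {g : Sp} {W : Submodule F VV} (hW : Module.finrank F W = 2) (hnd : SNondeg W)
    (hinv : ∀ x ∈ W, g.1 *ᵥ x ∈ W) : HasPlane g := by
  obtain ⟨x, hx, hx0⟩ := Submodule.exists_mem_ne_zero_of_ne_bot (p := W) fun h => by
    rw [h, finrank_bot] at hW; exact absurd hW (by norm_num)
  obtain ⟨z, hz, hne⟩ := hnd x hx hx0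
  set y := (sbil x z)⁻¹ • z with hy
  have hxy : sbil x y = 1 := by rw [hy, sbil_smul_right, inv_mul_cancel₀ hne]
  have hyW : y ∈ W := W.smul_mem _ hz
  have hli : LinearIndependent F ![x, y] :=
    (LinearIndependent.pair_iff' hx0).2 fun c hc => by
      rw [← hc, sbil_smul_right, sbil_self, mul_zero] at hxy
      exact zero_ne_one hxy
  have hrange : Submodule.span F (Set.range ![x, y]) = Submodule.span F ({x, y} : Set VV) := by
    congr 1; simp [Matrix.range_cons, Set.pair_comm]
  have heq : Submodule.span F ({x, y} : Set VV) = W := by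
    refine Submodule.eq_of_le_of_finrank_eq (Submodule.span_le.2 (Set.insert_subset hx
      (Set.singleton_subset_iff.2 hyW))) ?_
    rw [← hrange, finrank_span_eq_card hli, Fintype.card_fin, hW]
  exact ⟨x, y, hxy, by rw [heq]; exact hinv x hx, by rw [heq]; exact hinv y hyW⟩

/-- A proper invariant non-degenerate subspace gives an invariant plane in dimension six. -/
theorem hasPlane_of_nondeg {g : Matrix.symplecticGroup (Fin 3) F} {W : Submodule F (Fin 3 ⊕ Fin 3 → F)}
    (hnd : SNondeg W) (hb : W ≠ ⊥) (ht : W ≠ ⊤) (hinv : ∀ x ∈ W, g.1 *ᵥ x ∈ W) : HasPlane g := by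
  obtain ⟨r, hr⟩ := snondeg_even hnd
  have h6 : Module.finrank F (Fin 3 ⊕ Fin 3 → F) = 6 := by
    rw [Module.finrank_pi, Fintype.card_sum, Fintype.card_fin]
  have hpos : Module.finrank F W ≠ 0 := fun h => hb (Submodule.finrank_eq_zero.1 h)
  have hlt : Module.finrank F W < 6 := h6 ▸ Submodule.finrank_lt ht
  rcases (show Module.finrank F W = 2 ∨ Module.finrank F W = 4 by omega) with h | h
  · exact hasPlane_of_two h hnd hinv
  · have hginv := mem_planeStab_of_le hinv
    have hinv' : ∀ z ∈ orth W, g.1 *ᵥ z ∈ orth W := fun z hz w hw => by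
      rw [← sbil_mulVec (g⁻¹) w, sp_inv_mulVec]
      exact hz _ (hginv w hw).2
    have h1 := finrank_orth W
    have h2 := Submodule.finrank_add_finrank_le_of_disjoint (orth_disjoint hnd)
    exact hasPlane_of_two (by omega) (snondeg_orth hnd) hinv'

theorem planeStab_center [Nonempty (Fin m)] (P : Submodule F VV) :
    Subgroup.center Sp ≤ planeStab P := fun z hz =>
  mem_planeStab_of_le fun x hx => by
    rcases mem_center_sp_iff.1 hz with h | h <;> rw [h]
    · rwa [one_mulVec]
    · rw [neg_mulVec, one_mulVec]; exact P.neg_mem hx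

theorem planeStab_ne_top {e f w : VV} (hef : sbil e f = 1)
    (hw : w ∉ Submodule.span F ({e, f} : Set VV)) (hwe : sbil w e ≠ 0) :
    planeStab (Submodule.span F ({e, f} : Set VV)) ≠ ⊤ := by
  intro ht
  set P := Submodule.span F ({e, f} : Set VV)
  have he : e ∈ P := Submodule.subset_span (by simp)
  have h1 := ((ht ▸ Subgroup.mem_top (stv (1 : F) w) : stv (1 : F) w ∈ planeStab P) e he).1
  rw [stv_mulVec, one_mul, add_comm] at h1
  have h2 := P.sub_mem h1 he
  rw [add_sub_cancel_right, Submodule.smul_mem_iff _ hwe] at h2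
  exact hw h2

end CfsgLib.NCover2.Symp6
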