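import Cfsg.Agent.Lib.NCover2.SympAlg

/-! Symplectic transformations in dimension six with one eigenvalue pair. -/

set_option autoImplicit false

namespace CfsgLib.NCover2.Symp6

open Polynomial Matrix CfsgLib.Classical

variable {F : Type*} [Field F]

local notation "V6" => (Fin 3 ⊕ Fin 3 → F)
local notation "M6" => Matrix (Fin 3 ⊕ Fin 3) (Fin 3 ⊕ Fin 3) F
local notation "Sp6" => Matrix.symplecticGroup (Fin 3) F

theorem skew_sq (t : F) (g : Sp6) :
    skewPart g ^ 2 = symPart t g ^ 2 + (2 * t) • symPart t g + (t ^ 2 - 4) • 1 := by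
  simp only [symPart, skewPart, sq, sub_mul, mul_sub, add_mul, mul_add, sp_val_inv_mul, sp_val_mul_inv,
    Matrix.smul_mul, Matrix.mul_smul, one_mul, mul_one]
  module

theorem skew_sym_comm (t : F) (g : Sp6) : skewPart g * symPart t g = symPart t g * skewPart g := by
  simp only [symPart, skewPart, sub_mul, mul_sub, add_mul, mul_add, sp_val_inv_mul, sp_val_mul_inv,
    Matrix.smul_mul, Matrix.mul_smul, one_mul, mul_one]
  abel

theorem skew_pow (g : Sp6) (n : ℕ) (u v : V6) :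
    sbil (skewPart g ^ n *ᵥ u) v = (-1) ^ n * sbil u (skewPart g ^ n *ᵥ v) := by
  induction n generalizing u v with
  | zero => simp
  | succ n ih =>
    rw [pow_succ' (skewPart g), ← mulVec_mulVec, skewPart_skew, ih, mulVec_mulVec,
      ← pow_succ, ← pow_succ']
    ring

theorem skew_shift (g : Sp6) (i j : ℕ) (u v : V6) :
    sbil (skewPart g ^ i *ᵥ u) (skewPart g ^ j *ᵥ v) = (-1) ^ i * sbil u (skewPart g ^ (i + j) *ᵥ v) := by
  rw [skew_pow, mulVec_mulVec, ← pow_add]

theorem exists_diag_ne_zero (h2 : (2 : F) ≠ 0) {A : M6} (hne : A ≠ 0)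
    (hsym : ∀ u v, sbil (A *ᵥ u) v = sbil (A *ᵥ v) u) : ∃ v, sbil (A *ᵥ v) v ≠ 0 := by
  by_contra hc
  push Not at hc
  refine hne (Matrix.ext_iff_mulVec.2 fun u => sbil_ext fun v => ?_)
  rw [zero_mulVec, sbil_zero_left]
  have h := hc (u + v)
  rw [mulVec_add, sbil_add_left, sbil_add_right, sbil_add_right, hc, hc, hsym v u] at h
  exact (mul_eq_zero.1 (show (2 : F) * sbil (A *ᵥ u) v = 0 by linear_combination h)).resolve_left h2

theorem not_skew_five (h2 : (2 : F) ≠ 0) (g : Sp6) (h5 : skewPart g ^ 5 = 0)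
    (h4 : skewPart g ^ 4 ≠ 0) : False := by
  set D := skewPart g
  obtain ⟨x, u, hxu⟩ : ∃ x u, sbil (D ^ 4 *ᵥ x) u ≠ 0 := by
    by_contra hc
    push Not at hc
    exact h4 (Matrix.ext_iff_mulVec.2 fun x => sbil_ext fun u => by rw [hc, zero_mulVec, sbil_zero_left])
  obtain ⟨y, hxy⟩ : ∃ y, sbil (D ^ 4 *ᵥ x) y = 1 :=
    ⟨(sbil (D ^ 4 *ᵥ x) u)⁻¹ • u, by rw [sbil_smul_right, inv_mul_cancel₀ hxu]⟩
  have halt : ∀ w, sbil (D ^ 4 *ᵥ w) w = 0 := fun w => by
    have h1 : sbil (D ^ 4 *ᵥ w) w = sbil w (D ^ 4 *ᵥ w) := by rw [skew_pow]; ring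
    rw [sbil_swap (D ^ 4 *ᵥ w) w] at h1
    exact (mul_eq_zero.1 (show (2 : F) * sbil (D ^ 4 *ᵥ w) w = 0 by linear_combination h1)).resolve_left h2
  let L : (Fin 7 → F) →ₗ[F] V6 := Fintype.linearCombination F
    ![x, D *ᵥ x, D ^ 2 *ᵥ x, D ^ 3 *ᵥ x, D ^ 4 *ᵥ x, y, D *ᵥ y]
  have hinj : Function.Injective L := by
    refine (injective_iff_map_eq_zero L).2 fun c hc => ?_
    have hz : ∀ n, 5 ≤ n → ∀ w, D ^ n *ᵥ w = 0 := fun n hn w => by
      rw [pow_eq_zero_of_le hn h5, zero_mulVec]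
    simp only [L, Fintype.linearCombination_apply, Fin.sum_univ_seven, Matrix.cons_val_zero, Matrix.cons_val_one,
      Matrix.cons_val] at hc
    have h1 : ∀ n, c 0 • (D ^ n *ᵥ x) + c 1 • (D ^ (n + 1) *ᵥ x) + c 2 • (D ^ (n + 2) *ᵥ x) +
        c 3 • (D ^ (n + 3) *ᵥ x) + c 4 • (D ^ (n + 4) *ᵥ x) + c 5 • (D ^ n *ᵥ y) +
        c 6 • (D ^ (n + 1) *ᵥ y) = 0 := fun n => by
      have := congrArg (fun w => D ^ n *ᵥ w) hc
      simpa only [mulVec_add, mulVec_smul, mulVec_mulVec, ← pow_succ, ← pow_add, mulVec_zero] using this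
    have p4 : ∀ a b : F, a • (D ^ 4 *ᵥ x) + b • (D ^ 4 *ᵥ y) = 0 → a = 0 ∧ b = 0 := fun a b h => by
      have e1 := congrArg (fun w => sbil w y) h
      have e2 := congrArg (fun w => sbil w x) h
      have e3 : sbil (D ^ 4 *ᵥ y) x = -1 := by
        have : sbil (D ^ 4 *ᵥ y) x = sbil y (D ^ 4 *ᵥ x) := by rw [skew_pow]; ring
        rw [this, sbil_swap, hxy]
      simp only [sbil_add_left, sbil_smul_left, hxy, halt, e3, sbil_zero_left] at e1 e2
      constructor
      · linear_combination e1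
      · linear_combination -e2
    have d4 := h1 4
    simp only [hz _ (show 5 ≤ 4 + 1 by norm_num), hz _ (show 5 ≤ 4 + 2 by norm_num),
      hz _ (show 5 ≤ 4 + 3 by norm_num), hz _ (show 5 ≤ 4 + 4 by norm_num), smul_zero, add_zero] at d4
    obtain ⟨c0, c5⟩ := p4 _ _ d4
    have d3 := h1 3
    simp only [c0, c5, zero_smul, zero_add, add_zero, hz _ (show 5 ≤ 3 + 2 by norm_num),
      hz _ (show 5 ≤ 3 + 3 by norm_num), hz _ (show 5 ≤ 3 + 4 by norm_num), smul_zero] at d3
    obtain ⟨c1, c6⟩ := p4 _ _ d3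
    have one : ∀ a : F, a • (D ^ 4 *ᵥ x) = 0 → a = 0 := fun a h =>
      (p4 a 0 (by rw [zero_smul, add_zero]; exact h)).1
    have d2 := h1 2
    simp only [c0, c5, c1, c6, zero_smul, zero_add, add_zero, hz _ (show 5 ≤ 2 + 3 by norm_num),
      hz _ (show 5 ≤ 2 + 4 by norm_num), smul_zero] at d2
    have c2 := one _ d2
    have d1 := h1 1
    simp only [c0, c5, c1, c6, c2, zero_smul, zero_add, add_zero, hz _ (show 5 ≤ 1 + 4 by norm_num),
      smul_zero] at d1
    have c3 := one _ d1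
    have d0 := h1 0
    simp only [c0, c5, c1, c6, c2, c3, zero_smul, zero_add, add_zero] at d0
    have c4 := one _ d0
    funext i
    fin_cases i <;> simp [c0, c1, c2, c3, c4, c5, c6]
  have := LinearMap.finrank_le_finrank_of_injective hinj
  rw [Module.finrank_fin_fun, finrank_V6] at this
  omega

theorem regular_skew_ne_zero (h2 : (2 : F) ≠ 0) {t : F} {g : Sp6} (h3 : symPart t g ^ 3 = 0)
    (hn : symPart t g ^ 2 ≠ 0) : symPart t g ^ 2 * skewPart g ≠ 0 := by
  intro h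
  set N := symPart t g with hN
  set D := skewPart g with hD
  have hsq : D ^ 2 = N ^ 2 + (2 * t) • N + (t ^ 2 - 4) • 1 := skew_sq t g
  have hN4 : N ^ 4 = 0 := pow_eq_zero_of_le (by norm_num) h3
  have h21 : N ^ 2 * N = 0 := by rw [← pow_succ, h3]
  have h22 : N ^ 2 * N ^ 2 = 0 := by rw [← pow_add, hN4]
  have hb : N ^ 2 * D ^ 2 = 0 := by rw [sq D, ← mul_assoc, h, zero_mul]
  rw [hsq, mul_add, mul_add, h22, Matrix.mul_smul, h21, smul_zero, add_zero, zero_add, Matrix.mul_smul,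
    mul_one, smul_eq_zero] at hb
  have ht : t ^ 2 - 4 = 0 := hb.resolve_right hn
  rw [ht, zero_smul, add_zero] at hsq
  have h4 : D ^ 4 = (4 * t ^ 2) • N ^ 2 := by
    rw [show 4 = 2 * 2 from rfl, pow_mul, hsq, sq (_ + _), add_mul, mul_add, mul_add]
    simp only [Matrix.smul_mul, Matrix.mul_smul, h22, h21, smul_smul]
    rw [show N * N ^ 2 = 0 by rw [← pow_succ', h3], smul_zero, ← sq N]
    simp only [add_zero, zero_add]
    congr 1; ring
  refine not_skew_five h2 g ?_ ?_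
  · rw [← hD, pow_succ, h4, Matrix.smul_mul, h, smul_zero]
  · rw [← hD, h4, sub_eq_zero.1 ht]
    refine smul_ne_zero ?_ hn
    rw [show (4 : F) * 4 = 2 * 2 * (2 * 2) by norm_num]
    simp [h2]

/-- The case of an eigenvalue pair different from `±1`. -/
theorem hasPlane_semisimple_type (h2 : (2 : F) ≠ 0) {t : F} (ht : t ^ 2 - 4 ≠ 0) {g : Sp6}
    (hN : symPart t g ^ 2 = 0) : HasPlane g := by
  set N := symPart t g with hNdef
  have hs : IsSelfAdj N := symPart_self t g
  set W := LinearMap.ker N.mulVecLin with hW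
  have hmem : ∀ v, v ∈ W ↔ N *ᵥ v = 0 := fun v => by rw [hW, LinearMap.mem_ker, mulVecLin_apply]
  by_cases hv : ∃ v ∈ W, sbil v (g.1 *ᵥ v) ≠ 0
  · obtain ⟨v, hv, hne⟩ := hv
    rw [hmem] at hv
    set w := (sbil v (g.1 *ᵥ v))⁻¹ • (g.1 *ᵥ v) with hw
    have e2 : g.1 *ᵥ (g.1 *ᵥ v) = t • (g.1 *ᵥ v) - v := by
      rw [mulVec_mulVec, g_g t g, sub_mulVec, add_mulVec, smul_mulVec, one_mulVec, ← symPart_comm,
        ← mulVec_mulVec, hv, mulVec_zero, zero_add]
    refine ⟨v, w, by rw [hw, sbil_smul_right, inv_mul_cancel₀ hne],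
      Submodule.mem_span_pair.2 ⟨0, sbil v (g.1 *ᵥ v), ?_⟩,
      Submodule.mem_span_pair.2 ⟨-(sbil v (g.1 *ᵥ v))⁻¹, t, ?_⟩⟩
    · rw [zero_smul, zero_add, hw, smul_smul, mul_inv_cancel₀ hne, one_smul]
    · rw [hw, mulVec_smul, e2]
      module
  exfalso
  push Not at hv
  set D := skewPart g with hD
  have hDW : ∀ v ∈ W, D *ᵥ v ∈ orth W := by
    intro v hvW u hu
    have h1 := hv _ (W.add_mem hu hvW)
    simp only [mulVec_add, sbil_add_left, sbil_add_right, hv u hu, hv v hvW, zero_add, add_zero] at h1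
    have e : sbil v (g.1 *ᵥ u) = -sbil u ((g⁻¹).1 *ᵥ v) := by rw [sbil_swap, sbil_inv_left]
    rw [e] at h1
    rw [hD, skewPart, sub_mulVec, sbil_sub_right]
    linear_combination h1
  have hDinj : Function.Injective D.mulVecLin := (injective_iff_map_eq_zero _).2 fun v hv0 => by
    rw [mulVecLin_apply] at hv0
    have h1 : D ^ 2 *ᵥ v = 0 := by rw [sq, ← mulVec_mulVec, hv0, mulVec_zero]
    rw [hD, skew_sq t g, ← hNdef, hN, zero_add, add_mulVec, smul_mulVec, smul_mulVec, one_mulVec] at h1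
    have h3 := congrArg (fun w => N *ᵥ w) h1
    simp only [mulVec_add, mulVec_smul, mulVec_mulVec, ← sq, hN, zero_mulVec, smul_zero, zero_add,
      mulVec_zero] at h3
    have h4 : N *ᵥ v = 0 := (smul_eq_zero.1 h3).resolve_left ht
    rw [h4, smul_zero, zero_add] at h1
    exact (smul_eq_zero.1 h1).resolve_left ht
  have hle1 : Module.finrank F W ≤ Module.finrank F (orth W) := by
    exact (Submodule.equivMapOfInjective _ hDinj W).finrank_eq.trans_le
      (Submodule.finrank_mono (Submodule.map_le_iff_le_comap.2 fun v hvW => hDW v hvW))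
  have hle2 : Module.finrank F (LinearMap.range N.mulVecLin) ≤ Module.finrank F W := by
    refine Submodule.finrank_mono ?_
    rintro _ ⟨v, rfl⟩
    rw [hmem, mulVecLin_apply, mulVec_mulVec, ← sq, hN, zero_mulVec]
  have hrn := LinearMap.finrank_range_add_finrank_ker N.mulVecLin
  rw [finrank_V6] at hrn
  have horth := finrank_orth_eq W
  obtain ⟨C, hC⟩ := exists_isCompl W
  have hC3 := Submodule.finrank_add_eq_of_isCompl hC
  rw [finrank_V6] at hC3
  let B : LinearMap.BilinForm F V6 := LinearMap.comp (sForm F 3) N.mulVecLin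
  have hB : ∀ u v, B u v = sbil (N *ᵥ u) v := fun u v => rfl
  have heven : Even (Module.finrank F C) := even_finrank (B.restrict C)
    (fun u => by simp only [LinearMap.BilinForm.restrict_apply, hB]; exact selfAdj_alt h2 hs _) fun u hu => by
      have h0 : N *ᵥ (u : V6) = 0 := sbil_ext fun z => by
        obtain ⟨a, ha, b, hb, rfl⟩ := Submodule.mem_sup.1
          (hC.sup_eq_top ▸ Submodule.mem_top : z ∈ W ⊔ C)
        have := hu ⟨b, hb⟩
        change sbil (N *ᵥ (u : V6)) b = 0 at this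
        rw [sbil_add_right, this, hs, (hmem a).1 ha, sbil_zero_right, add_zero, sbil_zero_left]
      exact Subtype.ext (Submodule.disjoint_def.1 hC.disjoint _ ((hmem _).2 h0) u.2)
  obtain ⟨r, hr⟩ := heven
  have : Module.finrank F W = Module.finrank F (LinearMap.ker N.mulVecLin) := rfl
  omega

/-- The case of an eigenvalue `±1`. -/
theorem hasPlane_or_middle (h2 : (2 : F) ≠ 0) {ε : F} (hε : ε ^ 2 = 1) {g : Sp6}
    (hN : symPart (2 * ε) g ^ 2 = 0) :
    HasPlane g ∨ (skewPart g ^ 3 = 0 ∧ skewPart g ^ 2 ≠ 0) := by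
  set D := skewPart g with hD
  have hg := eq_of_parts ε h2 hε hN
  rw [← hD] at hg
  have h4 : D ^ 4 = 0 := by
    have hsq : D ^ 2 = (2 * (2 * ε)) • symPart (2 * ε) g := by
      rw [hD, skew_sq (2 * ε) g, hN, zero_add, show (2 * ε) ^ 2 - 4 = 0 by linear_combination 4 * hε,
        zero_smul, add_zero]
    rw [show 4 = 2 * 2 from rfl, pow_mul, hsq, _root_.smul_pow, hN, smul_zero]
  by_cases h3 : D ^ 3 = 0
  · by_cases hd2 : D ^ 2 = 0
    · left
      rw [hd2, smul_zero, add_zero] at hg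
      by_cases h1 : D = 0
      · rw [h1, smul_zero, add_zero] at hg
        obtain ⟨x, hx⟩ := exists_ne (0 : V6)
        obtain ⟨y, hy⟩ := exists_sbil_eq_one hx
        refine ⟨x, y, hy, ?_, ?_⟩ <;> rw [hg, smul_mulVec, one_mulVec] <;>
          exact Submodule.smul_mem _ _ (Submodule.subset_span (by simp))
      · obtain ⟨v, hv⟩ := exists_diag_ne_zero h2 h1 fun u v => by
          rw [hD, skewPart_skew g u v, sbil_swap _ (skewPart g *ᵥ v)]
        set c := sbil v (D *ᵥ v) with hc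
        have hc0 : c ≠ 0 := by rw [hc, sbil_swap]; simpa using hv
        refine ⟨v, c⁻¹ • (D *ᵥ v), by rw [sbil_smul_right, inv_mul_cancel₀ hc0],
          Submodule.mem_span_pair.2 ⟨ε, (2 : F)⁻¹ * c, ?_⟩, Submodule.mem_span_pair.2 ⟨0, ε, ?_⟩⟩
        · rw [hg, add_mulVec, smul_mulVec, smul_mulVec, one_mulVec, smul_smul, mul_assoc,
            mul_inv_cancel₀ hc0, mul_one]
        · rw [hg, add_mulVec, smul_mulVec, smul_mulVec, one_mulVec, mulVec_smul, mulVec_mulVec, ← sq, hd2,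
            zero_mulVec, smul_zero, smul_zero, add_zero, zero_smul, zero_add]
    · exact .inr ⟨h3, hd2⟩
  left
  obtain ⟨v, hv⟩ := exists_diag_ne_zero h2 h3 fun u w => by
    rw [hD, skew_pow, sbil_swap _ u]; ring
  have hv' : sbil v (D ^ 3 *ᵥ v) ≠ 0 := by rw [sbil_swap]; simpa using hv
  let L : (Fin 4 → F) →ₗ[F] V6 := Fintype.linearCombination F fun i : Fin 4 => D ^ (i : ℕ) *ᵥ v
  set U := LinearMap.range L
  have hz : ∀ n, 4 ≤ n → ∀ w : V6, D ^ n *ᵥ w = 0 := fun n hn w => by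
    rw [pow_eq_zero_of_le hn h4, zero_mulVec]
  have hpowU : ∀ n, D ^ n *ᵥ v ∈ U := fun n => by
    by_cases hn : n < 4
    · exact ⟨Pi.single ⟨n, hn⟩ 1, by simp [L, Fintype.linearCombination_apply_single]⟩
    · rw [hz n (not_lt.1 hn)]; exact zero_mem _
  have hDU : ∀ u ∈ U, D *ᵥ u ∈ U := by
    rintro _ ⟨c, rfl⟩
    simp only [L, Fintype.linearCombination_apply, mulVec_sum, mulVec_smul, mulVec_mulVec, ← pow_succ']
    exact sum_mem fun i _ => U.smul_mem _ (hpowU _)
  refine hasPlane_of_nondeg (W := U) ?_ ?_ ?_ ?_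
  · rintro _ ⟨c, rfl⟩ hne
    have key : ∀ j, sbil (L c) (D ^ j *ᵥ v) = ∑ i : Fin 4, c i * ((-1) ^ (i : ℕ) *
        sbil v (D ^ ((i : ℕ) + j) *ᵥ v)) := fun j => by
      simp only [L, Fintype.linearCombination_apply]
      rw [← sForm_apply, map_sum, LinearMap.sum_apply]
      simp only [map_smul, LinearMap.smul_apply, sForm_apply, smul_eq_mul, hD, skew_shift]
    by_contra hcon
    push Not at hcon
    have hz' : ∀ n, 4 ≤ n → sbil v (D ^ n *ᵥ v) = 0 := fun n hn => by rw [hz n hn, sbil_zero_right]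
    have e : ∀ j, ∑ i : Fin 4, c i * ((-1) ^ (i : ℕ) * sbil v (D ^ ((i : ℕ) + j) *ᵥ v)) = 0 :=
      fun j => by rw [← key]; exact hcon _ (hpowU j)
    have e3 := e 3; have e2 := e 2; have e1 := e 1; have e0 := e 0
    simp [Fin.sum_univ_four, hz', hv'] at e3
    simp [Fin.sum_univ_four, hz', hv', e3] at e2
    simp [Fin.sum_univ_four, hz', hv', e3, e2] at e1
    simp [Fin.sum_univ_four, hz', hv', e3, e2, e1] at e0
    refine hne ?_
    rw [show c = 0 from funext fun i => by fin_cases i <;> simp [e0, e1, e2, e3], map_zero]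
  · intro h
    have h1 := hpowU 3
    rw [h, Submodule.mem_bot] at h1
    exact hv' (by rw [h1, sbil_zero_right])
  · intro h
    have h1 := LinearMap.finrank_range_le L
    rw [show LinearMap.range L = ⊤ from h, finrank_top, finrank_V6, Module.finrank_fin_fun] at h1
    omega
  · intro u hu
    rw [hg, add_mulVec, add_mulVec, smul_mulVec, smul_mulVec, smul_mulVec, one_mulVec, sq, ← mulVec_mulVec]
    exact add_mem (add_mem (U.smul_mem _ hu) (U.smul_mem _ (hDU _ (hDU _ hu)))) (U.smul_mem _ (hDU _ hu))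

end CfsgLib.NCover2.Symp6
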