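import Cfsg.Agent.Lib.NCover2.UnitaryCommon

/-! The adjoint of a matrix with respect to the standard Hermitian form. -/

set_option autoImplicit false

namespace CfsgLib.NCover2.Unitary

open Polynomial Matrix CfsgLib.Classical CfsgLib.Classical.Unitary

variable {F : Type*} [Field F] {σ : F →+* F} {q n : ℕ}

local notation "h" => uh σ
local notation "Mn" => Matrix (Fin n) (Fin n) F

/-- The adjoint matrix. -/
def adj (σ : F →+* F) (M : Mn) : Mn := (M.map σ)ᵀ

theorem adj_mul (A B : Mn) : adj σ (A * B) = adj σ B * adj σ A := by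
  simp [adj, Matrix.map_mul, Matrix.transpose_mul]

theorem adj_one : adj σ (1 : Mn) = 1 := by simp [adj]

theorem adj_add (A B : Mn) : adj σ (A + B) = adj σ A + adj σ B := by
  ext i j; simp [adj]

theorem adj_zero : adj σ (0 : Mn) = 0 := by ext i j; simp [adj]

theorem adj_sub (A B : Mn) : adj σ (A - B) = adj σ A - adj σ B := by
  ext i j; simp [adj]

theorem adj_smul (c : F) (A : Mn) : adj σ (c • A) = σ c • adj σ A := by
  ext i j; simp [adj]

theorem adj_adj (hu : UFrob σ q) (A : Mn) : adj σ (adj σ A) = A := by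
  ext i j; simp [adj, hu.invol]

theorem adj_pow (A : Mn) (k : ℕ) : adj σ (A ^ k) = adj σ A ^ k := by
  induction k with
  | zero => simp [adj_one]
  | succ k ih => rw [pow_succ, adj_mul, ih, ← pow_succ']

theorem adj_aeval (A : Mn) (p : F[X]) : adj σ (aeval A p) = aeval (adj σ A) (p.map σ) := by
  induction p using Polynomial.induction_on' with
  | add p q hp hq => rw [map_add, adj_add, hp, hq, Polynomial.map_add, map_add]
  | monomial k a =>
    rw [Polynomial.map_monomial, aeval_monomial, aeval_monomial, ← Algebra.smul_def, ← Algebra.smul_def,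
      adj_smul, adj_pow]

theorem uh_adj (hu : UFrob σ q) (M : Mn) (x y : Fin n → F) : h (M *ᵥ x) y = h x (adj σ M *ᵥ y) := by
  simp only [uh, adj, dotProduct, mulVec, Matrix.transpose_apply, Matrix.map_apply, Function.comp_apply,
    map_sum, map_mul, hu.invol, Finset.sum_mul, Finset.mul_sum]
  rw [Finset.sum_comm]
  exact Finset.sum_congr rfl fun i _ => Finset.sum_congr rfl fun j _ => by ring

theorem adj_eq_of_uh (hu : UFrob σ q) {A B : Mn} (hAB : ∀ x y, h (A *ᵥ x) y = h x (B *ᵥ y)) :
    adj σ A = B := Matrix.ext_iff_mulVec.2 fun y => uh_ext hu fun x => by rw [← uh_adj hu, hAB]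

theorem isometry_iff (hu : UFrob σ q) {P : Mn} :
    (∀ x y, h (P *ᵥ x) (P *ᵥ y) = h x y) ↔ adj σ P * P = 1 := by
  constructor
  · intro hP
    refine Matrix.ext_iff_mulVec.2 fun y => uh_ext hu fun x => ?_
    rw [← mulVec_mulVec, ← uh_adj hu, hP, one_mulVec]
  · intro hP x y
    rw [uh_adj hu, mulVec_mulVec, hP, one_mulVec]

theorem isometry_mul {P Q : Mn} (hP : ∀ x y, h (P *ᵥ x) (P *ᵥ y) = h x y)
    (hQ : ∀ x y, h (Q *ᵥ x) (Q *ᵥ y) = h x y) (x y : Fin n → F) :
    h ((P * Q) *ᵥ x) ((P * Q) *ᵥ y) = h x y := by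
  rw [← mulVec_mulVec, ← mulVec_mulVec, hP, hQ]

theorem det_mul_conj (hu : UFrob σ q) {P : Mn} (hP : ∀ x y, h (P *ᵥ x) (P *ᵥ y) = h x y) :
    P.det * σ P.det = 1 := by
  have := congrArg Matrix.det ((isometry_iff hu).1 hP)
  rwa [adj, det_mul, det_transpose, ← RingHom.mapMatrix_apply, ← RingHom.map_det, det_one,
    mul_comm] at this

end CfsgLib.NCover2.Unitary
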